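import Cfsg.Agent.LargeExtra.Tri.Basic
import Cfsg.Agent.Omega.EH3.Irr.Alg_m3
import Cfsg.Agent.ClassicalGeometry.TwoFamilies
import Cfsg.Agent.Mrg.Omega.EH3.NodeHom
import Mathlib.LinearAlgebra.BilinearForm.Properties
import Mathlib.RingTheory.LittleWedderburn
import Mathlib
import Cfsg.Agent.Nodes.MuSq
import Cfsg.Agent.Nodes.ShortSum
import Cfsg.Agent.Nodes.Unique
import Cfsg.Agent.Nodes.CardSup_m3
import Cfsg.Agent.Omega.KFacts_m3
import Cfsg.Agent.S0102
import Cfsg.Agent.S0262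
import Cfsg.Prelude.Def_LieTypeChar
import Cfsg.Agent.Mrg.Omega.EH3.Rank1.Suz
import Cfsg.Agent.KFacts.TwF4.OutTwo
import Cfsg.Agent.KFacts.TwF4.Perf
import Cfsg.Agent.FastGrp
import Cfsg.Agent.Prune
set_option linter.all false

section
prune_inst 0x7f00000000000000000000000000000000000000000000000000000000000000000000000000000000000000000000000000000000000000000000000000000000000000000000000000000000000000003fffffffffefffffffffffffffffbeffbdffffffff

section
prune_inst 0xfefffbebffbbdfffbf7e7fa7fdcffddfbdbffff6fffdcbbfe12bdfdbff4bf3cfe5fbaf8fefb8fecfe6e23410f87b53fbffffffe26fdc7ffffd5ff41ffbfe5fffffb50d51d6a83e1ffc6ff6fbf0778e7f000000000000000000000000000041000200000000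

-- part: Mrg/Omega/EH3/TCL/Form
section
prune_inst 0x200040000000000000000000000000000040064020000004040018040000000200301000088000000004000000010020000000a000400401800000080020001400000000090000802000000000000010000000000000000000000000000000
set_option linter.all false
open scoped Cfsg.Agent.FastGrp

-- part: Omega/EH3/TCL/Basic
section
/-!
# THEOREM 2C, abstract situation (helper465)

`TFam q b H O W X`: `V` a nondegenerate quadratic space over `F₂`, `H` a group of isometries, `O` an `H`-orbit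
of nonzero singular vectors spanning `V`, `W a` totally singular, `X a ≤ H` elementary abelian, both
equivariant, `[a^⊥, X a] ≤ W a`, `[W a, X a] ≤ ⟨a⟩`, and `x ↦ x v + v` induces a bijection `X a → a^⊥ / W a` for
`b a v = 1`.

The trilinear form `tri b v x y z = b (y s + s) (z v + v)`, `s = x v + v`.
-/

set_option autoImplicit false

namespace Cfsg.Agent.Omega.EH3.TCL

open Module Cfsg.Agent.LargeExtra.SiegFam Cfsg.Agent.LargeExtra.SiegFam.Lin

variable {V : Type*} [AddCommGroup V] [Module (ZMod 2) V]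

theorem z2 (v : V) : (2 : ℤ) • v = 0 := by rw [two_zsmul]; exact add_self v

theorem z4 (v : V) : (4 : ℤ) • v = 0 := by
  rw [show (4 : ℤ) = 2 * 2 from rfl, mul_smul]; exact z2 _

theorem z6 (v : V) : (6 : ℤ) • v = 0 := by
  rw [show (6 : ℤ) = 2 * 3 from rfl, mul_smul]; exact z2 _

theorem z8 (v : V) : (8 : ℤ) • v = 0 := by
  rw [show (8 : ℤ) = 2 * 4 from rfl, mul_smul]; exact z2 _

theorem n2 (v : V) : (2 : ℕ) • v = 0 := by rw [two_nsmul]; exact add_self v

theorem n4 (v : V) : (4 : ℕ) • v = 0 := by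
  rw [show (4 : ℕ) = 2 * 2 from rfl, mul_smul]; exact n2 _

theorem n6 (v : V) : (6 : ℕ) • v = 0 := by
  rw [show (6 : ℕ) = 2 * 3 from rfl, mul_smul]; exact n2 _

theorem n8 (v : V) : (8 : ℕ) • v = 0 := by
  rw [show (8 : ℕ) = 2 * 4 from rfl, mul_smul]; exact n2 _

/-- closes equations of sums in characteristic two -/
macro "v2" : tactic => `(tactic| (
  refine Cfsg.Agent.LargeExtra.SiegFam.Lin.eq_of_add ?_
  abel_nf
  try simp only [z2, z4, z6, z8, n2, n4, n6, n8, add_zero, zero_add, smul_zero]))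

example (u v w : V) : u + v + w + (w + v) = u := by v2

/-- the trilinear form -/
def tri (b : LinearMap.BilinForm (ZMod 2) V) (v : V) (x y z : V ≃ₗ[ZMod 2] V) : ZMod 2 :=
  b (y (x v + v) + (x v + v)) (z v + v)

/-- the abstract family -/
structure TFam (q : V → ZMod 2) (b : LinearMap.BilinForm (ZMod 2) V) (H : Subgroup (V ≃ₗ[ZMod 2] V))
    (O : Set V) (W : V → Submodule (ZMod 2) V) (X : V → Subgroup (V ≃ₗ[ZMod 2] V)) : Prop where
  alt : Alt b
  q_add : ∀ v w, q (v + w) = q v + q w + b v w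
  q_H : ∀ h ∈ H, ∀ v, q (h v) = q v
  zero : ∀ c ∈ O, c ≠ 0
  stable : ∀ h ∈ H, ∀ c ∈ O, h c ∈ O
  trans : ∀ c ∈ O, ∀ c' ∈ O, ∃ h ∈ H, h c = c'
  self_W : ∀ c ∈ O, c ∈ W c
  q_W : ∀ c ∈ O, ∀ v ∈ W c, q v = 0
  W_map : ∀ h ∈ H, ∀ c ∈ O, ∀ v ∈ W c, h v ∈ W (h c)
  X_le : ∀ c ∈ O, X c ≤ H
  X_map : ∀ h ∈ H, ∀ c ∈ O, ∀ x ∈ X c, h * x * h⁻¹ ∈ X (h c)
  X_fix : ∀ c ∈ O, ∀ x ∈ X c, x c = c
  X_comm : ∀ c ∈ O, ∀ x ∈ X c, ∀ y ∈ X c, ∀ v, x (y v) = y (x v)
  X_sq : ∀ c ∈ O, ∀ x ∈ X c, ∀ v, x (x v) = v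
  X_perp : ∀ c ∈ O, ∀ x ∈ X c, ∀ v, b c v = 0 → x v + v ∈ W c
  X_W : ∀ c ∈ O, ∀ x ∈ X c, ∀ v ∈ W c, x v = v ∨ x v = v + c
  inj : ∀ a ∈ O, ∀ x ∈ X a, ∀ v, b a v = 1 → x v + v ∈ W a → x = 1
  surj : ∀ a ∈ O, ∀ v, b a v = 1 → ∀ s, b a s = 0 → ∃ x ∈ X a, x v + v + s ∈ W a
  span : ∀ v, (∀ c ∈ O, b c v = 0) → v = 0

/-- the perpendicular vectors moved by multiples of `a` only -/
def NN (b : LinearMap.BilinForm (ZMod 2) V) (X : V → Subgroup (V ≃ₗ[ZMod 2] V)) (a v : V) : Prop :=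
  b a v = 0 ∧ ∀ x ∈ X a, x v = v ∨ x v = v + a

/-- the Siegel elements of `X a` -/
def XS (b : LinearMap.BilinForm (ZMod 2) V) (X : V → Subgroup (V ≃ₗ[ZMod 2] V)) (a : V)
    (x : V ≃ₗ[ZMod 2] V) : Prop :=
  x ∈ X a ∧ ∀ v, b a v = 0 → x v = v ∨ x v = v + a

/-- the directions of the Siegel elements -/
def RR (q : V → ZMod 2) (b : LinearMap.BilinForm (ZMod 2) V) (X : V → Subgroup (V ≃ₗ[ZMod 2] V))
    (a r : V) : Prop :=
  b a r = 0 ∧ ∃ x ∈ X a, ∀ v, x v = sg q b a r v

namespace TFam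

variable {q : V → ZMod 2} {b : LinearMap.BilinForm (ZMod 2) V} {H : Subgroup (V ≃ₗ[ZMod 2] V)} {O : Set V}
  {W : V → Submodule (ZMod 2) V} {X : V → Subgroup (V ≃ₗ[ZMod 2] V)}

theorem comm (F : TFam q b H O W X) (v w : V) : b v w = b w v := F.alt.comm v w

theorem self (F : TFam q b H O W X) (v : V) : b v v = 0 := F.alt.self v

theorem q_zero (F : TFam q b H O W X) : q 0 = 0 := by
  have h := F.q_add 0 0
  rw [add_zero, map_zero, add_zero, zadd] at h
  exact h

theorem b_eq (F : TFam q b H O W X) (v w : V) : b v w = q (v + w) + q v + q w := by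
  rw [F.q_add]
  generalize q v = x, q w = y, b v w = z
  revert x y z; decide

theorem q_self (F : TFam q b H O W X) {c : V} (hc : c ∈ O) : q c = 0 := F.q_W c hc c (F.self_W c hc)

theorem b_H (F : TFam q b H O W X) {h : V ≃ₗ[ZMod 2] V} (hh : h ∈ H) (v w : V) :
    b (h v) (h w) = b v w := by
  rw [F.b_eq, F.b_eq, ← map_add, F.q_H h hh, F.q_H h hh, F.q_H h hh]

theorem b_W (F : TFam q b H O W X) {c : V} (hc : c ∈ O) {v w : V} (hv : v ∈ W c) (hw : w ∈ W c) :
    b v w = 0 := by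
  rw [F.b_eq, F.q_W c hc _ ((W c).add_mem hv hw), F.q_W c hc v hv, F.q_W c hc w hw]; rfl

theorem perp_W (F : TFam q b H O W X) {c : V} (hc : c ∈ O) {v : V} (hv : v ∈ W c) : b c v = 0 :=
  F.b_W hc (F.self_W c hc) hv

theorem ladd (v w u : V) : b (v + w) u = b v u + b w u := by
  rw [map_add, LinearMap.add_apply]

section one

variable {a : V}

theorem X_H (F : TFam q b H O W X) (ha : a ∈ O) {x : V ≃ₗ[ZMod 2] V} (hx : x ∈ X a) : x ∈ H :=
  F.X_le a ha hx

theorem b_X (F : TFam q b H O W X) (ha : a ∈ O) {x : V ≃ₗ[ZMod 2] V} (hx : x ∈ X a) (v w : V) :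
    b (x v) (x w) = b v w := F.b_H (F.X_H ha hx) v w

/-- `b (x v) w = b v (x w)` -/
theorem b_adj (F : TFam q b H O W X) (ha : a ∈ O) {x : V ≃ₗ[ZMod 2] V} (hx : x ∈ X a) (v w : V) :
    b (x v) w = b v (x w) := by
  rw [← F.b_X ha hx v (x w), F.X_sq a ha x hx]

/-- `b (x v + v) w = b v (x w + w)` -/
theorem b_adj' (F : TFam q b H O W X) (ha : a ∈ O) {x : V ≃ₗ[ZMod 2] V} (hx : x ∈ X a) (v w : V) :
    b (x v + v) w = b v (x w + w) := by
  rw [ladd, map_add, F.b_adj ha hx]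

theorem b_fix (F : TFam q b H O W X) (ha : a ∈ O) {x : V ≃ₗ[ZMod 2] V} (hx : x ∈ X a) (v : V) :
    b a (x v) = b a v := by
  rw [← F.b_adj ha hx, F.X_fix a ha x hx]

/-- `x v + v ∈ a^⊥` -/
theorem b_delta (F : TFam q b H O W X) (ha : a ∈ O) {x : V ≃ₗ[ZMod 2] V} (hx : x ∈ X a) (v : V) :
    b a (x v + v) = 0 := by
  rw [map_add, F.b_fix ha hx, zadd]

/-- (B6) -/
theorem b_fix_self (F : TFam q b H O W X) (ha : a ∈ O) {x : V ≃ₗ[ZMod 2] V} (hx : x ∈ X a) {v : V}
    (hv : b a v = 0) : b v (x v) = 0 := by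
  have h1 := F.q_W a ha _ (F.X_perp a ha x hx v hv)
  rw [F.q_add, F.q_H x (F.X_H ha hx), zadd, zero_add] at h1
  rw [F.comm]; exact h1

/-- the fixed vectors and `W a ^⊥` -/
theorem eq_of_perp (F : TFam q b H O W X) {a d : V} (h : ∀ v, b a v = 0 → b d v = 0) : d = 0 ∨ d = a := by
  by_cases h0 : d = 0
  · exact Or.inl h0
  · right
    obtain ⟨v1, h1⟩ := F.alt.exists_ne h0
    have h2 : b a v1 = 1 := zm_ne fun h2 => by rw [h v1 h2] at h1; exact zero_ne_one h1
    apply eq_of_add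
    apply F.alt.nondeg
    intro v
    rw [ladd]
    rcases zm (b a v) with h3 | h3
    · rw [h v h3, h3, add_zero]
    · have h4 : b a (v + v1) = 0 := by rw [map_add, h3, h2]; decide
      have h5 := h _ h4
      rw [map_add, h1] at h5
      rw [h3, h5]

end one

end TFam

end Cfsg.Agent.Omega.EH3.TCL
end

-- part: Mrg/Omega/EH3/TCL/Form
section
section


/-!
# THEOREM 2C: the trilinear form, `NN`, `XS`, `RR` (helper465)
-/

set_option autoImplicit false

namespace Cfsg.Agent.Omega.EH3.TCL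

open Module Cfsg.Agent.LargeExtra.SiegFam Cfsg.Agent.LargeExtra.SiegFam.Lin

variable {V : Type*} [AddCommGroup V] [Module (ZMod 2) V]
variable {q : V → ZMod 2} {b : LinearMap.BilinForm (ZMod 2) V} {H : Subgroup (V ≃ₗ[ZMod 2] V)} {O : Set V}
  {W : V → Submodule (ZMod 2) V} {X : V → Subgroup (V ≃ₗ[ZMod 2] V)}

/-- transvections -/
def tv (b : LinearMap.BilinForm (ZMod 2) V) (n v : V) : V := v + b n v • n

theorem mul_app (x y : V ≃ₗ[ZMod 2] V) (v : V) : (x * y) v = x (y v) := rfl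

theorem inv_app (x : V ≃ₗ[ZMod 2] V) (v : V) : x (x⁻¹ v) = v := x.apply_symm_apply v

theorem app_inv (x : V ≃ₗ[ZMod 2] V) (v : V) : x⁻¹ (x v) = v := x.symm_apply_apply v

theorem one_app (v : V) : (1 : V ≃ₗ[ZMod 2] V) v = v := rfl

namespace TFam

/-! ### calculations with Siegel maps -/

theorem sg_add_v (r a v w : V) : sg q b a r (v + w) = sg q b a r v + sg q b a r w := by
  simp only [sg, map_add, add_smul, mul_add]
  v2

theorem sg_zero_r (F : TFam q b H O W X) (a v : V) : sg q b a 0 v = v := by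
  rw [sg, F.q_zero]; simp

theorem sg_a_r (F : TFam q b H O W X) {a : V} (hq : q a = 0) (v : V) : sg q b a a v = v := by
  rw [sg, hq, zero_mul, zero_smul, add_zero]; v2

theorem sg_fix_a (F : TFam q b H O W X) {a r : V} (h : b a r = 0) : sg q b a r a = a := by
  rw [sg, F.comm r a, h, F.self]; simp

theorem b_sg (F : TFam q b H O W X) {a r : V} (h : b a r = 0) (v : V) : b a (sg q b a r v) = b a v := by
  rw [sg, map_add, map_add, map_add, map_smul, map_smul, map_smul, F.self, h]; simp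

theorem sg_sg (F : TFam q b H O W X) {a r s : V} (hr : b a r = 0) (hs : b a s = 0) (v : V) :
    sg q b a r (sg q b a s v) = sg q b a (r + s) v := by
  rw [sg, b_sg F hs]
  rw [sg, sg, F.q_add, ladd]
  simp only [map_add, map_smul, smul_eq_mul]
  rw [F.comm r a, hr, F.comm r s]
  rcases zm (b a v) with h1 | h1 <;> rw [h1]
  · simp only [mul_zero, zero_smul, add_zero, zero_mul, add_smul]; v2
  · simp only [mul_zero, one_smul, add_zero, zero_mul, add_smul, smul_add, mul_one, one_mul]; v2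

theorem sg_invol (F : TFam q b H O W X) {a r : V} (hr : b a r = 0) (v : V) :
    sg q b a r (sg q b a r v) = v := by
  rw [F.sg_sg hr hr, add_self, F.sg_zero_r]

theorem map_sg (F : TFam q b H O W X) {h : V ≃ₗ[ZMod 2] V} (hh : h ∈ H) (a r v : V) :
    h (sg q b a r v) = sg q b (h a) (h r) (h v) := by
  rw [sg, sg, map_add, map_add, map_add, map_smul, map_smul, map_smul, F.b_H hh, F.b_H hh, F.q_H h hh]

theorem sg_swap {a r : V} (ha : q a = 0) (hr : q r = 0) (v : V) :
    sg q b a r v = sg q b r a v := by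
  rw [sg, sg, ha, hr]; simp only [zero_mul, zero_smul, add_zero]; abel

/-! ### the trilinear form -/

section one

variable {a v : V} {x y z x' y' z' : V ≃ₗ[ZMod 2] V}

theorem delta_mul (x y : V ≃ₗ[ZMod 2] V) (v : V) :
    (x * y) v + v = (x v + v) + (y v + v) + (x (y v + v) + (y v + v)) := by
  rw [mul_app, map_add]; v2

/-- `s_{xy} = s_x + s_y` modulo `W` -/
theorem delta_mul_W (F : TFam q b H O W X) (ha : a ∈ O) (hx : x ∈ X a) (hy : y ∈ X a) (v : V) :
    ∃ w ∈ W a, (x * y) v + v = (x v + v) + (y v + v) + w :=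
  ⟨_, F.X_perp a ha x hx _ (F.b_delta ha hy v), delta_mul x y v⟩

theorem dd_W (F : TFam q b H O W X) (ha : a ∈ O) (hx : x ∈ X a) (hy : y ∈ X a) (v : V) :
    y (x v + v) + (x v + v) ∈ W a := F.X_perp a ha y hy _ (F.b_delta ha hx v)

theorem tri_12 (F : TFam q b H O W X) (ha : a ∈ O) (hx : x ∈ X a) (hy : y ∈ X a) (v : V) :
    tri b v x y z = tri b v y x z := by
  have h : y (x v + v) + (x v + v) = x (y v + v) + (y v + v) := by
    rw [map_add, map_add, F.X_comm a ha y hy x hx]; v2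
  rw [tri, tri, h]

theorem tri_13 (F : TFam q b H O W X) (ha : a ∈ O) (hy : y ∈ X a) (v : V) :
    tri b v x y z = tri b v z y x := by
  rw [tri, tri, F.b_adj' ha hy, F.comm]

theorem tri_23 (F : TFam q b H O W X) (ha : a ∈ O) (hx : x ∈ X a) (hy : y ∈ X a) (hz : z ∈ X a) (v : V) :
    tri b v x y z = tri b v x z y := by
  rw [F.tri_12 ha hx hy, F.tri_13 ha hx, F.tri_12 ha hz hx]

theorem tri_mul3 (F : TFam q b H O W X) (ha : a ∈ O) (hx : x ∈ X a) (hy : y ∈ X a) (hz : z ∈ X a)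
    (hz' : z' ∈ X a) (v : V) : tri b v x y (z * z') = tri b v x y z + tri b v x y z' := by
  obtain ⟨w, hw, e⟩ := F.delta_mul_W ha hz hz' v
  rw [tri, tri, tri, e, map_add, map_add, F.b_W ha (F.dd_W ha hx hy v) hw, add_zero]

theorem tri_mul1 (F : TFam q b H O W X) (ha : a ∈ O) (hx : x ∈ X a) (hx' : x' ∈ X a) (hy : y ∈ X a)
    (hz : z ∈ X a) (v : V) : tri b v (x * x') y z = tri b v x y z + tri b v x' y z := by
  rw [F.tri_13 ha hy, F.tri_mul3 ha hz hy hx hx', F.tri_13 ha hy, F.tri_13 (x := z) ha hy]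

theorem tri_mul2 (F : TFam q b H O W X) (ha : a ∈ O) (hx : x ∈ X a) (hy : y ∈ X a) (hy' : y' ∈ X a)
    (hz : z ∈ X a) (v : V) : tri b v x (y * y') z = tri b v x y z + tri b v x y' z := by
  rw [F.tri_12 ha hx ((X a).mul_mem hy hy'), F.tri_mul1 ha hy hy' hx hz, F.tri_12 ha hy hx,
    F.tri_12 ha hy' hx]

theorem tri_alt (F : TFam q b H O W X) (ha : a ∈ O) (hx : x ∈ X a) (hy : y ∈ X a) (v : V) :
    tri b v x y x = 0 := by
  rw [tri, ladd, F.self, add_zero, F.comm]
  exact F.b_fix_self ha hy (F.b_delta ha hx v)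

theorem tri_alt1 (F : TFam q b H O W X) (ha : a ∈ O) (hx : x ∈ X a) (hz : z ∈ X a) (v : V) :
    tri b v x x z = 0 := by
  rw [F.tri_23 ha hx hx hz]; exact F.tri_alt ha hx hz v

theorem tri_alt2 (F : TFam q b H O W X) (ha : a ∈ O) (hx : x ∈ X a) (hz : z ∈ X a) (v : V) :
    tri b v x z z = 0 := by
  rw [F.tri_13 ha hz]; exact F.tri_alt1 ha hz hx v

/-- the value for representatives -/
theorem tri_rep (F : TFam q b H O W X) (ha : a ∈ O) (hx : x ∈ X a) (hy : y ∈ X a) (hz : z ∈ X a)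
    {v t u : V} (ht : y v + v + t ∈ W a) (hu : z v + v + u ∈ W a) :
    b (x t + t) u = tri b v y x z := by
  have e1 : x t + t = (x (y v + v) + (y v + v)) + (x (y v + v + t) + (y v + v + t)) := by
    simp only [map_add]; v2
  have e2 : u = (z v + v) + (z v + v + u) := by v2
  have hpz : b a (z v + v) = 0 := F.b_delta ha hz v
  have h1 : ∀ w ∈ W a, b (x (y v + v) + (y v + v)) w = 0 := fun w hw =>
    F.b_W ha (F.dd_W ha hy hx v) hw
  have h2 : x (y v + v + t) + (y v + v + t) = 0 ∨ x (y v + v + t) + (y v + v + t) = a := by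
    rcases F.X_W a ha x hx _ ht with h | h
    · left; rw [h]; exact add_self _
    · right; rw [h]; v2
  rw [tri, e1, ladd]
  have hbu : b a u = 0 := by
    rw [e2, map_add, hpz, zero_add]; exact F.perp_W ha hu
  have h3 : b (x (y v + v + t) + (y v + v + t)) u = 0 := by
    rcases h2 with h | h
    · rw [h, map_zero, LinearMap.zero_apply]
    · rw [h]; exact hbu
  rw [h3, add_zero]
  conv_lhs => rw [e2]
  rw [map_add, h1 _ hu, add_zero]

theorem XS_tri (F : TFam q b H O W X) (ha : a ∈ O) (hx : XS b X a x) (hy : y ∈ X a) (hz : z ∈ X a) (v : V) :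
    tri b v x y z = 0 := by
  rw [F.tri_12 ha hx.1 hy, tri]
  have hpz : b a (z v + v) = 0 := F.b_delta ha hz v
  rcases hx.2 _ (F.b_delta ha hy v) with h | h
  · rw [h, add_self, map_zero, LinearMap.zero_apply]
  · rw [h]
    have : y v + v + a + (y v + v) = a := by v2
    rw [this]; exact hpz

theorem XS_of_tri (F : TFam q b H O W X) (ha : a ∈ O) (hx : x ∈ X a) (hv : b a v = 1)
    (h : ∀ y ∈ X a, ∀ z ∈ X a, tri b v y x z = 0) : XS b X a x := by
  refine ⟨hx, fun t ht => ?_⟩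
  have key : x t + t = 0 ∨ x t + t = a := by
    apply F.eq_of_perp
    intro u hu
    obtain ⟨y, hy, hy'⟩ := F.surj a ha v hv t ht
    obtain ⟨z, hz, hz'⟩ := F.surj a ha v hv u hu
    rw [F.tri_rep ha hx hy hz hy' hz']
    exact h y hy z hz
  rcases key with h1 | h1
  · left; exact eq_of_add h1
  · right
    calc x t = x t + t + t := by v2
      _ = t + a := by rw [h1]; v2

theorem exists_tri (F : TFam q b H O W X) (ha : a ∈ O) (hx : x ∈ X a) (hv : b a v = 1) (h : ¬ XS b X a x) :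
    ∃ y ∈ X a, ∃ z ∈ X a, tri b v y x z = 1 := by
  by_contra hcon
  push Not at hcon
  apply h
  apply F.XS_of_tri ha hx hv
  intro y hy z hz
  rcases zm (tri b v y x z) with h1 | h1
  · exact h1
  · exact absurd h1 (hcon y hy z hz)

/-! ### `NN` -/

theorem NN_add (F : TFam q b H O W X) {s t : V} (hs : NN b X a s) (ht : NN b X a t) :
    NN b X a (s + t) := by
  refine ⟨by rw [map_add, hs.1, ht.1, add_zero], fun x hx => ?_⟩
  rw [map_add]
  rcases hs.2 x hx with h1 | h1 <;> rcases ht.2 x hx with h2 | h2 <;> rw [h1, h2]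
  · left; rfl
  · right; v2
  · right; v2
  · left; v2

theorem NN_W (F : TFam q b H O W X) (ha : a ∈ O) {s : V} (hs : s ∈ W a) : NN b X a s :=
  ⟨F.perp_W ha hs, fun x hx => F.X_W a ha x hx s hs⟩

theorem NN_orth (F : TFam q b H O W X) (ha : a ∈ O) {s : V} (hs : ∀ w ∈ W a, b s w = 0) : NN b X a s := by
  refine ⟨by rw [F.comm]; exact hs a (F.self_W a ha), fun x hx => ?_⟩
  have key : x s + s = 0 ∨ x s + s = a := by
    apply F.eq_of_perp
    intro u hu
    rw [F.b_adj' ha hx]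
    exact hs _ (F.X_perp a ha x hx u hu)
  rcases key with h1 | h1
  · left; exact eq_of_add h1
  · right
    calc x s = x s + s + s := by v2
      _ = s + a := by rw [h1]; v2

/-- `s_x ∈ NN` if and only if `x` is Siegel -/
theorem XS_of_NN (F : TFam q b H O W X) (ha : a ∈ O) (hx : x ∈ X a) (hv : b a v = 1) {s : V}
    (h : x v + v + s ∈ W a) (hs : NN b X a s) : XS b X a x := by
  apply F.XS_of_tri ha hx hv
  intro y hy z hz
  rw [F.tri_12 ha hy hx, tri]
  have h1 : NN b X a (x v + v) := by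
    have : x v + v = (x v + v + s) + s := by v2
    rw [this]; exact F.NN_add (F.NN_W ha h) hs
  have hpz : b a (z v + v) = 0 := F.b_delta ha hz v
  rcases h1.2 y hy with h2 | h2
  · rw [h2, add_self, map_zero, LinearMap.zero_apply]
  · rw [h2]
    have : x v + v + a + (x v + v) = a := by v2
    rw [this]; exact hpz

theorem NN_of_XS (F : TFam q b H O W X) (ha : a ∈ O) (hx : XS b X a x) (v : V) {s : V}
    (h : x v + v + s ∈ W a) : NN b X a s := by
  have h1 : NN b X a (x v + v) := by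
    refine ⟨F.b_delta ha hx.1 v, fun y hy => ?_⟩
    have e : y (x v + v) + (x v + v) = x (y v + v) + (y v + v) := by
      rw [map_add, map_add, F.X_comm a ha y hy x hx.1]; v2
    rcases hx.2 _ (F.b_delta ha hy v) with h2 | h2
    · left
      rw [h2, add_self] at e
      exact eq_of_add e
    · right
      rw [h2] at e
      calc y (x v + v) = (y (x v + v) + (x v + v)) + (x v + v) := by v2
        _ = x v + v + a := by rw [e]; v2
  have : s = (x v + v) + (x v + v + s) := by v2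
  rw [this]
  exact F.NN_add h1 (F.NN_W ha h)

/-! ### `XS` and `RR` -/

/-- a Siegel element is `sg a (x v + v)` -/
theorem XS_eq_sg (F : TFam q b H O W X) (ha : a ∈ O) (hx : XS b X a x) (hv : b a v = 1) (w : V) :
    x w = sg q b a (x v + v) w := by
  have hperp : ∀ w, b a w = 0 → x w = sg q b a (x v + v) w := by
    intro w hw
    rw [sg, hw, zero_smul, add_zero, mul_zero, zero_smul, add_zero, F.b_adj' ha hx.1]
    rcases hx.2 w hw with h1 | h1
    · rw [h1, add_self, map_zero, zero_smul, add_zero]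
    · have : x w + w = a := by rw [h1]; v2
      rw [this, F.comm, hv, one_smul]; exact h1
  have hv1 : x v = sg q b a (x v + v) v := by
    rw [sg, hv, one_smul, mul_one, F.q_add, F.q_H x (F.X_H ha hx.1), zadd, zero_add, ladd, F.self,
      add_zero]
    v2
  rcases zm (b a w) with h1 | h1
  · exact hperp w h1
  · have h2 : b a (w + v) = 0 := by rw [map_add, h1, hv]; decide
    have h3 := hperp _ h2
    rw [map_add, sg_add_v] at h3
    rw [← hv1] at h3
    exact add_right_cancel h3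

theorem RR_of_XS (F : TFam q b H O W X) (ha : a ∈ O) (hx : XS b X a x) (hv : b a v = 1) :
    RR q b X a (x v + v) :=
  ⟨F.b_delta ha hx.1 v, x, hx.1, F.XS_eq_sg ha hx hv⟩

theorem RR_XS (F : TFam q b H O W X) {r : V} (hx : x ∈ X a) (h : ∀ v, x v = sg q b a r v) :
    XS b X a x := by
  refine ⟨hx, fun v hv => ?_⟩
  rw [h v, sg_perp hv]
  rcases zm (b r v) with h1 | h1
  · left; rw [h1, zero_smul, add_zero]
  · right; rw [h1, one_smul]

theorem RR_a (F : TFam q b H O W X) (ha : a ∈ O) : RR q b X a a :=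
  ⟨F.self a, 1, (X a).one_mem, fun v => by rw [F.sg_a_r (F.q_self ha)]; rfl⟩

theorem RR_zero (F : TFam q b H O W X) : RR q b X a 0 :=
  ⟨map_zero _, 1, (X a).one_mem, fun v => by rw [F.sg_zero_r]; rfl⟩

theorem RR_add (F : TFam q b H O W X) {r s : V} (hr : RR q b X a r) (hs : RR q b X a s) :
    RR q b X a (r + s) := by
  obtain ⟨hr, x, hx, hx'⟩ := hr
  obtain ⟨hs, y, hy, hy'⟩ := hs
  refine ⟨by rw [map_add, hr, hs, add_zero], x * y, (X a).mul_mem hx hy, fun v => ?_⟩
  rw [mul_app, hx', hy', F.sg_sg hr hs]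

theorem RR_W (F : TFam q b H O W X) (ha : a ∈ O) {r : V} (hr : RR q b X a r) (hW : r ∈ W a) :
    r = 0 ∨ r = a := by
  obtain ⟨hr, x, hx, hx'⟩ := hr
  obtain ⟨v, hv⟩ := F.alt.exists_ne (F.zero a ha)
  have h1 := hx' v
  rw [sg_one hv] at h1
  have h2 : x v + v = b r v • a + r + q r • a := by rw [h1]; v2
  have h3 : x = 1 := by
    apply F.inj a ha x hx v hv
    rw [h2]
    exact (W a).add_mem ((W a).add_mem ((W a).smul_mem _ (F.self_W a ha)) hW)
      ((W a).smul_mem _ (F.self_W a ha))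
  rw [h3, one_app, add_self] at h2
  have h4 : r = (b r v + q r) • a := by
    apply eq_of_add
    rw [add_smul, h2]; abel
  rcases zm (b r v + q r) with h5 | h5
  · left; rw [h4, h5, zero_smul]
  · right; rw [h4, h5, one_smul]

theorem RR_NN (F : TFam q b H O W X) (ha : a ∈ O) {r : V} (hr : RR q b X a r) : NN b X a r := by
  obtain ⟨hr, x, hx, hx'⟩ := hr
  obtain ⟨v, hv⟩ := F.alt.exists_ne (F.zero a ha)
  apply F.NN_of_XS ha (F.RR_XS hx hx') v
  have h1 := hx' v
  rw [sg_one hv] at h1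
  have h2 : x v + v + r = b r v • a + q r • a := by rw [h1]; v2
  rw [h2]
  exact (W a).add_mem ((W a).smul_mem _ (F.self_W a ha)) ((W a).smul_mem _ (F.self_W a ha))

/-- `NN = RR + W` -/
theorem NN_eq (F : TFam q b H O W X) (ha : a ∈ O) {s : V} (hs : NN b X a s) :
    ∃ r, RR q b X a r ∧ s + r ∈ W a := by
  obtain ⟨v, hv⟩ := F.alt.exists_ne (F.zero a ha)
  obtain ⟨x, hx, hx'⟩ := F.surj a ha v hv s hs.1
  have h1 := F.XS_of_NN ha hx hv hx' hs
  refine ⟨x v + v, F.RR_of_XS ha h1 hv, ?_⟩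
  rw [add_comm]; exact hx'

/-! ### equivariance -/

theorem X_map' (F : TFam q b H O W X) {h : V ≃ₗ[ZMod 2] V} (hh : h ∈ H) (ha : a ∈ O) (hx : x ∈ X (h a)) :
    h⁻¹ * x * h ∈ X a := by
  have := F.X_map h⁻¹ (H.inv_mem hh) (h a) (F.stable h hh a ha) x hx
  rwa [app_inv, inv_inv] at this

theorem NN_map (F : TFam q b H O W X) {h : V ≃ₗ[ZMod 2] V} (hh : h ∈ H) (ha : a ∈ O) {s : V}
    (hs : NN b X a s) : NN b X (h a) (h s) := by
  refine ⟨by rw [F.b_H hh]; exact hs.1, fun x hx => ?_⟩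
  have h1 := F.X_map' hh ha hx
  rcases hs.2 _ h1 with h2 | h2
  · left
    have := congrArg h h2
    rw [mul_app, mul_app, inv_app] at this
    exact this
  · right
    have := congrArg h h2
    rw [mul_app, mul_app, inv_app, map_add] at this
    exact this

theorem RR_map (F : TFam q b H O W X) {h : V ≃ₗ[ZMod 2] V} (hh : h ∈ H) (ha : a ∈ O) {r : V}
    (hr : RR q b X a r) : RR q b X (h a) (h r) := by
  obtain ⟨hr, x, hx, hx'⟩ := hr
  refine ⟨by rw [F.b_H hh]; exact hr, h * x * h⁻¹, F.X_map h hh a ha x hx, fun v => ?_⟩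
  rw [mul_app, mul_app, hx', F.map_sg hh, inv_app]

/-- (B4) -/
theorem NN_of_sg (F : TFam q b H O W X) (ha : a ∈ O) {y : V} (hy : b a y = 0) {h : V ≃ₗ[ZMod 2] V}
    (hh : h ∈ H) (he : ∀ v, h v = sg q b a y v) : NN b X a y := by
  refine ⟨hy, fun x hx => ?_⟩
  have hha : h a = a := by rw [he, F.sg_fix_a hy]
  have h1 : h * x * h⁻¹ * x ∈ X a := by
    have := F.X_map h hh a ha x hx
    rw [hha] at this
    exact (X a).mul_mem this hx
  have hinv : ∀ v, h⁻¹ v = sg q b a y v := by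
    intro v
    have : h (sg q b a y v) = v := by rw [he, F.sg_invol hy]
    rw [← this, app_inv, this]
  have hxy : b a (x y) = 0 := by rw [F.b_fix ha hx]; exact hy
  have h2 : RR q b X a (y + x y) := by
    refine ⟨by rw [map_add, hy, hxy, add_zero], _, h1, fun v => ?_⟩
    rw [mul_app, mul_app, mul_app, hinv, he, F.map_sg (F.X_H ha hx), F.X_fix a ha x hx,
      F.X_sq a ha x hx, F.sg_sg hy hxy]
  have h3 : y + x y ∈ W a := by rw [add_comm]; exact F.X_perp a ha x hx y hy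
  rcases F.RR_W ha h2 h3 with h4 | h4
  · left; exact (eq_of_add h4).symm
  · right
    calc x y = y + x y + y := by v2
      _ = y + a := by rw [h4]; v2

end one

end TFam

end Cfsg.Agent.Omega.EH3.TCL

end

section


/-!
# THEOREM 2C: (K1), (K2) and the dichotomy (helper465)
-/

set_option autoImplicit false

namespace Cfsg.Agent.Omega.EH3.TCL

open Module Cfsg.Agent.LargeExtra.SiegFam Cfsg.Agent.LargeExtra.SiegFam.Lin

variable {V : Type*} [AddCommGroup V] [Module (ZMod 2) V]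
variable {q : V → ZMod 2} {b : LinearMap.BilinForm (ZMod 2) V} {H : Subgroup (V ≃ₗ[ZMod 2] V)} {O : Set V}
  {W : V → Submodule (ZMod 2) V} {X : V → Subgroup (V ≃ₗ[ZMod 2] V)}

namespace TFam

variable {a c v : V} {x y z : V ≃ₗ[ZMod 2] V}

/-- (B5) a subgroup of index at most two of `X a` is not Siegel -/
theorem not_index_two (F : TFam q b H O W X) (ha : a ∈ O) (hT : ∃ x ∈ X a, ¬ XS b X a x)
    (P : (V ≃ₗ[ZMod 2] V) → Prop) (h2 : ∀ x ∈ X a, ∀ y ∈ X a, P x ∨ P y ∨ P (x * y))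
    (hP : ∀ x ∈ X a, P x → XS b X a x) : False := by
  obtain ⟨x, hx, hxS⟩ := hT
  obtain ⟨v, hv⟩ := F.alt.exists_ne (F.zero a ha)
  obtain ⟨y, hy, z, hz, h1⟩ := F.exists_tri ha hx hv hxS
  rcases h2 x hx y hy with h3 | h3 | h3
  · exact hxS (hP x hx h3)
  · rw [F.XS_tri ha (hP y hy h3) hx hz] at h1
    exact zero_ne_one h1
  · have h4 := F.XS_tri ha (hP _ ((X a).mul_mem hx hy) h3) hx hz v
    rw [F.tri_mul1 ha hx hy hx hz, F.tri_alt1 ha hx hz, h1, zero_add] at h4
    exact one_ne_zero h4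

/-- two independent elements in a subgroup of index at most two -/
theorem pick (F : TFam q b H O W X) (ha : a ∈ O) (hT : ∃ x ∈ X a, ¬ XS b X a x) (hv : b a v = 1)
    (P : (V ≃ₗ[ZMod 2] V) → Prop) (h2 : ∀ x ∈ X a, ∀ y ∈ X a, P x ∨ P y ∨ P (x * y)) :
    ∃ x ∈ X a, ∃ y ∈ X a, ∃ z ∈ X a, P x ∧ P y ∧ tri b v x y z = 1 := by
  obtain ⟨x, hx, hxS⟩ := hT
  obtain ⟨y, hy, z, hz, h1⟩ := F.exists_tri ha hx hv hxS
  have key : ∃ x1 ∈ X a, ∃ x2 ∈ X a, P x1 ∧ tri b v x1 x2 z = 1 := by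
    rcases h2 x hx y hy with h3 | h3 | h3
    · exact ⟨x, hx, y, hy, h3, by rw [F.tri_12 ha hx hy]; exact h1⟩
    · exact ⟨y, hy, x, hx, h3, h1⟩
    · refine ⟨x * y, (X a).mul_mem hx hy, x, hx, h3, ?_⟩
      rw [F.tri_mul1 ha hx hy hx hz, F.tri_alt1 ha hx hz, h1, zero_add]
  obtain ⟨x1, hx1, x2, hx2, hP, h3⟩ := key
  rcases h2 x2 hx2 z hz with h4 | h4 | h4
  · exact ⟨x1, hx1, x2, hx2, z, hz, hP, h4, h3⟩
  · exact ⟨x1, hx1, z, hz, x2, hx2, hP, h4, by rw [F.tri_23 ha hx1 hz hx2]; exact h3⟩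
  · refine ⟨x1, hx1, x2 * z, (X a).mul_mem hx2 hz, z, hz, hP, h4, ?_⟩
    rw [F.tri_mul2 ha hx1 hx2 hz hz, F.tri_alt2 ha hx1 hz, h3, add_zero]

/-- `NN a s` implies that the stabiliser of `s` has index at most two -/
theorem fix_index (hs : NN b X a v) (hfa : ∀ x ∈ X a, x a = a) :
    ∀ x ∈ X a, ∀ y ∈ X a, x v = v ∨ y v = v ∨ (x * y) v = v := by
  intro x hx y hy
  rcases hs.2 x hx with h1 | h1
  · exact Or.inl h1
  · rcases hs.2 y hy with h2 | h2
    · exact Or.inr (Or.inl h2)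
    · right; right
      rw [mul_app, h2, map_add, h1, hfa x hx]; v2

/-- (B7) -/
theorem eq_of_fix_W (F : TFam q b H O W X) (ha : a ∈ O) {w : V} (hw : w ∈ W a)
    (h : ∀ x ∈ X a, x w = w) : w = 0 ∨ w = a := by
  obtain ⟨v, hv⟩ := F.alt.exists_ne (F.zero a ha)
  apply F.eq_of_perp
  intro u hu
  obtain ⟨x, hx, hx'⟩ := F.surj a ha v hv u hu
  have h1 : u = (x v + v) + (x v + v + u) := by v2
  rw [h1, map_add, F.b_W ha hw hx', add_zero, ← F.b_adj' ha hx, h x hx, add_self, map_zero,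
    LinearMap.zero_apply]

/-- (TOOL) -/
theorem tool (F : TFam q b H O W X) (ha : a ∈ O) (hc : c ∈ O) (hv : RR q b X c v)
    (hav : b a v = 0) (hqv : q v = 0) {f : V ≃ₗ[ZMod 2] V} (hf : f ∈ X a) (hfv : f v = v) :
    ∃ h ∈ H, (∀ w, h w = sg q b v (f c + c) w) ∧ h a = a ∧ b v (f c + c) = 0 := by
  obtain ⟨hcv, g, hg, hg'⟩ := hv
  have hcv' : b v c = 0 := by rw [F.comm]; exact hcv
  have hfc : b v (f c) = 0 := by
    rw [← hfv, F.b_X ha hf]; exact hcv'
  have hy : b v (f c + c) = 0 := by rw [map_add, hfc, hcv', add_zero]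
  have hay : b a (f c + c) = 0 := F.b_delta ha hf c
  have hfi : ∀ w, f⁻¹ w = f w := by
    intro w
    rw [← F.X_sq a ha f hf w, app_inv, F.X_sq a ha f hf]
  have key : ∀ w, (f * g * f⁻¹ * g) w = sg q b v (f c + c) w := by
    intro w
    rw [mul_app, mul_app, mul_app, hfi, hg', hg', F.map_sg (F.X_H ha hf), F.X_sq a ha f hf, hfv,
      sg_swap (by rw [F.q_H f (F.X_H ha hf)]; exact F.q_self hc) hqv, sg_swap (F.q_self hc) hqv,
      F.sg_sg hfc hcv']
  refine ⟨f * g * f⁻¹ * g, H.mul_mem (H.mul_mem (H.mul_mem (F.X_H ha hf) (F.X_H hc hg))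
    (H.inv_mem (F.X_H ha hf))) (F.X_H hc hg), key, ?_, hy⟩
  rw [key, sg, F.comm v a, hav, F.comm _ a, hay]; simp

/-- (K1) -/
theorem K1 (F : TFam q b H O W X) (hT : ∀ a ∈ O, ∃ x ∈ X a, ¬ XS b X a x) (ha : a ∈ O) (hc : c ∈ O)
    (hac : b a c = 1) (hv : RR q b X c v) (hvW : v ∈ W a) : v = 0 := by
  by_contra h0
  have hav : b a v = 0 := F.perp_W ha hvW
  have hva : v ≠ a := by
    intro h
    have h1 := hv.1
    rw [h, F.comm, hac] at h1
    exact one_ne_zero h1
  have hqv : q v = 0 := F.q_W a ha v hvW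
  have hN : NN b X a v := F.NN_W ha hvW
  have hidx := fix_index hN (F.X_fix a ha)
  have hcv : b v c = 0 := by rw [F.comm]; exact hv.1
  by_cases hn : ∃ n, NN b X a n ∧ b v n = 1
  · obtain ⟨n, hn, hvn⟩ := hn
    apply F.not_index_two ha (hT a ha) (fun x => x v = v) hidx
    intro x hx hxv
    obtain ⟨h, hh, he, hha, hy⟩ := F.tool ha hc hv hav hqv hx hxv
    have h1 := F.NN_map hh ha hn
    rw [hha, he, sg_one hvn] at h1
    have h2 : NN b X a (x c + c) := by
      have e : x c + c = (n + b (x c + c) n • v + (x c + c) + q (x c + c) • v) +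
          (n + (b (x c + c) n • v + q (x c + c) • v)) := by v2
      rw [e]
      have hsm : ∀ t : ZMod 2, NN b X a (t • v) := by
        intro t
        exact F.NN_W ha ((W a).smul_mem t hvW)
      exact F.NN_add h1 (F.NN_add hn (F.NN_add (hsm _) (hsm _)))
    exact F.XS_of_NN ha hx hac (by rw [add_self]; exact (W a).zero_mem) h2
  · push Not at hn
    have hn' : ∀ n, NN b X a n → b v n = 0 := by
      intro n h1
      rcases zm (b v n) with h2 | h2
      · exact h2
      · exact absurd h2 (hn n h1)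
    obtain ⟨g, hg, hg'⟩ := hv.2
    have hgH := F.X_H hc hg
    have hga : g a = a + v := by
      rw [hg', sg, F.comm v a, hav, F.comm c a, hac, hqv]; simp
    have hgn : ∀ n, b v n = 0 → g n = n + b c n • v := by
      intro n h1
      rw [hg', sg, h1, hqv]; simp
    have hgg : ∀ n, g (g n) = n := by
      intro n; rw [hg', hg', F.sg_invol hv.1]
    -- `NN (a + v) = NN a`
    have hsm : ∀ t : ZMod 2, NN b X a (t • v) := fun t => F.NN_W ha ((W a).smul_mem t hvW)
    have hO : a + v ∈ O := by rw [← hga]; exact F.stable g hgH a ha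
    have hNN : ∀ n, NN b X (a + v) n → NN b X a n := by
      intro n h1
      have h2 : NN b X a (g n) := by
        have h3 := F.NN_map hgH hO h1
        rwa [← hga, hgg] at h3
      have h4 : b v n = 0 := by
        have h5 := hn' _ h2
        have h6 : g v = v := by
          rw [hgn v (F.self v), hv.1, zero_smul, add_zero]
        rw [← h6, F.b_H hgH] at h5
        exact h5
      rw [hgn n h4] at h2
      have e : n = (n + b c n • v) + b c n • v := by v2
      rw [e]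
      exact F.NN_add h2 (hsm _)
    -- `f₁`
    obtain ⟨f, hf, hfv⟩ : ∃ f ∈ X a, f v = v + a := by
      by_contra hcon
      push Not at hcon
      rcases F.eq_of_fix_W ha hvW (fun x hx => by
        rcases F.X_W a ha x hx v hvW with h1 | h1
        · exact h1
        · exact absurd h1 (hcon x hx)) with h1 | h1
      · exact h0 h1
      · exact hva h1
    have hfH := F.X_H ha hf
    have hvO : v ∈ O := by
      have : f (a + v) = v := by
        rw [map_add, F.X_fix a ha f hf, hfv]; v2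
      rw [← this]; exact F.stable f hfH _ hO
    have hNv : ∀ n, NN b X v n → NN b X a n := by
      intro n h1
      have h2 := F.NN_map hfH hvO h1
      rw [hfv, add_comm v a] at h2
      have h3 := F.NN_map hfH ha (hNN _ h2)
      rwa [F.X_sq a ha f hf, F.X_fix a ha f hf] at h3
    apply F.not_index_two ha (hT a ha) (fun x => x v = v) hidx
    intro x hx hxv
    obtain ⟨h, hh, he, hha, hy⟩ := F.tool ha hc hv hav hqv hx hxv
    have h1 := hNv _ (F.NN_of_sg hvO hy hh he)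
    exact F.XS_of_NN ha hx hac (by rw [add_self]; exact (W a).zero_mem) h1

/-- (K2) -/
theorem K2 (F : TFam q b H O W X) (hT : ∀ a ∈ O, ∃ x ∈ X a, ¬ XS b X a x) (ha : a ∈ O) (hc : c ∈ O)
    (hac : b a c = 1) (hv : RR q b X c v) (hav : b a v = 0) (hqv : q v = 0) (h0 : v ≠ 0) :
    v ∉ W a ∧ (∀ f ∈ X a, f v = v → f ≠ 1 → f c + c + v ∈ W a) ∧ ¬ NN b X a v ∧
      ∀ r, RR q b X a r → r ≠ 0 → r ≠ a → b v r = 1 := by
  have hvW : v ∉ W a := fun h => h0 (F.K1 hT ha hc hac hv h)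
  have hw : ∃ w ∈ W a, b v w = 1 := by
    by_contra hcon
    push Not at hcon
    have hcon' : ∀ w ∈ W a, b v w = 0 := by
      intro w hw
      rcases zm (b v w) with h1 | h1
      · exact h1
      · exact absurd h1 (hcon w hw)
    apply F.not_index_two ha (hT a ha) (fun x => x v = v) (fix_index (F.NN_orth ha hcon') (F.X_fix a ha))
    intro x hx hxv
    obtain ⟨h, hh, he, hha, hy⟩ := F.tool ha hc hv hav hqv hx hxv
    apply F.XS_of_NN ha hx hac (by rw [add_self]; exact (W a).zero_mem : x c + c + (x c + c) ∈ W a)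
    apply F.NN_orth ha
    intro w hw
    have h1 := F.W_map h hh a ha w hw
    rw [hha, he, sg_perp (hcon' w hw)] at h1
    rcases zm (b (x c + c) w) with h2 | h2
    · exact h2
    · exfalso
      rw [h2, one_smul] at h1
      apply hvW
      have : v = w + (w + v) := by v2
      rw [this]; exact (W a).add_mem hw h1
  obtain ⟨w, hw, hvw⟩ := hw
  have hstar : ∀ f ∈ X a, f v = v → f ≠ 1 → f c + c + v ∈ W a := by
    intro f hf hfv hf1
    obtain ⟨h, hh, he, hha, hy⟩ := F.tool ha hc hv hav hqv hf hfv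
    have h1 := F.W_map h hh a ha w hw
    rw [hha, he, sg_one hvw] at h1
    have h2 : f c + c + (b (f c + c) w + q (f c + c)) • v ∈ W a := by
      have e : f c + c + (b (f c + c) w + q (f c + c)) • v =
        (w + b (f c + c) w • v + (f c + c) + q (f c + c) • v) + w := by
        rw [add_smul]; v2
      rw [e]; exact (W a).add_mem h1 hw
    rcases zm (b (f c + c) w + q (f c + c)) with h3 | h3
    · rw [h3, zero_smul, add_zero] at h2
      exact absurd (F.inj a ha f hf c hac h2) hf1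
    · rw [h3, one_smul] at h2; exact h2
  have hNN : ¬ NN b X a v := by
    intro hN
    apply F.not_index_two ha (hT a ha) (fun x => x v = v) (fix_index hN (F.X_fix a ha))
    intro x hx hxv
    by_cases hx1 : x = 1
    · refine ⟨hx, fun w _ => ?_⟩
      left; rw [hx1]; rfl
    · exact F.XS_of_NN ha hx hac (hstar x hx hxv hx1) hN
  refine ⟨hvW, hstar, hNN, fun r hr hr0 hra => ?_⟩
  rcases zm (b v r) with h1 | h1
  · exfalso
    obtain ⟨har, x, hx, hx'⟩ := hr
    have hxv : x v = v := by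
      rw [hx', sg_fix hav (by rw [F.comm]; exact h1)]
    have h2 : x c + c + r = b r c • a + q r • a := by rw [hx', sg_one hac]; v2
    have h3 : x c + c + r ∈ W a := by
      rw [h2]
      exact (W a).add_mem ((W a).smul_mem _ (F.self_W a ha)) ((W a).smul_mem _ (F.self_W a ha))
    have hx1 : x ≠ 1 := by
      intro h
      rw [h, one_app, add_self, zero_add] at h3
      rcases F.RR_W ha ⟨har, x, hx, hx'⟩ h3 with h4 | h4
      · exact hr0 h4
      · exact hra h4
    apply hNN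
    have e : v = r + ((x c + c + r) + (x c + c + v)) := by v2
    rw [e]
    exact F.NN_add (F.RR_NN ha ⟨har, x, hx, hx'⟩) (F.NN_W ha ((W a).add_mem h3 (hstar x hx hxv hx1)))
  · exact h1

/-- `RR a` consists of `0, a, r, r + a` -/
def Four (q : V → ZMod 2) (b : LinearMap.BilinForm (ZMod 2) V) (X : V → Subgroup (V ≃ₗ[ZMod 2] V))
    (a r : V) : Prop :=
  RR q b X a r ∧ r ≠ 0 ∧ r ≠ a ∧ ∀ s, RR q b X a s → s = 0 ∨ s = a ∨ s = r ∨ s = r + a

theorem Four.map (F : TFam q b H O W X) {h : V ≃ₗ[ZMod 2] V} (hh : h ∈ H) (ha : a ∈ O) {r : V}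
    (hr : Four q b X a r) : Four q b X (h a) (h r) := by
  obtain ⟨h1, h2, h3, h4⟩ := hr
  refine ⟨F.RR_map hh ha h1, fun h5 => h2 (h.map_eq_zero_iff.1 h5), fun h5 => h3 (h.injective h5),
    fun s hs => ?_⟩
  have h5 : RR q b X a (h⁻¹ s) := by
    have := F.RR_map (H.inv_mem hh) (F.stable h hh a ha) hs
    rwa [app_inv] at this
  have h6 : ∀ t, h⁻¹ s = t → s = h t := fun t ht => by rw [← ht, inv_app]
  rcases h4 _ h5 with h7 | h7 | h7 | h7
  · left; rw [h6 _ h7, map_zero]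
  · right; left; exact h6 _ h7
  · right; right; left; exact h6 _ h7
  · right; right; right; rw [h6 _ h7, map_add]

/-- the partner of a pair -/
theorem Four.perp (F : TFam q b H O W X) (ha : a ∈ O) {r : V} (hr : Four q b X a r) (hac : b a c = 1) :
    ∃ s, Four q b X a s ∧ b c s = 0 ∧ (s = r ∨ s = r + a) := by
  rcases zm (b c r) with h1 | h1
  · exact ⟨r, hr, h1, Or.inl rfl⟩
  · obtain ⟨h2, h3, h4, h5⟩ := hr
    refine ⟨r + a, ⟨F.RR_add h2 (F.RR_a ha), fun h => h4 (eq_of_add h), fun h => h3 ?_, ?_⟩, ?_, Or.inr rfl⟩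
    · calc r = (r + a) + a := by v2
        _ = 0 := by rw [h]; v2
    · intro s hs
      rcases h5 s hs with h6 | h6 | h6 | h6
      · exact Or.inl h6
      · exact Or.inr (Or.inl h6)
      · right; right; right; rw [h6]; v2
      · right; right; left; exact h6
    · rw [map_add, h1, F.comm c a, hac]; decide

/-- the two cases: `RR a = {0, a, r, r + a}` totally singular for all `a ∈ O`; or the perpendicular part of
`RR c` is anisotropic for all pairs -/
theorem dich (F : TFam q b H O W X) (hT : ∀ a ∈ O, ∃ x ∈ X a, ¬ XS b X a x)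
    (hR : ∀ a ∈ O, ∃ r, RR q b X a r ∧ r ≠ 0 ∧ r ≠ a) :
    (∀ a ∈ O, ∃ r, Four q b X a r ∧ q r = 0 ∧ b a r = 0) ∨
    (∀ a ∈ O, ∀ c ∈ O, b a c = 1 → ∀ v, RR q b X c v → b a v = 0 → v ≠ 0 → q v = 1) := by
  by_cases hex : ∃ a ∈ O, ∃ c ∈ O, b a c = 1 ∧ ∃ v, RR q b X c v ∧ b a v = 0 ∧ v ≠ 0 ∧ q v = 0
  · left
    obtain ⟨a, ha, c, hc, hac, v, hv, hav, h0, hqv⟩ := hex
    obtain ⟨-, -, -, h4⟩ := F.K2 hT ha hc hac hv hav hqv h0
    obtain ⟨r, hr, hr0, hra⟩ := hR a ha
    have hfour : Four q b X a r := by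
      refine ⟨hr, hr0, hra, fun s hs => ?_⟩
      by_cases h5 : s = 0
      · exact Or.inl h5
      by_cases h6 : s = a
      · exact Or.inr (Or.inl h6)
      have h7 : b v (s + r) = 0 := by rw [map_add, h4 s hs h5 h6, h4 r hr hr0 hra]; decide
      right; right
      by_contra hcon
      push Not at hcon
      have h8 := h4 (s + r) (F.RR_add hs hr) (fun h => hcon.1 (eq_of_add h)) (fun h => hcon.2 (by
        calc s = (s + r) + r := by v2
          _ = r + a := by rw [h]; v2))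
      rw [h7] at h8
      exact zero_ne_one h8
    obtain ⟨h, hh, hhc⟩ := F.trans a ha c hc
    have hfc := Four.map F hh ha hfour
    rw [hhc] at hfc
    have hvc : v ≠ c := by
      intro h
      rw [h, hac] at hav
      exact one_ne_zero hav
    have hqc : q (h r) = 0 := by
      rcases hfc.2.2.2 v hv with h5 | h5 | h5 | h5
      · exact absurd h5 h0
      · exact absurd h5 hvc
      · rw [← h5]; exact hqv
      · have h6 : h r = v + c := by rw [h5]; v2
        rw [h6, F.q_add, hqv, F.q_self hc, F.comm v c, hv.1]; decide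
    intro a' ha'
    obtain ⟨k, hk, hka⟩ := F.trans c hc a' ha'
    have hfa := Four.map F hk hc hfc
    rw [hka] at hfa
    exact ⟨k (h r), hfa, by rw [F.q_H k hk]; exact hqc, hfa.1.1⟩
  · right
    intro a ha c hc hac v hv hav h0
    apply zm_ne
    intro hq
    exact hex ⟨a, ha, c, hc, hac, v, hv, hav, h0, hq⟩

end TFam

end Cfsg.Agent.Omega.EH3.TCL

end

section


/-!
# THEOREM 2C: the anisotropic case (helper465)
-/

set_option autoImplicit false

namespace Cfsg.Agent.Omega.EH3.TCL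

open Module Cfsg.Agent.LargeExtra.SiegFam Cfsg.Agent.LargeExtra.SiegFam.Lin

variable {V : Type*} [AddCommGroup V] [Module (ZMod 2) V]
variable {q : V → ZMod 2} {b : LinearMap.BilinForm (ZMod 2) V} {H : Subgroup (V ≃ₗ[ZMod 2] V)} {O : Set V}
  {W : V → Submodule (ZMod 2) V} {X : V → Subgroup (V ≃ₗ[ZMod 2] V)}

namespace TFam

variable {a c v n m : V} {x y z : V ≃ₗ[ZMod 2] V}

/-- `tri` as the third polarisation of `g x = b c (x c)` -/
theorem tri_g (F : TFam q b H O W X) (ha : a ∈ O) (hx : x ∈ X a) (hy : y ∈ X a) (hz : z ∈ X a) (c : V) :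
    tri b c x y z = b c (x c) + b c (y c) + b c (z c) + b c ((x * y) c) + b c ((x * z) c) +
      b c ((y * z) c) + b c ((x * (y * z)) c) := by
  have e1 : b (y (x c)) (z c) = b c ((x * (y * z)) c) := by
    rw [mul_app, mul_app, F.b_adj ha hy, F.b_adj ha hx]
  have e2 : b (y c) (z c) = b c ((y * z) c) := by rw [mul_app, F.b_adj ha hy]
  have e3 : b (x c) (z c) = b c ((x * z) c) := by rw [mul_app, F.b_adj ha hx]
  have e4 : b (y (x c)) c = b c ((x * y) c) := by
    rw [mul_app, F.comm, F.X_comm a ha x hx y hy]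
  have e5 : b (y c) c = b c (y c) := F.comm _ _
  have e6 : b (x c) c = b c (x c) := F.comm _ _
  rw [tri]
  simp only [map_add, LinearMap.add_apply]
  rw [e1, e2, e3, e4, e5, e6, F.self]
  abel

/-- a product of three Siegel elements -/
theorem three_sg (F : TFam q b H O W X) {c c' m : V} (hm : q m = 1)
    (hcc : b c c' = 1) (hcm : b c m = 0) (hcm' : b c' m = 0) (w : V) :
    sg q b c m (sg q b c' m (sg q b c m w)) = w + b (c' + c) w • (c' + c) + b m w • m := by
  have h1 : b m c = 0 := by rw [F.comm]; exact hcm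
  have h2 : b m c' = 0 := by rw [F.comm]; exact hcm'
  have h3 : b c' c = 1 := by rw [F.comm]; exact hcc
  have h4 := F.self m
  have h5 := F.self c
  have h6 := F.self c'
  simp only [sg, hm, map_add, map_smul, LinearMap.add_apply, h1, h2, h3, h4, h5, h6, hcc, hcm, hcm',
    smul_eq_mul, mul_zero, mul_one, add_zero, one_mul]
  rcases zm (b c w) with h7 | h7 <;> rcases zm (b c' w) with h8 | h8 <;>
    rcases zm (b m w) with h9 | h9 <;> rw [h7, h8, h9] <;>
    simp only [zero_smul, one_smul, add_zero, zero_add, one_add] <;> v2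

/-- (TN) -/
theorem tn (F : TFam q b H O W X) (ha : a ∈ O) (hc : c ∈ O) (hm : RR q b X c m)
    (ham : b a m = 0) (hqm : q m = 1) (hx : x ∈ X a) (hxm : x m = m) (hg : b c (x c) = 1)
    {w : V} (hw : w ∈ W a) : b (x c + c) w • (x c + c) + b m w • m ∈ W a := by
  obtain ⟨hcm, g, hg1, hg'⟩ := hm
  have hxi : ∀ w, x⁻¹ w = x w := by
    intro w
    rw [← F.X_sq a ha x hx w, app_inv, F.X_sq a ha x hx]
  have hcm' : b (x c) m = 0 := by
    rw [← hxm, F.b_X ha hx]; exact hcm
  have key : ∀ w, (g * (x * g * x⁻¹) * g) w = w + b (x c + c) w • (x c + c) + b m w • m := by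
    intro w
    rw [mul_app, mul_app, mul_app, mul_app, hxi, hg', hg', hg', F.map_sg (F.X_H ha hx), F.X_sq a ha x hx,
      hxm]
    exact F.three_sg hqm hg hcm hcm' w
  have hH : g * (x * g * x⁻¹) * g ∈ H := H.mul_mem (H.mul_mem (F.X_H hc hg1) (H.mul_mem
    (H.mul_mem (F.X_H ha hx) (F.X_H hc hg1)) (H.inv_mem (F.X_H ha hx)))) (F.X_H hc hg1)
  have hfa : (g * (x * g * x⁻¹) * g) a = a := by
    rw [key, F.comm _ a, F.b_delta ha hx, F.comm m a, ham]; simp
  have h1 := F.W_map _ hH a ha w hw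
  rw [hfa, key] at h1
  have e : b (x c + c) w • (x c + c) + b m w • m =
    (w + b (x c + c) w • (x c + c) + b m w • m) + w := by v2
  rw [e]
  exact (W a).add_mem h1 hw

theorem sg_one' (hn : q n = 1) (w : V) :
    sg q b a n w = w + b n w • a + b a w • n + b a w • a := by
  rw [sg, hn, one_mul]

/-- the cube of the product of two Siegel elements -/
theorem six_sg (F : TFam q b H O W X) (hn : q n = 1) (hm : q m = 1)
    (hac : b a c = 1) (han : b a n = 0) (ham : b a m = 0) (hcn : b c n = 0) (hcm : b c m = 0)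
    (hnm : b n m = 0) (w : V) :
    sg q b a n (sg q b c m (sg q b a n (sg q b c m (sg q b a n (sg q b c m w))))) =
      w + b n w • n + b m w • m := by
  have h1 : b c a = 1 := by rw [F.comm]; exact hac
  have h2 : b n a = 0 := by rw [F.comm]; exact han
  have h3 : b m a = 0 := by rw [F.comm]; exact ham
  have h4 : b n c = 0 := by rw [F.comm]; exact hcn
  have h5 : b m c = 0 := by rw [F.comm]; exact hcm
  have h6 : b m n = 0 := by rw [F.comm]; exact hnm
  have s1 := F.self a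
  have s2 := F.self c
  have s3 := F.self n
  have s4 := F.self m
  rw [sg_one' hm w]
  generalize hw1 : w + b m w • c + b c w • m + b c w • c = w1
  have a1 : b a w1 = b a w + b m w + b c w := by
    rw [← hw1]; simp only [map_add, map_smul, hac, ham, smul_eq_mul, mul_one, mul_zero, add_zero]
  have c1 : b c w1 = b c w := by
    rw [← hw1]; simp only [map_add, map_smul, s2, hcm, smul_eq_mul, mul_zero, add_zero]
  have n1 : b n w1 = b n w := by
    rw [← hw1]; simp only [map_add, map_smul, h4, hnm, smul_eq_mul, mul_zero, add_zero]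
  have m1 : b m w1 = b m w := by
    rw [← hw1]; simp only [map_add, map_smul, h5, s4, smul_eq_mul, mul_zero, add_zero]
  rw [sg_one' hn w1, a1, n1]
  generalize hw2 : w1 + b n w • a + (b a w + b m w + b c w) • n + (b a w + b m w + b c w) • a = w2
  have a2 : b a w2 = b a w + b m w + b c w := by
    rw [← hw2]; simp only [map_add, map_smul, a1, s1, han, smul_eq_mul, mul_zero, add_zero]
  have c2 : b c w2 = b c w + b n w + (b a w + b m w + b c w) := by
    rw [← hw2]; simp only [map_add, map_smul, c1, h1, hcn, smul_eq_mul, mul_one, mul_zero, add_zero]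
  have n2 : b n w2 = b n w := by
    rw [← hw2]; simp only [map_add, map_smul, n1, h2, s3, smul_eq_mul, mul_zero, add_zero]
  have m2 : b m w2 = b m w := by
    rw [← hw2]; simp only [map_add, map_smul, m1, h3, h6, smul_eq_mul, mul_zero, add_zero]
  rw [sg_one' hm w2, c2, m2]
  generalize hw3 : w2 + b m w • c + (b c w + b n w + (b a w + b m w + b c w)) • m +
    (b c w + b n w + (b a w + b m w + b c w)) • c = w3
  have a3 : b a w3 = b a w + b m w + b c w + b m w + (b c w + b n w + (b a w + b m w + b c w)) := by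
    rw [← hw3]; simp only [map_add, map_smul, a2, hac, ham, smul_eq_mul, mul_one, mul_zero, add_zero]
  have n3 : b n w3 = b n w := by
    rw [← hw3]; simp only [map_add, map_smul, n2, h4, hnm, smul_eq_mul, mul_zero, add_zero]
  have c3 : b c w3 = b c w + b n w + (b a w + b m w + b c w) := by
    rw [← hw3]; simp only [map_add, map_smul, c2, s2, hcm, smul_eq_mul, mul_zero, add_zero]
  have m3 : b m w3 = b m w := by
    rw [← hw3]; simp only [map_add, map_smul, m2, h5, s4, smul_eq_mul, mul_zero, add_zero]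
  rw [sg_one' hn w3, a3, n3]
  generalize hw4 : w3 + b n w • a +
    (b a w + b m w + b c w + b m w + (b c w + b n w + (b a w + b m w + b c w))) • n +
    (b a w + b m w + b c w + b m w + (b c w + b n w + (b a w + b m w + b c w))) • a = w4
  have a4 : b a w4 = b a w + b m w + b c w + b m w + (b c w + b n w + (b a w + b m w + b c w)) := by
    rw [← hw4]; simp only [map_add, map_smul, a3, s1, han, smul_eq_mul, mul_zero, add_zero]
  have c4 : b c w4 = b c w + b n w + (b a w + b m w + b c w) + b n w +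
      (b a w + b m w + b c w + b m w + (b c w + b n w + (b a w + b m w + b c w))) := by
    rw [← hw4]; simp only [map_add, map_smul, c3, h1, hcn, smul_eq_mul, mul_one, mul_zero, add_zero]
  have n4 : b n w4 = b n w := by
    rw [← hw4]; simp only [map_add, map_smul, n3, h2, s3, smul_eq_mul, mul_zero, add_zero]
  have m4 : b m w4 = b m w := by
    rw [← hw4]; simp only [map_add, map_smul, m3, h3, h6, smul_eq_mul, mul_zero, add_zero]
  rw [sg_one' hm w4, c4, m4]
  generalize hw5 : w4 + b m w • c + (b c w + b n w + (b a w + b m w + b c w) + b n w +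
      (b a w + b m w + b c w + b m w + (b c w + b n w + (b a w + b m w + b c w)))) • m +
    (b c w + b n w + (b a w + b m w + b c w) + b n w +
      (b a w + b m w + b c w + b m w + (b c w + b n w + (b a w + b m w + b c w)))) • c = w5
  have a5 : b a w5 = b a w4 + b m w + (b c w + b n w + (b a w + b m w + b c w) + b n w +
      (b a w + b m w + b c w + b m w + (b c w + b n w + (b a w + b m w + b c w)))) := by
    rw [← hw5]; simp only [map_add, map_smul, hac, ham, smul_eq_mul, mul_one, mul_zero, add_zero]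
  have n5 : b n w5 = b n w := by
    rw [← hw5]; simp only [map_add, map_smul, n4, h4, hnm, smul_eq_mul, mul_zero, add_zero]
  rw [sg_one' hn w5, a5, n5, a4, ← hw5, ← hw4, ← hw3, ← hw2, ← hw1]
  rcases zm (b a w) with h7 | h7 <;> rcases zm (b c w) with h8 | h8 <;>
    rcases zm (b m w) with h9 | h9 <;> rcases zm (b n w) with h10 | h10 <;> rw [h7, h8, h9, h10] <;>
    simp only [zero_smul, one_smul, add_zero, zero_add, one_add] <;> v2

end TFam

end Cfsg.Agent.Omega.EH3.TCL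

end

section


/-!
# THEOREM 2C: the anisotropic case, `|RR a / ⟨a⟩| > 2`; and (A) (helper465)
-/

set_option autoImplicit false

namespace Cfsg.Agent.Omega.EH3.TCL

open Module Cfsg.Agent.LargeExtra.SiegFam Cfsg.Agent.LargeExtra.SiegFam.Lin

variable {V : Type*} [AddCommGroup V] [Module (ZMod 2) V]
variable {q : V → ZMod 2} {b : LinearMap.BilinForm (ZMod 2) V} {H : Subgroup (V ≃ₗ[ZMod 2] V)} {O : Set V}
  {W : V → Submodule (ZMod 2) V} {X : V → Subgroup (V ≃ₗ[ZMod 2] V)}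

/-- the perpendicular parts are anisotropic -/
def Ani (q : V → ZMod 2) (b : LinearMap.BilinForm (ZMod 2) V) (O : Set V)
    (X : V → Subgroup (V ≃ₗ[ZMod 2] V)) : Prop :=
  ∀ a ∈ O, ∀ c ∈ O, b a c = 1 → ∀ v, RR q b X c v → b a v = 0 → v ≠ 0 → q v = 1

namespace TFam

variable {a c v n m : V} {x y z : V ≃ₗ[ZMod 2] V}

/-- the product of the two transvections -/
theorem cube (F : TFam q b H O W X) (ha : a ∈ O) (hc : c ∈ O) (hac : b a c = 1) (hn : RR q b X a n)
    (hcn : b c n = 0) (hqn : q n = 1) (hm : RR q b X c m) (ham : b a m = 0) (hqm : q m = 1)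
    (hnm : b n m = 0) :
    ∃ h ∈ H, (∀ w, h w = w + b n w • n + b m w • m) ∧ h a = a ∧ h c = c := by
  obtain ⟨han, g, hg, hg'⟩ := hn
  obtain ⟨hcm, k, hk, hk'⟩ := hm
  have hgH := F.X_H ha hg
  have hkH := F.X_H hc hk
  have key : ∀ w, (g * k * (g * k) * (g * k)) w = w + b n w • n + b m w • m := by
    intro w
    simp only [mul_app, hg', hk']
    exact F.six_sg hqn hqm hac han ham hcn hcm hnm w
  refine ⟨g * k * (g * k) * (g * k), H.mul_mem (H.mul_mem (H.mul_mem hgH hkH) (H.mul_mem hgH hkH))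
    (H.mul_mem hgH hkH), key, ?_, ?_⟩
  · rw [key, F.comm n a, han, F.comm m a, ham]; simp
  · rw [key, F.comm n c, hcn, F.comm m c, hcm]; simp

/-- (N4), first step -/
theorem perp_of_perp (F : TFam q b H O W X) (hN : Ani q b O X) (ha : a ∈ O) (hc : c ∈ O)
    (hac : b a c = 1) (hn : RR q b X a n) (hcn : b c n = 0) (hn0 : n ≠ 0)
    (hm : RR q b X c m) (ham : b a m = 0) (hm0 : m ≠ 0) (hnm : b n m = 0) (hne : n ≠ m) {n' : V}
    (hn' : RR q b X a n') : b m n' = 0 := by
  have hca : b c a = 1 := by rw [F.comm]; exact hac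
  have hqn : q n = 1 := hN c hc a ha hca n hn hcn hn0
  have hqm : q m = 1 := hN a ha c hc hac m hm ham hm0
  obtain ⟨h, hh, he, hha, hhc⟩ := F.cube ha hc hac hn hcn hqn hm ham hqm hnm
  rcases zm (b m n') with h1 | h1
  · exact h1
  · exfalso
    have h2 := F.RR_map hh ha hn'
    rw [hha, he, h1, one_smul] at h2
    have hsm : RR q b X a (b n n' • n) := by
      rcases zm (b n n') with h3 | h3 <;> rw [h3]
      · rw [zero_smul]; exact F.RR_zero
      · rw [one_smul]; exact hn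
    have h3 : RR q b X a m := by
      have e : m = (n' + b n n' • n + m) + (n' + b n n' • n) := by v2
      rw [e]; exact F.RR_add h2 (F.RR_add hn' hsm)
    have h4 := hN c hc a ha hca (n + m) (F.RR_add hn h3) (by rw [map_add, hcn, hm.1, add_zero])
      (fun h => hne (eq_of_add h))
    rw [F.q_add, hqn, hqm, hnm] at h4
    exact absurd h4 (by decide)

/-- a common anisotropic plane for some pair -/
theorem common (F : TFam q b H O W X) (hN : Ani q b O X) {n1 n2 m1 m2 : V} (ha : a ∈ O) (hc : c ∈ O)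
    (hac : b a c = 1) (hn1 : RR q b X a n1) (hn2 : RR q b X a n2) (hc1 : b c n1 = 0) (hc2 : b c n2 = 0)
    (h12 : b n1 n2 = 1) (hm1 : RR q b X c m1) (hm2 : RR q b X c m2) (ha1 : b a m1 = 0)
    (ha2 : b a m2 = 0) (h12' : b m1 m2 = 1) :
    ∃ a ∈ O, ∃ c ∈ O, b a c = 1 ∧ ∃ n1 n2, RR q b X a n1 ∧ RR q b X a n2 ∧ RR q b X c n1 ∧
      RR q b X c n2 ∧ b n1 n2 = 1 := by
  have hca : b c a = 1 := by rw [F.comm]; exact hac
  have hne : ∀ s t, b s t = 1 → s ≠ 0 := by
    rintro s t h1 rfl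
    rw [map_zero, LinearMap.zero_apply] at h1
    exact zero_ne_one h1
  have h21 : b n2 n1 = 1 := by rw [F.comm]; exact h12
  have h21' : b m2 m1 = 1 := by rw [F.comm]; exact h12'
  by_cases hex : ∃ n m, RR q b X a n ∧ b c n = 0 ∧ n ≠ 0 ∧ RR q b X c m ∧ b a m = 0 ∧ m ≠ 0 ∧
      b n m = 0 ∧ n ≠ m
  · obtain ⟨n, m, hn, hcn, hn0, hm, ham, hm0, hnm, hnem⟩ := hex
    have hmn : b m n = 0 := by rw [F.comm]; exact hnm
    have hP : ∀ n', RR q b X a n' → b m n' = 0 := fun n' hn' =>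
      F.perp_of_perp hN ha hc hac hn hcn hn0 hm ham hm0 hnm hnem hn'
    -- `R'_a ⊥ R'_c`
    have hPP : ∀ n', RR q b X a n' → b c n' = 0 → n' ≠ 0 → ∀ m', RR q b X c m' → b n' m' = 0 := by
      intro n' hn' hcn' hn0' m' hm'
      apply F.perp_of_perp hN hc ha hca hm ham hm0 hn' hcn' hn0' (hP n' hn') ?_ hm'
      rintro rfl
      -- `m ∈ R'_a` and `m ⊥ R'_a`
      have h1 := hP n1 hn1
      have h4 : q m = 1 := hN c hc a ha hca m hn' hcn' hn0'
      have h5 : q n1 = 1 := hN c hc a ha hca n1 hn1 hc1 (hne _ _ h12)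
      have h6 : m + n1 = 0 := by
        by_contra h6
        have h7 := hN c hc a ha hca (m + n1) (F.RR_add hn' hn1) (by rw [map_add, hcn', hc1, add_zero]) h6
        rw [F.q_add, h4, h5, h1] at h7
        exact absurd h7 (by decide)
      have h7 := hP n2 hn2
      rw [eq_of_add h6, h12] at h7
      exact one_ne_zero h7
    -- the pair `(c, c + n + a)`
    obtain ⟨han1, g, hg, hg'⟩ := hn1
    have hgH := F.X_H ha hg
    have hqn1 : q n1 = 1 := hN c hc a ha hca n1 ⟨han1, g, hg, hg'⟩ hc1 (hne _ _ h12)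
    have hgc : g c = c + n1 + a := by
      rw [hg', sg_one' hqn1, F.comm n1 c, hc1, hac, zero_smul, add_zero, one_smul, one_smul]
    have hgm : ∀ m', RR q b X c m' → b a m' = 0 → g m' = m' := by
      intro m' h1 h2
      rw [hg', sg_fix h2 (hPP n1 ⟨han1, g, hg, hg'⟩ hc1 (hne _ _ h12) m' h1)]
    have hO := F.stable g hgH c hc
    refine ⟨c, hc, g c, hO, ?_, m1, m2, hm1, hm2, ?_, ?_, h12'⟩
    · rw [hgc, map_add, map_add, F.self, hc1, hca]; decide
    · have := F.RR_map hgH hc hm1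
      rwa [hgm m1 hm1 ha1] at this
    · have := F.RR_map hgH hc hm2
      rwa [hgm m2 hm2 ha2] at this
  · push Not at hex
    have hsub : ∀ m, RR q b X c m → b a m = 0 → m ≠ 0 → RR q b X a m := by
      intro m hm ham hm0
      rcases zm (b n1 m) with h1 | h1
      · rw [← hex n1 m hn1 hc1 (hne _ _ h12) hm ham hm0 h1]; exact hn1
      rcases zm (b n2 m) with h2 | h2
      · rw [← hex n2 m hn2 hc2 (hne _ _ h21) hm ham hm0 h2]; exact hn2
      have h3 : b (n1 + n2) m = 0 := by rw [ladd, h1, h2]; decide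
      have h4 : n1 + n2 ≠ 0 := by
        intro h4
        have := eq_of_add h4
        rw [this, F.self] at h12
        exact zero_ne_one h12
      rw [← hex (n1 + n2) m (F.RR_add hn1 hn2) (by rw [map_add, hc1, hc2, add_zero]) h4 hm ham hm0 h3]
      exact F.RR_add hn1 hn2
    exact ⟨a, ha, c, hc, hac, m1, m2, hsub m1 hm1 ha1 (hne _ _ h12'), hsub m2 hm2 ha2 (hne _ _ h21'),
      hm1, hm2, h12'⟩

/-- (N4), second step -/
theorem no_common (F : TFam q b H O W X) (hT : ∀ a ∈ O, ∃ x ∈ X a, ¬ XS b X a x) (hN : Ani q b O X)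
    {n1 n2 : V} (ha : a ∈ O) (hc : c ∈ O)
    (hac : b a c = 1) (hn1 : RR q b X a n1) (hn2 : RR q b X a n2) (hm1 : RR q b X c n1)
    (hm2 : RR q b X c n2) (h12 : b n1 n2 = 1) : False := by
  have hca : b c a = 1 := by rw [F.comm]; exact hac
  have h21 : b n2 n1 = 1 := by rw [F.comm]; exact h12
  have hne : ∀ s t, b s t = 1 → s ≠ 0 := by
    rintro s t h1 rfl
    rw [map_zero, LinearMap.zero_apply] at h1
    exact zero_ne_one h1
  have hq1 : q n1 = 1 := hN c hc a ha hca n1 hn1 hm1.1 (hne _ _ h12)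
  have hq2 : q n2 = 1 := hN c hc a ha hca n2 hn2 hm2.1 (hne _ _ h21)
  -- every element times a Siegel element fixes `n1`, `n2`
  obtain ⟨u1, hu1, hu1'⟩ := hn1.2
  obtain ⟨u2, hu2, hu2'⟩ := hn2.2
  have hS1 := F.RR_XS hu1 hu1'
  have hS2 := F.RR_XS hu2 hu2'
  have v11 : u1 n1 = n1 := by rw [hu1', sg_perp hn1.1, F.self, zero_smul, add_zero]
  have v12 : u1 n2 = n2 + a := by rw [hu1', sg_perp hn2.1, h12, one_smul]
  have v21 : u2 n1 = n1 + a := by rw [hu2', sg_perp hn1.1, h21, one_smul]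
  have v22 : u2 n2 = n2 := by rw [hu2', sg_perp hn2.1, F.self, zero_smul, add_zero]
  have hmove : ∀ x ∈ X a, ∃ s ∈ X a, XS b X a s ∧ (s * x) n1 = n1 ∧ (s * x) n2 = n2 := by
    intro x hx
    have e1 : ∀ u : V, u + a + a = u := fun u => by v2
    rcases (F.RR_NN ha hn1).2 x hx with h1 | h1 <;> rcases (F.RR_NN ha hn2).2 x hx with h2 | h2
    · exact ⟨1, (X a).one_mem, ⟨(X a).one_mem, fun w _ => Or.inl rfl⟩, by rw [one_mul, h1],
        by rw [one_mul, h2]⟩
    · refine ⟨u1, hu1, hS1, by rw [mul_app, h1, v11], ?_⟩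
      rw [mul_app, h2, map_add, v12, F.X_fix a ha u1 hu1]; v2
    · refine ⟨u2, hu2, hS2, ?_, by rw [mul_app, h2, v22]⟩
      rw [mul_app, h1, map_add, v21, F.X_fix a ha u2 hu2]; v2
    · refine ⟨u1 * u2, (X a).mul_mem hu1 hu2, ?_, ?_, ?_⟩
      · apply F.RR_XS (r := n1 + n2) ((X a).mul_mem hu1 hu2)
        intro w
        rw [mul_app, hu1', hu2', F.sg_sg hn1.1 hn2.1]
      · rw [mul_app, mul_app, h1, map_add, map_add, v21, map_add, v11, F.X_fix a ha u2 hu2,
          F.X_fix a ha u1 hu1]; v2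
      · rw [mul_app, mul_app, h2, map_add, map_add, v22, v12, F.X_fix a ha u2 hu2,
          F.X_fix a ha u1 hu1]; v2
  -- an element of `X_0` with `g = 1`
  obtain ⟨x, hx, hx1, hx2, hg⟩ : ∃ x ∈ X a, x n1 = n1 ∧ x n2 = n2 ∧ b c (x c) = 1 := by
    by_contra hcon
    push Not at hcon
    have h0 : ∀ x ∈ X a, x n1 = n1 → x n2 = n2 → b c (x c) = 0 := by
      intro x hx h1 h2
      rcases zm (b c (x c)) with h3 | h3
      · exact h3
      · exact absurd h3 (hcon x hx h1 h2)
    obtain ⟨x, hx, hxS⟩ := hT a ha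
    obtain ⟨y, hy, z, hz, h1⟩ := F.exists_tri ha hx hac hxS
    obtain ⟨s1, hs1, hS1, f11, f12⟩ := hmove y hy
    obtain ⟨s2, hs2, hS2, f21, f22⟩ := hmove x hx
    obtain ⟨s3, hs3, hS3, f31, f32⟩ := hmove z hz
    have m1 := (X a).mul_mem hs1 hy
    have m2 := (X a).mul_mem hs2 hx
    have m3 := (X a).mul_mem hs3 hz
    have h2 : tri b c (s1 * y) (s2 * x) (s3 * z) = 1 := by
      rw [F.tri_mul1 ha hs1 hy m2 m3, F.XS_tri ha hS1 m2 m3, zero_add, F.tri_mul2 ha hy hs2 hx m3,
        F.tri_12 ha hy hs2, F.XS_tri ha hS2 hy m3, zero_add, F.tri_mul3 ha hy hx hs3 hz,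
        F.tri_13 ha hx (x := y) (z := s3), F.XS_tri ha hS3 hx hy, zero_add, h1]
    have hfix : ∀ {s t : V ≃ₗ[ZMod 2] V} {w : V}, s w = w → t w = w → (s * t) w = w := by
      intro s t w h3 h4; rw [mul_app, h4, h3]
    rw [F.tri_g ha m1 m2 m3, h0 _ m1 f11 f12, h0 _ m2 f21 f22, h0 _ m3 f31 f32,
      h0 _ ((X a).mul_mem m1 m2) (hfix f11 f21) (hfix f12 f22),
      h0 _ ((X a).mul_mem m1 m3) (hfix f11 f31) (hfix f12 f32),
      h0 _ ((X a).mul_mem m2 m3) (hfix f21 f31) (hfix f22 f32),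
      h0 _ ((X a).mul_mem m1 ((X a).mul_mem m2 m3)) (hfix f11 (hfix f21 f31))
        (hfix f12 (hfix f22 f32))] at h2
    exact absurd h2 (by decide)
  have hx1' : x c + c ∉ W a := by
    intro h
    have h1 := F.inj a ha x hx c hac h
    rw [h1, one_app, F.self] at hg
    exact zero_ne_one hg
  have h3 : q (n1 + n2) = 1 := by rw [F.q_add, hq1, hq2, h12]; decide
  have hperp : ∀ w ∈ W a, b (x c + c) w = 0 := by
    intro w hw
    rcases zm (b (x c + c) w) with h1 | h1
    · exact h1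
    · exfalso
      have t1 := F.tn ha hc hm1 hn1.1 hq1 hx hx1 hg hw
      have t2 := F.tn ha hc hm2 hn2.1 hq2 hx hx2 hg hw
      have t3 := F.tn ha hc (F.RR_add hm1 hm2) (by rw [map_add, hn1.1, hn2.1, add_zero]) h3 hx
        (by rw [map_add, hx1, hx2]) hg hw
      rw [h1, one_smul] at t1 t2 t3
      rcases zm (b n1 w) with h4 | h4
      · rw [h4, zero_smul, add_zero] at t1; exact hx1' t1
      rcases zm (b n2 w) with h5 | h5
      · rw [h5, zero_smul, add_zero] at t2; exact hx1' t2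
      rw [ladd, h4, h5, one_add, zero_smul, add_zero] at t3
      exact hx1' t3
  have hNN := F.NN_orth ha hperp
  have hXS := F.XS_of_NN ha hx hac (by rw [add_self]; exact (W a).zero_mem) hNN
  have hRR := F.RR_of_XS ha hXS hac
  have hsg := F.XS_eq_sg ha hXS hac
  have e1 : b (x c + c) n1 = 0 := by
    have h4 := hsg n1
    rw [hx1, sg_perp hn1.1] at h4
    rcases zm (b (x c + c) n1) with h5 | h5
    · exact h5
    · rw [h5, one_smul] at h4
      exact absurd (left_eq_add.1 h4) (F.zero a ha)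
  have e2 : b (x c + c) n2 = 0 := by
    have h4 := hsg n2
    rw [hx2, sg_perp hn2.1] at h4
    rcases zm (b (x c + c) n2) with h5 | h5
    · exact h5
    · rw [h5, one_smul] at h4
      exact absurd (left_eq_add.1 h4) (F.zero a ha)
  have hcr : b c (x c + c + a) = 0 := by rw [map_add, map_add, hg, F.self, hca]; decide
  have hRR' := F.RR_add hRR (F.RR_a ha)
  have e1' : b (x c + c + a) n1 = 0 := by rw [ladd, e1, hn1.1, add_zero]
  have e2' : b (x c + c + a) n2 = 0 := by rw [ladd, e2, hn2.1, add_zero]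
  by_cases h0 : x c + c + a = 0
  · apply hx1'
    rw [eq_of_add h0]; exact F.self_W a ha
  · have h4 := hN c hc a ha hca _ hRR' hcr h0
    have h5 : x c + c + a + n1 ≠ 0 := by
      intro h5
      rw [eq_of_add h5, h12] at e2'
      exact one_ne_zero e2'
    have h6 := hN c hc a ha hca _ (F.RR_add hRR' hn1) (by rw [map_add, hcr, hm1.1, add_zero]) h5
    rw [F.q_add, h4, hq1, e1'] at h6
    exact absurd h6 (by decide)

/-- in the anisotropic case `RR a` has order four -/
theorem four_of_ani (F : TFam q b H O W X) (hT : ∀ a ∈ O, ∃ x ∈ X a, ¬ XS b X a x)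
    (hR : ∀ a ∈ O, ∃ r, RR q b X a r ∧ r ≠ 0 ∧ r ≠ a) (hN : Ani q b O X) (ha : a ∈ O) :
    ∃ r, Four q b X a r := by
  obtain ⟨r, hr, hr0, hra⟩ := hR a ha
  by_contra hcon
  push Not at hcon
  have h1 : ¬ Four q b X a r := hcon r
  rw [Four] at h1
  push Not at h1
  obtain ⟨s, hs, hs0, hsa, hsr, hsra⟩ := h1 hr hr0 hra
  obtain ⟨c, hc, hca⟩ : ∃ c ∈ O, b c a = 1 := by
    by_contra h2
    push Not at h2
    apply F.zero a ha
    apply F.span
    intro c hc
    rcases zm (b c a) with h3 | h3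
    · exact h3
    · exact absurd h3 (h2 c hc)
  have hac : b a c = 1 := by rw [F.comm]; exact hca
  -- the perpendicular part
  have key : ∃ n1 n2, RR q b X a n1 ∧ RR q b X a n2 ∧ b c n1 = 0 ∧ b c n2 = 0 ∧ b n1 n2 = 1 := by
    have h2 : ∀ t, RR q b X a t → RR q b X a (t + b c t • a) ∧ b c (t + b c t • a) = 0 := by
      intro t ht
      rcases zm (b c t) with h3 | h3 <;> rw [h3]
      · rw [zero_smul, add_zero]; exact ⟨ht, h3⟩
      · rw [one_smul, map_add, h3, hca]
        exact ⟨F.RR_add ht (F.RR_a ha), by decide⟩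
    obtain ⟨k1, k2⟩ := h2 r hr
    obtain ⟨k3, k4⟩ := h2 s hs
    refine ⟨_, _, k1, k3, k2, k4, ?_⟩
    have hz : ∀ t : ZMod 2, t • a = 0 ∨ t • a = a := by
      intro t
      rcases zm t with rfl | rfl
      · left; rw [zero_smul]
      · right; rw [one_smul]
    have n1 : r + b c r • a ≠ 0 := by
      intro h
      rcases hz (b c r) with h3 | h3 <;> rw [h3] at h
      · rw [add_zero] at h; exact hr0 h
      · exact hra (eq_of_add h)
    have n2 : s + b c s • a ≠ 0 := by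
      intro h
      rcases hz (b c s) with h3 | h3 <;> rw [h3] at h
      · rw [add_zero] at h; exact hs0 h
      · exact hsa (eq_of_add h)
    have n3 : (r + b c r • a) + (s + b c s • a) ≠ 0 := by
      intro h
      have h4 : s = r + (b c r • a + b c s • a) := by
        apply eq_of_add
        calc s + (r + (b c r • a + b c s • a)) = (r + b c r • a) + (s + b c s • a) := by abel
          _ = 0 := h
      rcases hz (b c r) with h5 | h5 <;> rcases hz (b c s) with h6 | h6 <;> rw [h5, h6] at h4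
      · rw [add_zero, add_zero] at h4; exact hsr h4
      · rw [zero_add] at h4; exact hsra h4
      · rw [add_zero] at h4; exact hsra h4
      · rw [add_self, add_zero] at h4; exact hsr h4
    have q1 := hN c hc a ha hca _ k1 k2 n1
    have q2 := hN c hc a ha hca _ k3 k4 n2
    have q3 := hN c hc a ha hca _ (F.RR_add k1 k3) (by rw [map_add, k2, k4, add_zero]) n3
    rw [F.q_add, q1, q2] at q3
    rcases zm (b (r + b c r • a) (s + b c s • a)) with h4 | h4
    · rw [h4] at q3; exact absurd q3 (by decide)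
    · exact h4
  obtain ⟨n1, n2, hn1, hn2, hc1, hc2, h12⟩ := key
  obtain ⟨h, hh, hhc⟩ := F.trans a ha c hc
  have r1 := F.RR_map hh ha hn1
  have r2 := F.RR_map hh ha hn2
  have r12 : b (h n1) (h n2) = 1 := by rw [F.b_H hh]; exact h12
  rw [hhc] at r1 r2
  have h2 : ∀ t, RR q b X c t → RR q b X c (t + b a t • c) ∧ b a (t + b a t • c) = 0 := by
    intro t ht
    rcases zm (b a t) with h3 | h3 <;> rw [h3]
    · rw [zero_smul, add_zero]; exact ⟨ht, h3⟩
    · rw [one_smul, map_add, h3, hac]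
      exact ⟨F.RR_add ht (F.RR_a hc), by decide⟩
  obtain ⟨k1, k2⟩ := h2 _ r1
  obtain ⟨k3, k4⟩ := h2 _ r2
  have k5 : b (h n1 + b a (h n1) • c) (h n2 + b a (h n2) • c) = 1 := by
    rw [ladd, map_add, map_add, map_smul, map_smul, map_smul, LinearMap.smul_apply, LinearMap.smul_apply,
      F.comm (h n1) c, r1.1, r2.1, F.self, r12]; simp
  obtain ⟨a', ha', c', hc', hac', m1, m2, e1, e2, e3, e4, e5⟩ :=
    F.common hN ha hc hac hn1 hn2 hc1 hc2 h12 k1 k3 k2 k4 k5
  exact F.no_common hT hN ha' hc' hac' e1 e2 e3 e4 e5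

end TFam

end Cfsg.Agent.Omega.EH3.TCL

end

section


/-!
# THEOREM 2C: the anisotropic case, `|RR a / ⟨a⟩| = 2` (helper465)

`pair_A`: `b n m = 0` is impossible.  `case_C`: `b n m = 1` for all pairs gives a common fixed vector of `X a`
and `X c`.
-/

set_option autoImplicit false

namespace Cfsg.Agent.Omega.EH3.TCL

open Module Cfsg.Agent.LargeExtra.SiegFam Cfsg.Agent.LargeExtra.SiegFam.Lin

variable {V : Type*} [AddCommGroup V] [Module (ZMod 2) V]
variable {q : V → ZMod 2} {b : LinearMap.BilinForm (ZMod 2) V} {H : Subgroup (V ≃ₗ[ZMod 2] V)} {O : Set V}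
  {W : V → Submodule (ZMod 2) V} {X : V → Subgroup (V ≃ₗ[ZMod 2] V)}

namespace TFam

variable {a c v n m : V} {x y z : V ≃ₗ[ZMod 2] V}

theorem not_mem_W (F : TFam q b H O W X) (ha : a ∈ O) (hn : q n = 1) : n ∉ W a := by
  intro h
  rw [F.q_W a ha n h] at hn
  exact zero_ne_one hn

/-- (A) -/
theorem pair_A (F : TFam q b H O W X) (hT : ∀ a ∈ O, ∃ x ∈ X a, ¬ XS b X a x)
    (ha : a ∈ O) (hc : c ∈ O) (hac : b a c = 1) (hn : Four q b X a n) (hcn : b c n = 0) (hqn : q n = 1)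
    (hm : RR q b X c m) (ham : b a m = 0) (hqm : q m = 1) (hnm : b n m = 0) : False := by
  have hca : b c a = 1 := by rw [F.comm]; exact hac
  obtain ⟨u, hu, hu'⟩ := hn.1.2
  have han := hn.1.1
  have hS := F.RR_XS hu hu'
  have hnW := F.not_mem_W ha hqn
  have hmW := F.not_mem_W ha hqm
  -- the position of `n`, `m`
  have hpos : n + m ∈ W a ∨ ((∀ w ∈ W a, b n w = 0) ∧ ∀ w ∈ W a, b m w = 0) := by
    by_cases hnm' : n = m
    · left; rw [hnm', add_self]; exact (W a).zero_mem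
    obtain ⟨h, hh, he, hha, -⟩ := F.cube ha hc hac hn.1 hcn hqn hm ham hqm hnm
    have h1 : ∀ w ∈ W a, b n w • n + b m w • m ∈ W a := by
      intro w hw
      have h2 := F.W_map h hh a ha w hw
      rw [hha, he] at h2
      have e : b n w • n + b m w • m = (w + b n w • n + b m w • m) + w := by v2
      rw [e]; exact (W a).add_mem h2 hw
    by_cases hex : ∃ w ∈ W a, b n w = 1
    · left
      obtain ⟨w, hw, h2⟩ := hex
      have h3 := h1 w hw
      rw [h2, one_smul] at h3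
      rcases zm (b m w) with h4 | h4
      · rw [h4, zero_smul, add_zero] at h3; exact absurd h3 hnW
      · rw [h4, one_smul] at h3; exact h3
    · right
      push Not at hex
      have h2 : ∀ w ∈ W a, b n w = 0 := by
        intro w hw
        rcases zm (b n w) with h3 | h3
        · exact h3
        · exact absurd h3 (hex w hw)
      refine ⟨h2, fun w hw => ?_⟩
      have h3 := h1 w hw
      rw [h2 w hw, zero_smul, zero_add] at h3
      rcases zm (b m w) with h4 | h4
      · exact h4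
      · rw [h4, one_smul] at h3; exact absurd h3 hmW
  have hmN : NN b X a m := by
    rcases hpos with h | h
    · have e : m = n + (n + m) := by v2
      rw [e]; exact F.NN_add (F.RR_NN ha hn.1) (F.NN_W ha h)
    · exact F.NN_orth ha h.2
  have hidx := fix_index hmN (F.X_fix a ha)
  have huc : u c = c + n + a := by
    rw [hu', sg_one' hqn, F.comm n c, hcn, hac, zero_smul, add_zero, one_smul, one_smul]
  -- an element with `g = 1` is `u`
  have key : ∀ x ∈ X a, x m = m → b c (x c) = 1 → x = u := by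
    intro x hx hxm hg
    have hxW : x c + c ∉ W a := by
      intro h
      have h1 := F.inj a ha x hx c hac h
      rw [h1, one_app, F.self] at hg
      exact zero_ne_one hg
    have hcase : (x c + c) + n ∈ W a → x = u := by
      intro h
      have h1 : (x * u) c + c ∈ W a := by
        obtain ⟨w, hw, e⟩ := F.delta_mul_W ha hx hu c
        rw [e, huc]
        have e2 : x c + c + (c + n + a + c) + w = (x c + c + n) + a + w := by v2
        rw [e2]
        exact (W a).add_mem ((W a).add_mem h (F.self_W a ha)) hw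
      have h2 := F.inj a ha _ ((X a).mul_mem hx hu) c hac h1
      ext w
      have h3 : ∀ w, x (u w) = w := fun w => by rw [← mul_app, h2]; rfl
      have h4 := h3 (u w)
      rw [F.X_sq a ha u hu] at h4
      exact h4
    by_cases hex : ∃ w ∈ W a, b (x c + c) w = 1
    · obtain ⟨w, hw, h1⟩ := hex
      have h2 := F.tn ha hc hm ham hqm hx hxm hg hw
      rw [h1, one_smul] at h2
      rcases zm (b m w) with h3 | h3
      · rw [h3, zero_smul, add_zero] at h2; exact absurd h2 hxW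
      · rcases hpos with h4 | h4
        · apply hcase
          rw [h3, one_smul] at h2
          have e : x c + c + n = (x c + c + m) + (n + m) := by v2
          rw [e]; exact (W a).add_mem h2 h4
        · rw [h4.2 w hw] at h3; exact absurd h3 (by decide)
    · push Not at hex
      have h2 : ∀ w ∈ W a, b (x c + c) w = 0 := by
        intro w hw
        rcases zm (b (x c + c) w) with h3 | h3
        · exact h3
        · exact absurd h3 (hex w hw)
      have hXS := F.XS_of_NN ha hx hac (by rw [add_self]; exact (W a).zero_mem) (F.NN_orth ha h2)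
      have hRR := F.RR_of_XS ha hXS hac
      rcases hn.2.2.2 _ hRR with h3 | h3 | h3 | h3
      · exfalso; apply hxW; rw [h3]; exact (W a).zero_mem
      · exfalso; apply hxW; rw [h3]; exact F.self_W a ha
      · apply hcase; rw [h3, add_self]; exact (W a).zero_mem
      · apply hcase; rw [h3]
        have e : n + a + n = a := by v2
        rw [e]; exact F.self_W a ha
  have hum : u m = m := by
    rw [hu', sg_fix ham hnm]
  have hgu : b c (u c) = 1 := by rw [huc, map_add, map_add, F.self, hcn, hca]; decide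
  obtain ⟨x, hx, y, hy, z, hz, hxm, hym, h1⟩ := F.pick ha (hT a ha) hac (fun x => x m = m) hidx
  have g0 : ∀ s ∈ X a, s m = m → s ≠ u → b c (s c) = 0 := by
    intro s hs h2 h3
    rcases zm (b c (s c)) with h4 | h4
    · exact h4
    · exact absurd (key s hs h2 h4) h3
  have t0 : ∀ s ∈ X a, ∀ t ∈ X a, tri b c u s t = 0 := fun s hs t ht => F.XS_tri ha hS hs ht c
  have tone : ∀ s t : V ≃ₗ[ZMod 2] V, tri b c 1 s t = 0 := by
    intro s t
    rw [tri, one_app, add_self, map_zero, add_zero, map_zero, LinearMap.zero_apply]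
  have hxy := (X a).mul_mem hx hy
  have txy : tri b c (x * y) y z = 1 := by
    rw [F.tri_mul1 ha hx hy hy hz, F.tri_alt1 ha hy hz, h1, add_zero]
  have nx : x ≠ u := by
    rintro rfl
    rw [t0 y hy z hz] at h1; exact zero_ne_one h1
  have h1y : tri b c y x z = 1 := by rw [F.tri_12 ha hy hx]; exact h1
  have ny : y ≠ u := by
    rintro rfl
    rw [t0 x hx z hz] at h1y; exact zero_ne_one h1y
  have nxy : x * y ≠ u := by
    intro h
    rw [h, t0 y hy z hz] at txy; exact zero_ne_one txy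
  have n1 : ∀ s t : V ≃ₗ[ZMod 2] V, tri b c s t z = 1 → u * s ≠ u := by
    intro s t h2 h3
    have h4 : s = 1 := by
      have := mul_left_cancel (h3.trans (mul_one u).symm)
      exact this
    rw [h4, tone] at h2
    exact zero_ne_one h2
  have hmul : ∀ {s t : V ≃ₗ[ZMod 2] V}, s m = m → t m = m → (s * t) m = m := by
    intro s t h3 h4; rw [mul_app, h4, h3]
  have h2 := F.tri_g ha hu hx hy c
  rw [t0 x hx y hy, hgu, g0 x hx hxm nx, g0 y hy hym ny,
    g0 _ ((X a).mul_mem hu hx) (hmul hum hxm) (n1 x y h1),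
    g0 _ ((X a).mul_mem hu hy) (hmul hum hym) (n1 y x h1y),
    g0 _ hxy (hmul hxm hym) nxy,
    g0 _ ((X a).mul_mem hu hxy) (hmul hum (hmul hxm hym)) (n1 _ y txy)] at h2
  exact absurd h2 (by decide)

/-- the fixed vectors of `X a` are transported -/
theorem fix_map (F : TFam q b H O W X) (ha : a ∈ O) {h : V ≃ₗ[ZMod 2] V} (hh : h ∈ H) {j : V}
    (hj : ∀ x ∈ X a, x j = j) : ∀ y ∈ X (h a), y (h j) = h j := by
  intro y hy
  have h1 := hj _ (F.X_map' hh ha hy)
  rw [mul_app, mul_app] at h1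
  have h2 := congrArg h h1
  rwa [inv_app] at h2

/-- (C) -/
theorem case_C (F : TFam q b H O W X) (hF : ∀ a ∈ O, ∃ r, Four q b X a r) (hN : Ani q b O X)
    (hC : ∀ a ∈ O, ∀ c ∈ O, b a c = 1 → ∀ n m, Four q b X a n → b c n = 0 → Four q b X c m → b a m = 0 →
      b n m = 1) (ha : a ∈ O) (hc : c ∈ O) (hac : b a c = 1) :
    ∃ j, j ≠ 0 ∧ (∀ x ∈ X a, x j = j) ∧ ∀ y ∈ X c, y j = j := by
  have hca : b c a = 1 := by rw [F.comm]; exact hac
  obtain ⟨n0, hn0⟩ := hF a ha
  obtain ⟨n, hn, hcn, -⟩ := Four.perp F ha hn0 hac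
  obtain ⟨m0, hm0⟩ := hF c hc
  obtain ⟨m, hm, ham, -⟩ := Four.perp F hc hm0 hca
  have hqn : q n = 1 := hN c hc a ha hca n hn.1 hcn hn.2.1
  have hqm : q m = 1 := hN a ha c hc hac m hm.1 ham hm.2.1
  have hnm : b n m = 1 := hC a ha c hc hac n m hn hcn hm ham
  have hmn : b m n = 1 := by rw [F.comm]; exact hnm
  obtain ⟨u, hu, hu'⟩ := hn.1.2
  obtain ⟨u', hv, hv'⟩ := hm.1.2
  have han := hn.1.1
  have hcm := hm.1.1
  have huc : u c = c + n + a := by
    rw [hu', sg_one' hqn, F.comm n c, hcn, hac, zero_smul, add_zero, one_smul, one_smul]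
  have hNn := F.RR_NN ha hn.1
  -- step 1
  have st1 : ∀ x ∈ X a, b c (x c) = 1 → b m (x c) = 1 := by
    intro x hx hg
    by_contra h1
    have h1 : b m (x c) = 0 := by
      rcases zm (b m (x c)) with h2 | h2
      · exact h2
      · exact absurd h2 h1
    have hxH := F.X_H ha hx
    have h2 := hC c hc (x c) (F.stable x hxH c hc) hg m (x m) hm (by rw [F.comm]; exact h1)
      (Four.map F hxH hc hm) (by rw [← F.b_adj ha hx, F.comm]; exact h1)
    rw [F.b_fix_self ha hx ham] at h2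
    exact zero_ne_one h2
  -- step 2
  have hxn : ∀ x ∈ X a, b c (x n) = b n (x c) := by
    intro x hx; rw [F.comm c, F.b_adj ha hx]
  have st2g : ∀ x ∈ X a, b c ((x * u) c) = b c (x c) + b n (x c) + 1 := by
    intro x hx
    rw [mul_app, huc, map_add, map_add, map_add, map_add, hxn x hx, F.X_fix a ha x hx, hca]
  have st2t : ∀ x ∈ X a, b m ((x * u) c) = b m (x c) + 1 := by
    intro x hx
    rw [mul_app, huc, map_add, map_add, map_add, map_add, F.X_fix a ha x hx, F.comm m a, ham, add_zero]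
    congr 1
    rcases hNn.2 x hx with h1 | h1
    · rw [h1]; exact hmn
    · rw [h1, map_add, hmn, F.comm m a, ham, add_zero]
  -- step 3
  have st3 : ∀ x ∈ X a, b c (x c) = b m (x c) * (b n (x c) + 1) := by
    intro x hx
    have h1 := st1 x hx
    have h2 := st1 (x * u) ((X a).mul_mem hx hu)
    rw [st2g x hx, st2t x hx] at h2
    revert h1 h2
    generalize b c (x c) = g, b m (x c) = t, b n (x c) = k
    revert g t k; decide
  -- step 4
  obtain ⟨x, hx, hw⟩ := F.surj a ha c hac m ham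
  generalize hwd : x c + c + m = w at hw
  have hxc : x c = c + m + w := by rw [← hwd]; v2
  have e1 : b m w = b m (x c) := by
    rw [hxc, map_add, map_add, F.comm m c, hcm, F.self]; abel
  have e2 : b c w = b c (x c) := by
    rw [hxc, map_add, map_add, hcm, F.self]; abel
  have e3 : b n w = b n (x c) + 1 := by
    rw [hxc, map_add, map_add, F.comm n c, hcn, hnm, zero_add, add_comm 1 (b n w), add_assoc, one_add,
      add_zero]
  have e4 : b c w + b m w = 1 := by
    have h1 := F.q_H x (F.X_H ha hx) c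
    rw [hxc, F.q_add, F.q_add, F.q_self hc, hqm, F.q_W a ha w hw, hcm, ladd] at h1
    revert h1
    generalize b c w = s, b m w = t
    revert s t; decide
  have e5 : b m w = 1 ∧ b c w = 0 ∧ b n w = 0 := by
    have h1 := st3 x hx
    rw [← e1, ← e2] at h1
    revert e3 e4 h1
    generalize b c w = s, b m w = t, b n w = r, b n (x c) = k
    revert s t r k; decide
  obtain ⟨f1, f2, f3⟩ := e5
  -- `x m = m + a`
  have hxm : x m = m + a := by
    have h1 : x m + m = 0 ∨ x m + m = a := by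
      apply F.eq_of_perp
      intro t ht
      obtain ⟨y, hy, hy'⟩ := F.surj a ha c hac t ht
      rw [F.tri_rep ha hx hx hy (v := c) (t := m) (by rw [hwd]; exact hw) hy']
      exact F.tri_alt1 ha hx hy c
    have h2 : b (x m + m) c = 1 := by
      rw [F.b_adj' ha hx, map_add, ← e1, f1, F.comm m c, hcm, add_zero]
    rcases h1 with h3 | h3
    · rw [h3, map_zero, LinearMap.zero_apply] at h2; exact absurd h2 (by decide)
    · calc x m = x m + m + m := by v2
        _ = m + a := by rw [h3]; v2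
  -- step 5
  have hkn : b n (x c) = 1 := by
    rw [f3] at e3
    revert e3
    generalize b n (x c) = k
    revert k; decide
  have st5 : ∀ y ∈ X a, b w (y c) = b n (y c) := by
    intro y hy
    have hxy := (X a).mul_mem hx hy
    have g1 : b c ((x * y) c) = b c (y c) + b m (y c) + b w (y c) := by
      rw [mul_app, ← F.b_adj ha hx, hxc, ladd, ladd]
    have hay : b a (y c) = 1 := by rw [F.b_fix ha hy]; exact hac
    have g2 : b m ((x * y) c) = b m (y c) + 1 := by
      rw [mul_app, ← F.b_adj ha hx, hxm, ladd, hay]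
    have g3 : b n ((x * y) c) = b n (y c) + 1 := by
      rw [mul_app, ← F.b_adj ha hx]
      have h2 : b (x n + n) c = 1 := by
        rw [F.b_adj' ha hx, map_add, hkn, F.comm n c, hcn, add_zero]
      rcases hNn.2 x hx with h3 | h3
      · rw [h3, add_self, map_zero, LinearMap.zero_apply] at h2; exact absurd h2 (by decide)
      · rw [h3, ladd, hay]
    have h1 := st3 _ hxy
    have h2 := st3 y hy
    rw [g1, g2, g3] at h1
    revert h1 h2
    generalize b c (y c) = g, b m (y c) = t, b n (y c) = k, b w (y c) = l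
    revert g t k l; decide
  -- step 6
  have hjN : NN b X a (n + w) := F.NN_add hNn (F.NN_W ha hw)
  have hj : ∀ y ∈ X a, y (n + w) = n + w := by
    intro y hy
    have h2 : b (y (n + w) + (n + w)) c = 0 := by
      rw [F.b_adj' ha hy, ladd, map_add, map_add, st5 y hy, F.comm n c, hcn, F.comm w c, f2, add_zero,
        zadd]
    rcases hjN.2 y hy with h3 | h3
    · exact h3
    · exfalso
      rw [h3] at h2
      have e : n + w + a + (n + w) = a := by v2
      rw [e, hac] at h2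
      exact one_ne_zero h2
  -- step 7
  have haw : b a w = 0 := F.perp_W ha hw
  have j1 : b n (n + w) = 0 := by rw [map_add, F.self, f3, add_zero]
  have j2 : b m (n + w) = 0 := by rw [map_add, hmn, f1]; decide
  have j3 : b c (n + w) = 0 := by rw [map_add, hcn, f2, add_zero]
  have j4 : b a (n + w) = 0 := by rw [map_add, han, haw, add_zero]
  have hj0 : n + w ≠ 0 := by
    intro h
    rw [eq_of_add h, F.q_W a ha w hw] at hqn
    exact zero_ne_one hqn
  refine ⟨n + w, hj0, hj, ?_⟩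
  -- step 8
  have uj : u (n + w) = n + w := hj u hu
  have vj : u' (n + w) = n + w := by rw [hv', sg_fix j3 j2]
  have ua : u a = a := F.X_fix a ha u hu
  have un : u n = n := by
    rw [hu', sg_one' hqn, F.self, han, zero_smul, add_zero, zero_smul, add_zero, add_zero]
  have um : u m = m + a := by
    rw [hu', sg_one' hqn, hnm, ham, one_smul, zero_smul, zero_smul, add_zero, add_zero]
  have va : u' a = a + m + c := by
    rw [hv', sg_one' hqm, F.comm m a, ham, hca, zero_smul, add_zero, one_smul, one_smul]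
  have vc : u' c = c := F.X_fix c hc u' hv
  have vm : u' m = m := by
    rw [hv', sg_one' hqm, F.self, hcm, zero_smul, add_zero, zero_smul, add_zero, add_zero]
  have vn : u' n = n + c := by
    rw [hv', sg_one' hqm, hmn, hcn, one_smul, zero_smul, zero_smul, add_zero, add_zero]
  have hmove : (u * u' * (u * u')) a = c := by
    have t1 : u (a + m + c) = a + m + n + c := by rw [map_add, map_add, ua, um, huc]; v2
    have t2 : u' (a + m + n + c) = a + n + c := by
      rw [map_add, map_add, map_add, va, vm, vn, vc]; v2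
    have t3 : u (a + n + c) = c := by rw [map_add, map_add, ua, un, huc]; v2
    rw [mul_app, mul_app, mul_app, va, t1, t2, t3]
  have hfix : (u * u' * (u * u')) (n + w) = n + w := by
    rw [mul_app, mul_app, mul_app, vj, uj, vj, uj]
  have hH : u * u' * (u * u') ∈ H :=
    H.mul_mem (H.mul_mem (F.X_H ha hu) (F.X_H hc hv)) (H.mul_mem (F.X_H ha hu) (F.X_H hc hv))
  have := F.fix_map ha hH hj
  rw [hmove, hfix] at this
  exact this

/-- the anisotropic case gives common fixed vectors -/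
theorem case_N (F : TFam q b H O W X) (hT : ∀ a ∈ O, ∃ x ∈ X a, ¬ XS b X a x)
    (hR : ∀ a ∈ O, ∃ r, RR q b X a r ∧ r ≠ 0 ∧ r ≠ a) (hN : Ani q b O X) :
    (∀ a ∈ O, ∃ r, Four q b X a r) ∧
    ∀ a ∈ O, ∀ c ∈ O, b a c = 1 → ∃ j, j ≠ 0 ∧ (∀ x ∈ X a, x j = j) ∧ ∀ y ∈ X c, y j = j := by
  have hF : ∀ a ∈ O, ∃ r, Four q b X a r := fun a ha => F.four_of_ani hT hR hN ha
  refine ⟨hF, fun a ha c hc hac => F.case_C hF hN ?_ ha hc hac⟩
  intro a ha c hc hac n m hn hcn hm ham
  have hca : b c a = 1 := by rw [F.comm]; exact hac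
  rcases zm (b n m) with h1 | h1
  · exact (F.pair_A hT ha hc hac hn hcn (hN c hc a ha hca n hn.1 hcn hn.2.1) hm.1 ham
      (hN a ha c hc hac m hm.1 ham hm.2.1) h1).elim
  · exact h1

end TFam

end Cfsg.Agent.Omega.EH3.TCL

end

section


/-!
# THEOREM 2C: the bridge from a pair (helper71)

`tFam`: for `p : Pair Q z A a` with `C_G(z)` irreducible on `V`: `TFam p.lz.q p.lz.b p.H (orb p) (fam p p.D) (xfam p)`.
`exists_not_XS`: `¬ AllSg p` gives the hypothesis `hT` of THEOREM 2C.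
`card_D`, `noSg`: the conclusion `RR ⊆ {0, a}` of THEOREM 2C gives `|D̃| = 2^w` and `NoSg p`.
-/

set_option autoImplicit false

namespace Cfsg.Agent.Omega.EH3.TCL

open Module
open Cfsg.Agent.Co2Type.Quad Cfsg.Agent.LargeExtra.Base Cfsg.Agent.LargeExtra.TwoCentral
open Cfsg.Agent.LargeExtra.Siegel Cfsg.Agent.LargeExtra.SiegelOrbit Cfsg.Agent.LargeExtra.SixInst
open Cfsg.Agent.LargeExtra.SiegFam.Inst Cfsg.Agent.LargeExtra.SiegFam
open Cfsg.Agent.LargeExtra.Tri.Basic

variable {G : Type*} [Group G] {Q A : Subgroup G} {z a : G}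

/-- transport of `X` along the orbit -/
noncomputable def xfam (p : Pair Q z A a) (c : p.lz.V) : Subgroup (p.lz.V ≃ₗ[ZMod 2] p.lz.V) := by
  classical
  exact if h : ∃ f ∈ p.H, f p.va = c then p.X.map (MulAut.conj h.choose).toMonoidHom else ⊥

theorem mem_xfam (p : Pair Q z A a) {f : p.lz.V ≃ₗ[ZMod 2] p.lz.V} (hf : f ∈ p.H)
    {g : p.lz.V ≃ₗ[ZMod 2] p.lz.V} : g ∈ xfam p (f p.va) ↔ ∃ x ∈ p.X, f * x * f⁻¹ = g := by
  classical
  have hex : ∃ g ∈ p.H, g p.va = f p.va := ⟨f, hf, rfl⟩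
  have e : xfam p (f p.va) = p.X.map (MulAut.conj hex.choose).toMonoidHom := by
    rw [xfam, dif_pos hex]
  rw [e]
  obtain ⟨h1, h2⟩ := hex.choose_spec
  generalize hex.choose = k at h1 h2
  have key : ∀ g g' : p.lz.V ≃ₗ[ZMod 2] p.lz.V, g ∈ p.H → g' ∈ p.H → g p.va = g' p.va →
      ∀ x ∈ p.X, g'⁻¹ * g * x * (g'⁻¹ * g)⁻¹ ∈ p.X := by
    intro g g' hg hg' hgg x hx
    apply p.X_normal (p.H.mul_mem (p.H.inv_mem hg') hg) _ hx
    show g'⁻¹ (g p.va) = p.va
    rw [hgg]
    exact g'.symm_apply_apply _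
  constructor
  · rintro ⟨x, hx, rfl⟩
    refine ⟨_, key k f h1 hf h2 x hx, ?_⟩
    show f * (f⁻¹ * k * x * (f⁻¹ * k)⁻¹) * f⁻¹ = k * x * k⁻¹
    group
  · rintro ⟨x, hx, rfl⟩
    refine ⟨_, key f k hf h1 h2.symm x hx, ?_⟩
    show k * (k⁻¹ * f * x * (k⁻¹ * f)⁻¹) * k⁻¹ = f * x * f⁻¹
    group

theorem mul_v (p : Pair Q z A a) (f g : p.lz.V ≃ₗ[ZMod 2] p.lz.V) (v : p.lz.V) :
    (f * g) v = f (g v) := rfl

theorem inv_v (p : Pair Q z A a) (f : p.lz.V ≃ₗ[ZMod 2] p.lz.V) (v : p.lz.V) : f⁻¹ (f v) = v :=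
  f.symm_apply_apply v

theorem v_inv (p : Pair Q z A a) (f : p.lz.V ≃ₗ[ZMod 2] p.lz.V) (v : p.lz.V) : f (f⁻¹ v) = v :=
  f.apply_symm_apply v

/-- **the instance** -/
theorem tFam [Finite G] (p : Pair Q z A a) (hirr : IrrC p.lz) :
    TFam p.lz.q p.lz.b p.H (orb p) (fam p p.D) (xfam p) where
  alt := alt p.lz
  q_add := p.lz.q_add'
  q_H := fun h hh v => H_le_O p hh v
  zero := by
    rintro _ ⟨f, hf, rfl⟩ h0
    exact p.va_ne (f.map_eq_zero_iff.1 h0)
  stable := by
    rintro h hh _ ⟨f, hf, rfl⟩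
    exact ⟨h * f, p.H.mul_mem hh hf, rfl⟩
  trans := by
    rintro _ ⟨f, hf, rfl⟩ _ ⟨g, hg, rfl⟩
    refine ⟨g * f⁻¹, p.H.mul_mem hg (p.H.inv_mem hf), ?_⟩
    rw [mul_v p, inv_v p]
  self_W := by
    rintro _ ⟨f, hf, rfl⟩
    exact (mem_fam p (inv_D p) hf).2 ⟨p.va, p.va_mem_D, rfl⟩
  q_W := by
    rintro _ ⟨f, hf, rfl⟩ v hv
    obtain ⟨s, hs, rfl⟩ := (mem_fam p (inv_D p) hf).1 hv
    rw [q_of_mem_O p.lz (H_le_O p hf)]
    exact p.q_D hs
  W_map := fun h hh c hc v hv => fam_map p (inv_D p) hh hc hv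
  X_le := by
    rintro _ ⟨f, hf, rfl⟩ g hg
    obtain ⟨x, hx, rfl⟩ := (mem_xfam p hf).1 hg
    exact p.H.mul_mem (p.H.mul_mem hf (p.X_le_H hx)) (p.H.inv_mem hf)
  X_map := by
    rintro h hh _ ⟨f, hf, rfl⟩ g hg
    obtain ⟨x, hx, rfl⟩ := (mem_xfam p hf).1 hg
    refine (mem_xfam p (p.H.mul_mem hh hf)).2 ⟨x, hx, ?_⟩
    group
  X_fix := by
    rintro _ ⟨f, hf, rfl⟩ g hg
    obtain ⟨x, hx, rfl⟩ := (mem_xfam p hf).1 hg
    rw [mul_v p, mul_v p, inv_v p, p.X_va hx]
  X_comm := by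
    rintro _ ⟨f, hf, rfl⟩ g hg g' hg' v
    obtain ⟨x, hx, rfl⟩ := (mem_xfam p hf).1 hg
    obtain ⟨y, hy, rfl⟩ := (mem_xfam p hf).1 hg'
    simp only [mul_v p, inv_v p]
    have := congrArg (fun k : p.lz.V ≃ₗ[ZMod 2] p.lz.V => k (f⁻¹ v)) (p.X_comm hx hy)
    exact congrArg f this
  X_sq := by
    rintro _ ⟨f, hf, rfl⟩ g hg v
    obtain ⟨x, hx, rfl⟩ := (mem_xfam p hf).1 hg
    simp only [mul_v p, inv_v p]
    have := congrArg (fun k : p.lz.V ≃ₗ[ZMod 2] p.lz.V => k (f⁻¹ v)) (p.X_sq hx)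
    have h2 : x (x (f⁻¹ v)) = f⁻¹ v := this
    rw [h2, v_inv p]
  X_perp := by
    rintro _ ⟨f, hf, rfl⟩ g hg v hv
    obtain ⟨x, hx, rfl⟩ := (mem_xfam p hf).1 hg
    have h1 : p.lz.b p.va (f⁻¹ v) = 0 := by
      rw [← b_of_mem_O p.lz (H_le_O p hf), v_inv p]; exact hv
    refine (mem_fam p (inv_D p) hf).2 ⟨_, p.X_perp hx h1, ?_⟩
    rw [map_add, v_inv p]; rfl
  X_W := by
    rintro _ ⟨f, hf, rfl⟩ g hg v hv
    obtain ⟨x, hx, rfl⟩ := (mem_xfam p hf).1 hg
    obtain ⟨s, hs, rfl⟩ := (mem_fam p (inv_D p) hf).1 hv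
    rw [mul_v p, mul_v p, inv_v p]
    rcases p.X_D hx hs with h | h
    · left; rw [h]
    · right; rw [h, map_add]
  inj := by
    rintro _ ⟨f, hf, rfl⟩ g hg v hv hW
    obtain ⟨x, hx, rfl⟩ := (mem_xfam p hf).1 hg
    obtain ⟨s, hs, hse⟩ := (mem_fam p (inv_D p) hf).1 hW
    have h1 : p.lz.b p.va (f⁻¹ v) = 1 := by
      rw [← b_of_mem_O p.lz (H_le_O p hf), v_inv p]; exact hv
    have h2 : x (f⁻¹ v) + f⁻¹ v ∈ p.D := by
      have e : s = x (f⁻¹ v) + f⁻¹ v := by
        apply f.injective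
        rw [hse, map_add, v_inv p]; rfl
      rw [← e]; exact hs
    rw [eq_one_of_delta p hx h1 h2, mul_one, mul_inv_cancel]
  surj := by
    rintro _ ⟨f, hf, rfl⟩ v hv s hs
    have h1 : p.lz.b p.va (f⁻¹ v) = 1 := by
      rw [← b_of_mem_O p.lz (H_le_O p hf), v_inv p]; exact hv
    have h2 : p.lz.b p.va (f⁻¹ s) = 0 := by
      rw [← b_of_mem_O p.lz (H_le_O p hf), v_inv p]; exact hs
    obtain ⟨x, hx, hx'⟩ := exists_delta p h1 h2
    refine ⟨f * x * f⁻¹, (mem_xfam p hf).2 ⟨x, hx, rfl⟩, ?_⟩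
    refine (mem_fam p (inv_D p) hf).2 ⟨_, hx', ?_⟩
    rw [map_add, map_add, v_inv p, v_inv p]; rfl
  span := by
    intro v hv
    have hU : U p = ⊤ := by
      rcases hirr (U p) (fun c w hw => U_inv p ⟨c, rfl⟩ hw) with h | h
      · exfalso
        have h2 := va_mem_U p
        rw [h, Submodule.mem_bot] at h2
        exact p.va_ne h2
      · exact h
    apply p.lz.b_nondeg
    intro w
    have hw : w ∈ U p := by rw [hU]; trivial
    rw [p.lz.b_comm]
    exact perp_U p (fun f hf => hv _ ⟨f, hf, rfl⟩) w hw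

/-- the hypothesis `hT` of THEOREM 2C -/
theorem exists_not_XS [Finite G] (p : Pair Q z A a) (hA : ¬ AllSg p) :
    ∀ c ∈ orb p, ∃ x ∈ xfam p c, ¬ XS p.lz.b (xfam p) c x := by
  obtain ⟨x, hx, hxS⟩ : ∃ x ∈ p.X, ¬ ∀ v, p.lz.b p.va v = 0 → x v = v ∨ x v = v + p.va := by
    by_contra hcon
    push Not at hcon
    exact hA fun f hf => eq_sg p.lz (q_va p) p.va_ne (X_le_O p hf) (p.X_va hf) (hcon f hf)
  rintro _ ⟨f, hf, rfl⟩
  refine ⟨f * x * f⁻¹, (mem_xfam p hf).2 ⟨x, hx, rfl⟩, fun hXS => hxS fun v hv => ?_⟩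
  have h1 : p.lz.b (f p.va) (f v) = 0 := by rw [b_of_mem_O p.lz (H_le_O p hf)]; exact hv
  rcases hXS.2 _ h1 with h2 | h2
  · left
    rw [mul_v p, mul_v p, inv_v p] at h2
    exact f.injective h2
  · right
    rw [mul_v p, mul_v p, inv_v p, ← map_add] at h2
    exact f.injective h2

theorem xfam_va (p : Pair Q z A a) : xfam p p.va = p.X := by
  have h2 : (1 : p.lz.V ≃ₗ[ZMod 2] p.lz.V) p.va = p.va := rfl
  ext g
  have h1 := mem_xfam p p.H.one_mem (g := g)
  rw [h2] at h1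
  rw [h1]
  constructor
  · rintro ⟨x, hx, rfl⟩
    rw [one_mul, inv_one, mul_one]; exact hx
  · intro hg
    exact ⟨g, hg, by rw [one_mul, inv_one, mul_one]⟩

/-- `W^⊥ = W` from the conclusion of THEOREM 2C -/
theorem D_perp [Finite G] (p : Pair Q z A a) (hirr : IrrC p.lz)
    (hR : ∀ r, RR p.lz.q p.lz.b (xfam p) p.va r → r = 0 ∨ r = p.va) {v : p.lz.V}
    (hv : ∀ w ∈ p.D, p.lz.b v w = 0) : v ∈ p.D := by
  have F := tFam p hirr
  have hva := va_mem_orb p
  have h1 : NN p.lz.b (xfam p) p.va v := F.NN_orth hva fun w hw => by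
    rw [fam_va p (inv_D p)] at hw
    exact hv w hw
  obtain ⟨r, hr, hvr⟩ := F.NN_eq hva h1
  rw [fam_va p (inv_D p)] at hvr
  rcases hR r hr with h2 | h2
  · rw [h2, add_zero] at hvr; exact hvr
  · rw [h2] at hvr
    have := p.D.add_mem hvr p.va_mem_D
    rwa [add_assoc, p.lz.add_self, add_zero] at this

theorem card_D [Finite G] (p : Pair Q z A a) (hirr : IrrC p.lz)
    (hR : ∀ r, RR p.lz.q p.lz.b (xfam p) p.va r → r = 0 ∨ r = p.va) {w : ℕ}
    (hQ : Nat.card Q = 2 ^ (2 * w + 1)) : Nat.card p.D = 2 ^ w := by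
  have hV : Nat.card p.lz.V = 2 ^ w * 2 ^ w := by
    have h1 := p.lz.card_eq
    rw [hQ, pow_succ, mul_comm (2 ^ (2 * w))] at h1
    rw [← Nat.eq_of_mul_eq_mul_left (by norm_num) h1, ← pow_add, two_mul]
  have h1 := Cfsg.Agent.LargeExtra.Perp.card_perp p.lz p.D
  have h2 : p.lz.b.orthogonal p.D = p.D := by
    ext v
    rw [Cfsg.Agent.LargeExtra.Perp.mem_perp]
    constructor
    · intro hv
      exact D_perp p hirr hR fun w hw => by rw [p.lz.b_comm]; exact hv w hw
    · intro hv w hw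
      exact p.b_D hw hv
  rw [h2, hV] at h1
  exact Nat.mul_self_inj.1 h1

/-- no Siegel elements -/
theorem noSg [Finite G] (p : Pair Q z A a) (hirr : IrrC p.lz)
    (hR : ∀ r, RR p.lz.q p.lz.b (xfam p) p.va r → r = 0 ∨ r = p.va) : NoSg p := by
  have F := tFam p hirr
  have hva := va_mem_orb p
  obtain ⟨v, hv, -⟩ := exists_v p
  intro f hf hf1
  by_contra hcon
  push Not at hcon
  apply hf1
  have hXS : XS p.lz.b (xfam p) p.va f := by
    refine ⟨by rw [xfam_va]; exact hf, fun u hu => ?_⟩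
    by_cases h0 : f u + u = 0
    · left; exact Lin.eq_of_add h0
    · right
      have h1 := hcon u hu h0
      have : f u = u + (f u + u) := by v2
      rw [this, h1]
  have h1 := hR _ (F.RR_of_XS hva hXS hv)
  have h2 : f v + v ∈ p.D := by
    rcases h1 with h1 | h1 <;> rw [h1]
    · exact p.D.zero_mem
    · exact p.va_mem_D
  exact eq_one_of_delta p hf hv h2

end Cfsg.Agent.Omega.EH3.TCL

end

section


/-!
# RowS: groups generated by "Siegel groups" in a symplectic group over `F₂` (helper465)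

`SpFam f H O X`: `(U, f)` symplectic over `F₂`, `H ≤ Sp(U)`, `O` an `H`-orbit spanning `U`, `X p ≤ H_p` (`p ∈ O`)
equivariant, trivial on `p^⊥/p`, inducing all of `Hom(p^⊥/p, ⟨p⟩)` and containing no transvection.  If
`dim U ≥ 6` then there is an `H`-invariant quadratic form `q` with polar form `f`, `O` is the set of nonzero
singular vectors of `q` and `X p` is the full group of Siegel elements `sg q f p y`, `y ∈ p^⊥` (`main`).
-/

set_option autoImplicit false

namespace Cfsg.Agent.Omega.EH3.RowS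

open Module Cfsg.Agent.LargeExtra.SiegFam Cfsg.Agent.LargeExtra.SiegFam.Lin
open Cfsg.Agent.Omega.EH3.TCL (mul_app inv_app app_inv one_app z2 z4 z6 z8 n2 n4 n6 n8)

variable {U : Type*} [AddCommGroup U] [Module (ZMod 2) U]

/-- the element of `Sp(U)_p`, trivial on `p^⊥/p`, with data `y`, `γ` -/
def tx (f : LinearMap.BilinForm (ZMod 2) U) (p y : U) (γ : ZMod 2) (u : U) : U :=
  u + f y u • p + f p u • (y + γ • p)

/-- the abstract family -/
structure SpFam (f : LinearMap.BilinForm (ZMod 2) U) (H : Subgroup (U ≃ₗ[ZMod 2] U))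
    (O : Set U) (X : U → Subgroup (U ≃ₗ[ZMod 2] U)) : Prop where
  alt : Alt f
  dim : 6 ≤ finrank (ZMod 2) U
  f_H : ∀ h ∈ H, ∀ u v, f (h u) (h v) = f u v
  ne : O.Nonempty
  zero : ∀ p ∈ O, p ≠ 0
  stable : ∀ h ∈ H, ∀ p ∈ O, h p ∈ O
  trans : ∀ p ∈ O, ∀ p' ∈ O, ∃ h ∈ H, h p = p'
  X_le : ∀ p ∈ O, X p ≤ H
  X_map : ∀ h ∈ H, ∀ p ∈ O, ∀ x ∈ X p, h * x * h⁻¹ ∈ X (h p)
  X_fix : ∀ p ∈ O, ∀ x ∈ X p, x p = p
  X_perp : ∀ p ∈ O, ∀ x ∈ X p, ∀ u, f p u = 0 → x u = u ∨ x u = u + p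
  X_tv : ∀ p ∈ O, ∀ x ∈ X p, (∀ u, f p u = 0 → x u = u) → x = 1
  X_surj : ∀ p ∈ O, ∀ y, f p y = 0 → ∃ x ∈ X p, ∀ u, f p u = 0 → x u = u + f y u • p
  span : ∀ v, (∀ p ∈ O, f p v = 0) → v = 0

open Classical in
/-- the quadratic form at `p` -/
noncomputable def cc (f : LinearMap.BilinForm (ZMod 2) U) (X : U → Subgroup (U ≃ₗ[ZMod 2] U)) (p y : U) :
    ZMod 2 := if ∃ x ∈ X p, ∀ u, x u = tx f p y 1 u then 1 else 0

theorem eq_of_perp' {f : LinearMap.BilinForm (ZMod 2) U} (A : Alt f) {a d : U}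
    (h : ∀ v, f a v = 0 → f d v = 0) : d = 0 ∨ d = a := by
  by_cases h0 : d = 0
  · exact Or.inl h0
  · right
    obtain ⟨v1, h1⟩ := A.exists_ne h0
    have h2 : f a v1 = 1 := zm_ne fun h2 => by rw [h v1 h2] at h1; exact zero_ne_one h1
    apply eq_of_add
    apply A.nondeg
    intro v
    rw [map_add, LinearMap.add_apply]
    rcases zm (f a v) with h3 | h3
    · rw [h v h3, h3, add_zero]
    · have h4 : f a (v + v1) = 0 := by rw [map_add, h3, h2]; decide
      have h5 := h _ h4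
      rw [map_add, h1] at h5
      rw [h3, h5]

/-- every functional is `f m` -/
theorem exists_rep {f : LinearMap.BilinForm (ZMod 2) U} (A : Alt f) (φ : U →ₗ[ZMod 2] ZMod 2) :
    ∃ m, ∀ v, φ v = f m v := by
  have := A.finDim
  have h1 : Function.Injective f := by
    rw [injective_iff_map_eq_zero]
    intro v hv
    apply A.nondeg
    intro w
    rw [hv, LinearMap.zero_apply]
  have h2 : Function.Surjective f := by
    refine (LinearMap.injective_iff_surjective_of_finrank_eq_finrank ?_).1 h1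
    exact (Subspace.dual_finrank_eq (K := ZMod 2) (V := U)).symm
  obtain ⟨m, hm⟩ := h2 φ
  exact ⟨m, fun v => by rw [hm]⟩

namespace SpFam

variable {f : LinearMap.BilinForm (ZMod 2) U} {H : Subgroup (U ≃ₗ[ZMod 2] U)} {O : Set U}
  {X : U → Subgroup (U ≃ₗ[ZMod 2] U)} {p y : U} {γ γ' : ZMod 2} {x : U ≃ₗ[ZMod 2] U}

theorem comm (F : SpFam f H O X) (v w : U) : f v w = f w v := F.alt.comm v w

theorem self (F : SpFam f H O X) (v : U) : f v v = 0 := F.alt.self v

theorem tx_perp {u : U} (h : f p u = 0) : tx f p y γ u = u + f y u • p := by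
  rw [tx, h, zero_smul, add_zero]

/-- the form of the elements of `X p` -/
theorem eq_tx (F : SpFam f H O X) (hp : p ∈ O) (hx : x ∈ X p) (hy : f p y = 0)
    (h : ∀ u, f p u = 0 → x u = u + f y u • p) : ∃ γ, ∀ u, x u = tx f p y γ u := by
  obtain ⟨e, he⟩ := F.alt.exists_ne (F.zero p hp)
  have hxH := F.X_le p hp hx
  have key : x e + e + y = 0 ∨ x e + e + y = p := by
    apply eq_of_perp' F.alt
    intro u hu
    have h1 := F.f_H x hxH e u
    rw [h u hu, map_add, map_smul] at h1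
    have h2 : f (x e) p = 1 := by
      have h3 := F.f_H x hxH p e
      rw [F.X_fix p hp x hx] at h3
      rw [F.comm, h3, he]
    rw [h2, smul_eq_mul, mul_one] at h1
    rw [map_add, map_add, LinearMap.add_apply, LinearMap.add_apply, ← h1]
    generalize f (x e) u = s, f y u = t
    revert s t; decide
  have hg : ∃ γ : ZMod 2, x e = e + y + γ • p := by
    rcases key with h1 | h1
    · refine ⟨0, ?_⟩
      rw [zero_smul, add_zero]
      calc x e = (x e + e + y) + (e + y) := by v2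
        _ = e + y := by rw [h1, zero_add]
    · refine ⟨1, ?_⟩
      rw [one_smul]
      calc x e = (x e + e + y) + (e + y) := by v2
        _ = e + y + p := by rw [h1]; abel
  obtain ⟨γ, hg⟩ := hg
  refine ⟨γ + f y e, fun u => ?_⟩
  rcases zm (f p u) with h1 | h1
  · rw [h u h1, tx_perp h1]
  · have h2 : f p (u + e) = 0 := by rw [map_add, h1, he]; decide
    have h3 := h _ h2
    rw [map_add, hg] at h3
    rw [tx, h1, one_smul]
    have h4 : x u = (u + e + f y (u + e) • p) + (e + y + γ • p) := by rw [← h3]; v2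
    rw [h4, map_add, add_smul, add_smul]; v2

theorem tx_mul (F : SpFam f H O X) {y' : U} (hy : f p y = 0) (hy' : f p y' = 0) (u : U) :
    tx f p y γ (tx f p y' γ' u) = tx f p (y + y') (γ + γ' + f y y') u := by
  have h1 : f p (tx f p y' γ' u) = f p u := by
    rw [tx, map_add, map_add, map_smul, map_smul, map_add, map_smul, F.self, hy']; simp
  have h2 : f y (tx f p y' γ' u) = f y u + f p u * f y y' := by
    rw [tx, map_add, map_add, map_smul, map_smul, map_add, map_smul, F.comm y p, hy]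
    simp only [smul_eq_mul, mul_zero, add_zero]
  rw [tx, h1, h2, tx, tx, map_add, LinearMap.add_apply]
  rcases zm (f p u) with h3 | h3 <;> rw [h3]
  · simp only [zero_smul, add_zero, zero_mul, add_smul]; v2
  · simp only [one_smul, one_mul, add_smul]; v2

theorem tx_self (F : SpFam f H O X) (p u : U) : tx f p p 0 u = u := by
  rw [tx, zero_smul, add_zero]; v2

theorem map_tx (F : SpFam f H O X) {h : U ≃ₗ[ZMod 2] U} (hh : h ∈ H) (u : U) :
    h (tx f p y γ u) = tx f (h p) (h y) γ (h u) := by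
  rw [tx, tx, map_add, map_add, map_smul, map_smul, map_add, map_smul, F.f_H h hh, F.f_H h hh]

/-- uniqueness of `γ` -/
theorem uniq (F : SpFam f H O X) (hp : p ∈ O) (hy : f p y = 0) {x' : U ≃ₗ[ZMod 2] U} (hx : x ∈ X p)
    (hx' : x' ∈ X p) (h : ∀ u, x u = tx f p y γ u) (h' : ∀ u, x' u = tx f p y γ' u) : γ = γ' := by
  have h1 : ∀ u, (x * x') u = tx f p 0 (γ + γ') u := by
    intro u
    rw [mul_app, h, h', F.tx_mul hy hy, F.self, add_zero, add_self]
  have h2 := F.X_tv p hp _ ((X p).mul_mem hx hx') fun u hu => by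
    rw [h1, tx_perp hu, map_zero, LinearMap.zero_apply, zero_smul, add_zero]
  obtain ⟨e, he⟩ := F.alt.exists_ne (F.zero p hp)
  have h3 := h1 e
  rw [h2, one_app, tx, he, map_zero, LinearMap.zero_apply, zero_smul, add_zero, one_smul, zero_add] at h3
  have h4 : (γ + γ') • p = 0 := left_eq_add.1 h3
  rcases zm (γ + γ') with h5 | h5
  · exact CharTwo.add_eq_zero.1 h5
  · rw [h5, one_smul] at h4
    exact absurd h4 (F.zero p hp)

/-- the element of `X p` belonging to `y` -/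
theorem exists_tx (F : SpFam f H O X) (hp : p ∈ O) (hy : f p y = 0) :
    ∃ x ∈ X p, ∀ u, x u = tx f p y (cc f X p y) u := by
  obtain ⟨x, hx, h1⟩ := F.X_surj p hp y hy
  obtain ⟨γ, h2⟩ := F.eq_tx hp hx hy h1
  rcases zm γ with h3 | h3
  · have h4 : cc f X p y = 0 := by
      rw [cc, if_neg]
      rintro ⟨x', hx', h5⟩
      have h6 := F.uniq hp hy hx hx' h2 h5
      rw [h3] at h6
      exact zero_ne_one h6
    exact ⟨x, hx, by rw [h4, ← h3]; exact h2⟩
  · have h4 : cc f X p y = 1 := by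
      rw [cc, if_pos]
      exact ⟨x, hx, by rw [← h3]; exact h2⟩
    exact ⟨x, hx, by rw [h4, ← h3]; exact h2⟩

theorem cc_eq (F : SpFam f H O X) (hp : p ∈ O) (hy : f p y = 0) (hx : x ∈ X p)
    (h : ∀ u, x u = tx f p y γ u) : cc f X p y = γ := by
  obtain ⟨x', hx', h'⟩ := F.exists_tx hp hy
  exact F.uniq hp hy hx' hx h' h

theorem cc_add (F : SpFam f H O X) (hp : p ∈ O) {y' : U} (hy : f p y = 0) (hy' : f p y' = 0) :
    cc f X p (y + y') = cc f X p y + cc f X p y' + f y y' := by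
  obtain ⟨x, hx, h⟩ := F.exists_tx hp hy
  obtain ⟨x', hx', h'⟩ := F.exists_tx hp hy'
  refine F.cc_eq hp (by rw [map_add, hy, hy', add_zero]) ((X p).mul_mem hx hx') fun u => ?_
  rw [mul_app, h, h', F.tx_mul hy hy']

theorem cc_self (F : SpFam f H O X) (hp : p ∈ O) : cc f X p p = 0 :=
  F.cc_eq hp (F.self p) (X p).one_mem fun u => by rw [F.tx_self]; rfl

theorem cc_zero (F : SpFam f H O X) (hp : p ∈ O) : cc f X p 0 = 0 :=
  F.cc_eq hp (map_zero _) (X p).one_mem fun u => by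
    simp [tx]

theorem cc_map (F : SpFam f H O X) {h : U ≃ₗ[ZMod 2] U} (hh : h ∈ H) (hp : p ∈ O) (hy : f p y = 0) :
    cc f X (h p) (h y) = cc f X p y := by
  obtain ⟨x, hx, h1⟩ := F.exists_tx hp hy
  refine F.cc_eq (F.stable h hh p hp) (by rw [F.f_H h hh]; exact hy) (F.X_map h hh p hp x hx) fun u => ?_
  rw [mul_app, mul_app, h1, F.map_tx hh, inv_app]

/-- orbits of `X p` off `p^⊥` -/
theorem orbit (F : SpFam f H O X) (hp : p ∈ O) {e s : U} (he : f p e = 1) (hs : f p s = 0) :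
    ∃ x ∈ X p, x e = e + s + (f s e + cc f X p s) • p := by
  obtain ⟨x, hx, h⟩ := F.exists_tx hp hs
  refine ⟨x, hx, ?_⟩
  rw [h, tx, he, one_smul, add_smul]; abel

end SpFam

end Cfsg.Agent.Omega.EH3.RowS

end

section


/-!
# RowS: the invariant quadratic form (helper465)
-/

set_option autoImplicit false

namespace Cfsg.Agent.Omega.EH3.RowS

open Module Cfsg.Agent.LargeExtra.SiegFam Cfsg.Agent.LargeExtra.SiegFam.Lin
open Cfsg.Agent.Omega.EH3.TCL (mul_app inv_app app_inv one_app z2 z4 z6 z8 n2 n4 n6 n8)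

variable {U : Type*} [AddCommGroup U] [Module (ZMod 2) U]

namespace SpFam

variable {f : LinearMap.BilinForm (ZMod 2) U} {H : Subgroup (U ≃ₗ[ZMod 2] U)} {O : Set U}
  {X : U → Subgroup (U ≃ₗ[ZMod 2] U)} {p y : U} {γ γ' : ZMod 2} {x : U ≃ₗ[ZMod 2] U}

theorem ladd' (v w u : U) : f (v + w) u = f v u + f w u := by
  rw [map_add, LinearMap.add_apply]

/-- a vector perpendicular to `S` and not to `s`, `S` a subspace, `s ∉ S` -/
theorem exists_off (F : SpFam f H O X) {S : Submodule (ZMod 2) U} {s : U} (hs : s ∉ S) :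
    ∃ v, (∀ t ∈ S, f t v = 0) ∧ f s v = 1 := by
  have := F.alt.finDim
  by_contra hcon
  push Not at hcon
  apply hs
  rw [← F.alt.orth_orth S, mem_orth]
  intro v hv
  rw [mem_orth] at hv
  rw [F.comm]
  rcases zm (f s v) with h1 | h1
  · exact h1
  · exact absurd h1 (hcon v hv)

theorem exists_notMem (F : SpFam f H O X) {S : Submodule (ZMod 2) U} {n : ℕ} (hS : finrank (ZMod 2) S ≤ n)
    (T : Submodule (ZMod 2) U) (hT : n < finrank (ZMod 2) T) : ∃ v ∈ T, v ∉ S := by
  have := F.alt.finDim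
  by_contra hcon
  push Not at hcon
  have h1 := Submodule.finrank_mono (show T ≤ S from fun v hv => hcon v hv)
  omega

/-- the span of two vectors -/
abbrev sp2 (u v : U) : Submodule (ZMod 2) U := Submodule.span (ZMod 2) ({u, v} : Set U)

theorem mem_sp2 {u v w : U} : w ∈ sp2 u v ↔ ∃ r s : ZMod 2, r • u + s • v = w :=
  Submodule.mem_span_pair

theorem finrank_sp2 (u v : U) : finrank (ZMod 2) (sp2 u v) ≤ 2 := by
  classical
  have h1 := finrank_span_finset_le_card (R := ZMod 2) ({u, v} : Finset U)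
  have h2 : ((({u, v} : Finset U) : Set U)) = {u, v} := by simp
  rw [h2] at h1
  exact h1.trans Finset.card_le_two

theorem finrank_sp2_orth (F : SpFam f H O X) (u v : U) :
    4 ≤ finrank (ZMod 2) (f.orthogonal (sp2 u v)) := by
  have h1 := F.alt.finrank_orth (sp2 u v)
  have h2 := finrank_sp2 u v
  have h3 := F.dim
  omega

theorem mem_sp2_orth (F : SpFam f H O X) {u v w : U} :
    w ∈ f.orthogonal (sp2 u v) ↔ f u w = 0 ∧ f v w = 0 := by
  rw [mem_orth]
  constructor
  · intro h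
    exact ⟨h u (Submodule.subset_span (by simp)), h v (Submodule.subset_span (by simp))⟩
  · rintro ⟨h1, h2⟩ s hs
    obtain ⟨r, t, rfl⟩ := mem_sp2.1 hs
    rw [ladd', map_smul, map_smul, LinearMap.smul_apply, LinearMap.smul_apply, h1, h2]; simp

/-! ### the second case -/

/-- all nonzero vectors are in `O` if `e, e + p ∈ O` -/
theorem all_of (F : SpFam f H O X) {p e : U} (hp : p ∈ O) (he : f p e = 1) (h1 : e ∈ O)
    (h2 : e + p ∈ O) {v : U} (hv : v ≠ 0) : v ∈ O := by
  -- off `p^⊥`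
  have key : ∀ v, f p v = 1 → v ∈ O := by
    intro v hv
    have hs : f p (v + e) = 0 := by rw [map_add, hv, he]; decide
    obtain ⟨x, hx, e1⟩ := F.orbit hp he hs
    have hxH := F.X_le p hp hx
    rcases zm (f (v + e) e + cc f X p (v + e)) with h3 | h3
    · have e2 : x e = v := by rw [e1, h3, zero_smul]; v2
      rw [← e2]; exact F.stable x hxH e h1
    · have e2 : x (e + p) = v := by rw [map_add, e1, h3, F.X_fix p hp x hx, one_smul]; v2
      rw [← e2]; exact F.stable x hxH _ h2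
  -- all points
  have key2 : ∀ q ∈ O, ∀ v, f q v = 1 → v ∈ O := by
    intro q hq v hv
    obtain ⟨h, hh, rfl⟩ := F.trans p hp q hq
    have h3 : f p (h⁻¹ v) = 1 := by rw [← F.f_H h hh, inv_app]; exact hv
    have h4 := F.stable h hh _ (key _ h3)
    rwa [inv_app] at h4
  by_contra hcon
  apply hv
  apply F.span
  intro q hq
  rcases zm (f q v) with h3 | h3
  · exact h3
  · exact absurd (key2 q hq v h3) hcon

/-- if `O` consists of all nonzero vectors then a transvection is not in `H` -/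
theorem no_tv (F : SpFam f H O X) (hO : ∀ v, v ≠ 0 → v ∈ O) {p : U} {h : U ≃ₗ[ZMod 2] U} (hp : p ≠ 0)
    (hh : h ∈ H) (he : ∀ w, h w = w + f p w • p) : False := by
  -- all transvections
  have key : ∀ v, v ≠ 0 → ∃ h ∈ H, ∀ w, h w = w + f v w • v := by
    intro v hv
    obtain ⟨g, hg, rfl⟩ := F.trans p (hO p hp) v (hO v hv)
    refine ⟨g * h * g⁻¹, H.mul_mem (H.mul_mem hg hh) (H.inv_mem hg), fun w => ?_⟩
    rw [mul_app, mul_app, he, map_add, map_smul, inv_app, ← F.f_H g hg p, inv_app]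
  -- `cc p v = 1` for `v ∈ p^⊥`, `v ∉ ⟨p⟩`
  have hpO := hO p hp
  have key2 : ∀ v, f p v = 0 → v ≠ 0 → v ≠ p → cc f X p v = 1 := by
    intro v hv h0 h1
    have hmem : v ∉ Submodule.span (ZMod 2) ({p} : Set U) := by
      rw [mem_span_one]
      rintro (h2 | h2)
      · exact h0 h2
      · exact h1 h2
    obtain ⟨y, hy, hvy⟩ := F.exists_off hmem
    have hpy : f p y = 0 := hy p (Submodule.mem_span_singleton_self p)
    obtain ⟨g, hg, hge⟩ := key v h0
    have hgp : g p = p := by rw [hge, F.comm, hv, zero_smul, add_zero]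
    have h2 := F.cc_map hg hpO hpy
    rw [hgp, hge, hvy, one_smul, F.cc_add hpO hpy hv, F.comm y v, hvy] at h2
    revert h2
    generalize cc f X p y = s, cc f X p v = t
    revert s t; decide
  -- `v, w ∈ p^⊥` independent, perpendicular
  obtain ⟨v, hv, hvn⟩ := F.exists_notMem (finrank_sp2 p p) (f.orthogonal (sp2 p p))
    (lt_of_lt_of_le (by norm_num) (F.finrank_sp2_orth p p))
  obtain ⟨w, hw, hwn⟩ := F.exists_notMem (finrank_sp2 p v) (f.orthogonal (sp2 p v))
    (lt_of_lt_of_le (by norm_num) (F.finrank_sp2_orth p v))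
  rw [F.mem_sp2_orth] at hv hw
  have nv0 : v ≠ 0 := fun h => hvn (by rw [h]; exact Submodule.zero_mem _)
  have nvp : v ≠ p := fun h => hvn (by rw [h]; exact Submodule.subset_span (by simp))
  have nw0 : w ≠ 0 := fun h => hwn (by rw [h]; exact Submodule.zero_mem _)
  have nwp : w ≠ p := fun h => hwn (by rw [h]; exact Submodule.subset_span (by simp))
  have nwv : v + w ≠ 0 := fun h => hwn (by
    rw [← eq_of_add h]; exact Submodule.subset_span (by simp))
  have nwvp : v + w ≠ p := fun h => hwn (by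
    have e : w = p + v := by rw [← h]; v2
    rw [e]
    exact Submodule.add_mem _ (Submodule.subset_span (by simp)) (Submodule.subset_span (by simp)))
  have h1 := F.cc_add hpO hv.1 hw.1
  rw [key2 v hv.1 nv0 nvp, key2 w hw.1 nw0 nwp, hw.2,
    key2 (v + w) (by rw [map_add, hv.1, hw.1, add_zero]) nwv nwvp] at h1
  exact absurd h1 (by decide)

/-- (2a) the symmetry -/
theorem cc_symm (F : SpFam f H O X) (hO : ∀ v, v ≠ 0 → v ∈ O) {u v : U} (hu : u ≠ 0) (hv : v ≠ 0)
    (huv : f u v = 0) : cc f X u v = cc f X v u := by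
  have hvu : f v u = 0 := by rw [F.comm]; exact huv
  obtain ⟨x, hx, h1⟩ := F.exists_tx (hO u hu) huv
  obtain ⟨x', hx', h2⟩ := F.exists_tx (hO v hv) hvu
  have hH : x * x' ∈ H := H.mul_mem (F.X_le u (hO u hu) hx) (F.X_le v (hO v hv) hx')
  have key : ∀ w, (x * x') w = w + (cc f X v u * f v w) • v + (cc f X u v * f u w) • u := by
    intro w
    rw [mul_app, h2]
    have e1 : f v (tx f v u (cc f X v u) w) = f v w := by
      rw [tx, map_add, map_add, map_smul, map_smul, map_add, map_smul, F.self, hvu]; simp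
    have e2 : f u (tx f v u (cc f X v u) w) = f u w := by
      rw [tx, map_add, map_add, map_smul, map_smul, map_add, map_smul, F.self, huv]; simp
    rw [h1, tx, e1, e2, tx]
    rcases zm (f v w) with h3 | h3 <;> rcases zm (f u w) with h4 | h4 <;> rw [h3, h4] <;>
      simp only [zero_smul, one_smul, mul_zero, mul_one, add_zero] <;> v2
  rcases zm (cc f X u v) with h3 | h3 <;> rcases zm (cc f X v u) with h4 | h4 <;> rw [h3, h4]
  · exfalso
    refine F.no_tv hO hv hH fun w => ?_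
    rw [key, h3, h4, zero_mul, zero_smul, add_zero, one_mul]
  · exfalso
    refine F.no_tv hO hu hH fun w => ?_
    rw [key, h3, h4, zero_mul, zero_smul, add_zero, one_mul]

/-- the second case is impossible -/
theorem case_two (F : SpFam f H O X) (hO : ∀ v, v ≠ 0 → v ∈ O) : False := by
  obtain ⟨u, hu⟩ := F.ne
  have hu0 := F.zero u hu
  obtain ⟨v, hv, hvn⟩ := F.exists_notMem (finrank_sp2 u u) (f.orthogonal (sp2 u u))
    (lt_of_lt_of_le (by norm_num) (F.finrank_sp2_orth u u))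
  obtain ⟨s, hs, hsn⟩ := F.exists_notMem (finrank_sp2 u v) (f.orthogonal (sp2 u v))
    (lt_of_lt_of_le (by norm_num) (F.finrank_sp2_orth u v))
  obtain ⟨t, ht, hst⟩ := F.exists_off hsn
  rw [F.mem_sp2_orth] at hv hs
  have htu : f u t = 0 := ht u (Submodule.subset_span (by simp))
  have htv : f v t = 0 := ht v (Submodule.subset_span (by simp))
  have nv0 : v ≠ 0 := fun h => hvn (by rw [h]; exact Submodule.zero_mem _)
  have nvu : v ≠ u := fun h => hvn (by rw [h]; exact Submodule.subset_span (by simp))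
  have nuv : u + v ≠ 0 := fun h => nvu (eq_of_add h).symm
  have huv : f u v = 0 := hv.1
  have key : ∀ r, f u r = 0 → f v r = 0 → r ≠ 0 →
      cc f X u r + cc f X v r + cc f X (u + v) r = 0 := by
    intro r h1 h2 h3
    have hru : f r u = 0 := by rw [F.comm]; exact h1
    have hrv : f r v = 0 := by rw [F.comm]; exact h2
    rw [F.cc_symm hO hu0 h3 h1, F.cc_symm hO nv0 h3 h2,
      F.cc_symm hO nuv h3 (by rw [ladd', h1, h2, add_zero]), F.cc_add (hO r h3) hru hrv, huv]
    generalize cc f X r u = α, cc f X r v = β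
    revert α β; decide
  have hs0 : s ≠ 0 := fun h => hsn (by rw [h]; exact Submodule.zero_mem _)
  have ht0 : t ≠ 0 := by
    rintro rfl
    rw [map_zero] at hst
    exact zero_ne_one hst
  have hst0 : s + t ≠ 0 := by
    intro h
    rw [eq_of_add h, F.self] at hst
    exact zero_ne_one hst
  have k1 := key s hs.1 hs.2 hs0
  have k2 := key t htu htv ht0
  have k3 := key (s + t) (by rw [map_add, hs.1, htu, add_zero]) (by rw [map_add, hs.2, htv, add_zero]) hst0
  rw [F.cc_add (hO u hu0) hs.1 htu, F.cc_add (hO v nv0) hs.2 htv,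
    F.cc_add (hO _ nuv) (by rw [ladd', hs.1, hs.2, add_zero]) (by rw [ladd', htu, htv, add_zero]), hst] at k3
  revert k1 k2 k3
  generalize cc f X u s = c1, cc f X v s = c2, cc f X (u + v) s = c3, cc f X u t = c4, cc f X v t = c5,
    cc f X (u + v) t = c6
  revert c1 c2 c3 c4 c5 c6; decide

/-! ### the first case -/

/-- the quadratic form of a pair -/
noncomputable def qf (f : LinearMap.BilinForm (ZMod 2) U) (X : U → Subgroup (U ≃ₗ[ZMod 2] U)) (a e w : U) :
    ZMod 2 := f a w * f e w + cc f X a (w + f a w • e)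

theorem not_both (F : SpFam f H O X) {p e : U} (hp : p ∈ O) (he : f p e = 1) (h1 : e ∈ O) :
    e + p ∉ O := fun h2 => F.case_two fun _ hv => F.all_of hp he h1 h2 hv

theorem qf_add (F : SpFam f H O X) {a e : U} (ha : a ∈ O) (hae : f a e = 1) (v w : U) :
    qf f X a e (v + w) = qf f X a e v + qf f X a e w + f v w := by
  have hea : f e a = 1 := by rw [F.comm]; exact hae
  have h1 : ∀ v, f a (v + f a v • e) = 0 := by
    intro v
    rw [map_add, map_smul, hae, smul_eq_mul, mul_one, zadd]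
  have e1 : v + w + f a (v + w) • e = (v + f a v • e) + (w + f a w • e) := by
    rw [map_add, add_smul]; abel
  rw [qf, qf, qf, e1, F.cc_add ha (h1 v) (h1 w)]
  simp only [map_add, map_smul, LinearMap.add_apply, LinearMap.smul_apply, smul_eq_mul]
  rw [F.self e, F.comm v e]
  generalize cc f X a (v + f a v • e) = s, cc f X a (w + f a w • e) = t
  generalize f a v = α, f a w = β, f e v = γ, f e w = δ, f v w = ε
  revert α β γ δ ε s t; decide

theorem qf_a (F : SpFam f H O X) {a e : U} (ha : a ∈ O) : qf f X a e a = 0 := by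
  rw [qf, F.self, zero_mul, zero_smul, add_zero, F.cc_self ha, zero_add]

theorem qf_e (F : SpFam f H O X) {a e : U} (ha : a ∈ O) (hae : f a e = 1) : qf f X a e e = 0 := by
  rw [qf, F.self, mul_zero, hae, one_smul, add_self, F.cc_zero ha, zero_add]

theorem qf_perp {a e w : U} (h : f a w = 0) : qf f X a e w = cc f X a w := by
  rw [qf, h, zero_mul, zero_smul, add_zero, zero_add]

/-- off `a^⊥` the points are the singular vectors -/
theorem mem_off (F : SpFam f H O X) {a e w : U} (ha : a ∈ O) (he : e ∈ O) (hae : f a e = 1)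
    (hw : f a w = 1) : w ∈ O ↔ qf f X a e w = 0 := by
  have hs : f a (w + e) = 0 := by rw [map_add, hw, hae]; decide
  obtain ⟨x, hx, h1⟩ := F.orbit ha hae hs
  have hxH := F.X_le a ha hx
  have e1 : qf f X a e w = f (w + e) e + cc f X a (w + e) := by
    rw [qf, hw, one_mul, one_smul, ladd', F.self, add_zero, F.comm]
  have hxe := F.stable x hxH e he
  rw [e1]
  rcases zm (f (w + e) e + cc f X a (w + e)) with h2 | h2 <;> rw [h2] <;> rw [h2] at h1
  · have e2 : x e = w := by rw [h1, zero_smul]; v2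
    rw [e2] at hxe
    exact ⟨fun _ => rfl, fun _ => hxe⟩
  · have e2 : x e = w + a := by rw [h1, one_smul]; v2
    rw [e2] at hxe
    constructor
    · intro h3
      exfalso
      exact F.not_both ha hw h3 hxe
    · intro h3
      exact absurd h3 (by decide)

theorem cc_add_self (F : SpFam f H O X) (hp : p ∈ O) (hy : f p y = 0) :
    cc f X p (y + p) = cc f X p y := by
  rw [F.cc_add hp hy (F.self p), F.cc_self hp, F.comm, hy, add_zero, add_zero]

/-- the two forms agree -/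
theorem cc_pair (F : SpFam f H O X) {a e y : U} (ha : a ∈ O) (he : e ∈ O) (hae : f a e = 1)
    (h1 : f a y = 0) (h2 : f e y = 0) : cc f X a y = cc f X e y := by
  have hea : f e a = 1 := by rw [F.comm]; exact hae
  have k1 := F.mem_off (w := a + e + y) ha he hae (by rw [map_add, map_add, F.self, hae, h1]; decide)
  have k2 := F.mem_off (w := a + e + y) he ha hea (by rw [map_add, map_add, F.self, hea, h2]; decide)
  have c1 : qf f X a e (a + e + y) = 1 + cc f X a y := by
    rw [F.qf_add ha hae, F.qf_add ha hae, F.qf_a ha, F.qf_e ha hae, hae, qf_perp h1, ladd', h1, h2]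
    generalize cc f X a y = s
    revert s; decide
  have c2 : qf f X e a (a + e + y) = 1 + cc f X e y := by
    rw [F.qf_add he hea, F.qf_add he hea, F.qf_a he, F.qf_e he hea, hae, qf_perp h2, ladd', h1, h2]
    generalize cc f X e y = s
    revert s; decide
  rw [c1] at k1
  rw [c2] at k2
  have k3 := k1.symm.trans k2
  revert k3
  generalize cc f X a y = s, cc f X e y = t
  revert s t; decide

theorem qf_symm (F : SpFam f H O X) {a e : U} (ha : a ∈ O) (he : e ∈ O) (hae : f a e = 1) (w : U) :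
    qf f X a e w = qf f X e a w := by
  have hea : f e a = 1 := by rw [F.comm]; exact hae
  have h1 : f a (w + f a w • e + f e w • a) = 0 := by
    rw [map_add, map_add, map_smul, map_smul, hae, F.self]; simp [zadd]
  have h2 : f e (w + f a w • e + f e w • a) = 0 := by
    rw [map_add, map_add, map_smul, map_smul, hea, F.self]; simp [zadd]
  have h3 := F.cc_pair ha he hae h1 h2
  have h4 : cc f X a (w + f a w • e + f e w • a) = cc f X a (w + f a w • e) := by
    rcases zm (f e w) with h5 | h5 <;> rw [h5]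
    · rw [zero_smul, add_zero]
    · rw [one_smul]
      apply F.cc_add_self ha
      rw [map_add, map_smul, hae, smul_eq_mul, mul_one, zadd]
  have h5 : cc f X e (w + f a w • e + f e w • a) = cc f X e (w + f e w • a) := by
    rcases zm (f a w) with h6 | h6 <;> rw [h6]
    · rw [zero_smul, add_zero]
    · rw [one_smul]
      have e1 : w + e + f e w • a = (w + f e w • a) + e := by abel
      rw [e1]
      apply F.cc_add_self he
      rw [map_add, map_smul, hea, smul_eq_mul, mul_one, zadd]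
  rw [qf, qf, ← h4, ← h5, h3, mul_comm]

/-- the points are the nonzero singular vectors -/
theorem mem_iff (F : SpFam f H O X) {a e : U} (ha : a ∈ O) (he : e ∈ O) (hae : f a e = 1) {w : U}
    (hw : w ≠ 0) : w ∈ O ↔ qf f X a e w = 0 := by
  have hea : f e a = 1 := by rw [F.comm]; exact hae
  rcases zm (f a w) with h1 | h1
  · rcases zm (f e w) with h2 | h2
    · have hmem : w ∉ Submodule.span (ZMod 2) ({a} : Set U) := by
        rw [mem_span_one]
        rintro (h3 | h3)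
        · exact hw h3
        · rw [h3, hea] at h2; exact one_ne_zero h2
      obtain ⟨y, hy, hwy⟩ := F.exists_off hmem
      have hay : f a y = 0 := hy a (Submodule.mem_span_singleton_self a)
      obtain ⟨x, hx, hx'⟩ := F.X_surj a ha y hay
      have hxH := F.X_le a ha hx
      have e1 : x w = w + a := by rw [hx' w h1, F.comm y w, hwy, one_smul]
      have h3 : w ∈ O ↔ w + a ∈ O := by
        constructor
        · intro h4
          rw [← e1]; exact F.stable x hxH w h4
        · intro h4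
          have h5 := F.stable x⁻¹ (H.inv_mem hxH) _ h4
          rwa [← e1, app_inv] at h5
      rw [h3, F.qf_symm ha he hae, F.mem_off he ha hea (by rw [map_add, h2, hea, zero_add]),
        F.qf_add he hea, F.qf_e he hea, F.comm w a, h1, add_zero, add_zero]
    · rw [F.qf_symm ha he hae]; exact F.mem_off he ha hea h2
  · exact F.mem_off ha he hae h1

/-- **the invariant quadratic form** -/
theorem main (F : SpFam f H O X) :
    ∃ q : U → ZMod 2, (∀ v w, q (v + w) = q v + q w + f v w) ∧ (∀ h ∈ H, ∀ v, q (h v) = q v) ∧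
      (∀ v, v ∈ O ↔ v ≠ 0 ∧ q v = 0) ∧
      (∀ p ∈ O, ∀ y, f p y = 0 → ∃ x ∈ X p, ∀ u, x u = sg q f p y u) ∧
      ∀ p ∈ O, ∀ x ∈ X p, ∃ y, f p y = 0 ∧ ∀ u, x u = sg q f p y u := by
  obtain ⟨a, ha⟩ := F.ne
  obtain ⟨e, he, hea⟩ : ∃ e ∈ O, f e a = 1 := by
    by_contra hcon
    push Not at hcon
    apply F.zero a ha
    apply F.span
    intro c hc
    rcases zm (f c a) with h1 | h1
    · exact h1
    · exact absurd h1 (hcon c hc)
  have hae : f a e = 1 := by rw [F.comm]; exact hea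
  have hadd := F.qf_add ha hae
  have h0 : qf f X a e 0 = 0 := by
    rw [qf, map_zero, zero_mul, zero_smul, add_zero, F.cc_zero ha, zero_add]
  have hO : ∀ v, v ∈ O ↔ v ≠ 0 ∧ qf f X a e v = 0 := by
    intro v
    constructor
    · intro hv
      exact ⟨F.zero v hv, (F.mem_iff ha he hae (F.zero v hv)).1 hv⟩
    · rintro ⟨h1, h2⟩
      exact (F.mem_iff ha he hae h1).2 h2
  -- invariance
  have hinv : ∀ h ∈ H, ∀ v, qf f X a e (h v) = qf f X a e v := by
    intro h hh
    let φ : U →ₗ[ZMod 2] ZMod 2 := AddMonoidHom.toZModLinearMap 2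
      { toFun := fun v => qf f X a e (h v) + qf f X a e v
        map_zero' := by rw [map_zero, h0, add_zero]
        map_add' := by
          intro v w
          rw [map_add, hadd, hadd, F.f_H h hh]
          generalize qf f X a e (h v) = s, qf f X a e (h w) = t, qf f X a e v = r, qf f X a e w = k,
            f v w = l
          revert s t r k l; decide }
    obtain ⟨m, hm⟩ := exists_rep F.alt φ
    have hm0 : m = 0 := by
      apply F.span
      intro p hp
      rw [F.comm, ← hm]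
      show qf f X a e (h p) + qf f X a e p = 0
      rw [((hO p).1 hp).2, ((hO (h p)).1 (F.stable h hh p hp)).2, add_zero]
    intro v
    have h1 : qf f X a e (h v) + qf f X a e v = 0 := by
      have := hm v
      rw [hm0, map_zero, LinearMap.zero_apply] at this
      exact this
    exact CharTwo.add_eq_zero.1 h1
  -- Siegel elements
  have hcc : ∀ p ∈ O, ∀ y, f p y = 0 → cc f X p y = qf f X a e y := by
    intro p hp y hy
    obtain ⟨x, hx, h1⟩ := F.exists_tx hp hy
    obtain ⟨w, hw⟩ := F.alt.exists_ne (F.zero p hp)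
    have h2 := hinv x (F.X_le p hp hx) w
    rw [h1, tx, hw, one_smul, hadd, hadd, hadd] at h2
    have hq : ∀ t : ZMod 2, qf f X a e (t • p) = 0 := by
      intro t
      rcases zm t with rfl | rfl
      · rw [zero_smul]; exact h0
      · rw [one_smul]; exact ((hO p).1 hp).2
    have hwp : f w p = 1 := by rw [F.comm]; exact hw
    have hyp : f y p = 0 := by rw [F.comm]; exact hy
    rw [hq, hq] at h2
    simp only [map_add, map_smul, LinearMap.add_apply, LinearMap.smul_apply, smul_eq_mul, hwp, hyp, hy,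
      F.self p, F.comm w y] at h2
    revert h2
    generalize qf f X a e w = s, f y w = t, qf f X a e y = r, cc f X p y = k
    revert s t r k; decide
  have hsg : ∀ p ∈ O, ∀ y, f p y = 0 → ∀ u, tx f p y (cc f X p y) u = sg (qf f X a e) f p y u := by
    intro p hp y hy u
    rw [hcc p hp y hy, tx, sg, smul_add, smul_smul, mul_comm (f p u)]; abel
  refine ⟨qf f X a e, hadd, hinv, hO, fun p hp y hy => ?_, fun p hp x hx => ?_⟩
  · obtain ⟨x, hx, h1⟩ := F.exists_tx hp hy
    exact ⟨x, hx, fun u => by rw [h1, hsg p hp y hy]⟩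
  · -- the functional of `x`
    obtain ⟨w, hw⟩ := F.alt.exists_ne (F.zero p hp)
    have hxH := F.X_le p hp hx
    have hpy : f p (x w + w) = 0 := by
      have h1 := F.f_H x hxH p w
      rw [F.X_fix p hp x hx] at h1
      rw [map_add, h1, zadd]
    refine ⟨x w + w, hpy, ?_⟩
    have h1 : ∀ u, f p u = 0 → x u = u + f (x w + w) u • p := by
      intro u hu
      have h2 := F.f_H x hxH w u
      have h3 : f (x w) p = 1 := by
        have h4 := F.f_H x hxH p w
        rw [F.X_fix p hp x hx] at h4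
        rw [F.comm, h4, hw]
      rw [ladd', ← h2]
      rcases F.X_perp p hp x hx u hu with h4 | h4 <;> rw [h4]
      · rw [zadd, zero_smul, add_zero]
      · rw [map_add, h3]
        have : f (x w) u + (f (x w) u + 1) = 1 := by
          generalize f (x w) u = s
          revert s; decide
        rw [this, one_smul]
    obtain ⟨γ, h2⟩ := F.eq_tx hp hx hpy h1
    intro u
    rw [h2, ← hsg p hp _ hpy, F.cc_eq hp hpy hx h2]

end SpFam

end Cfsg.Agent.Omega.EH3.RowS

end
end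

private theorem dce_2c50fa719b96 : _root_.True := by
  try have : _root_.True := by simp only [_root_.Cfsg.Agent.Omega.EH3.RowS.tx.eq_1]
  try have : _root_.True := by simp only [_root_.Cfsg.Agent.Omega.EH3.RowS.SpFam.qf.eq_1]
  try have : _root_.True := by simp only [_root_.Cfsg.Agent.Omega.EH3.TCL.TFam.Four.eq_1]
  try have : _root_.True := by simp only [_root_.Cfsg.Agent.Omega.EH3.TCL.tri.eq_1]
  try have : _root_.True := by simp only [_root_.Cfsg.Agent.Omega.EH3.RowS.cc.eq_1]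
  try have : _root_.True := by simp only [_root_.Cfsg.Agent.Omega.EH3.TCL.xfam.eq_1]
  exact _root_.True.intro
end

-- part: Omega/EH3/Irr/EndU
section
set_option linter.all false
open scoped Cfsg.Agent.FastGrp

/-!
# THEOREM IRR of EH3: `End_L(U)` is `F_2` or `F_4` (helper616, for helper807)
-/

set_option autoImplicit false

namespace Cfsg.Agent.Omega.EH3.Irr

variable {H V : Type*} [Group H] [AddCommGroup V] [Module (ZMod 2) V]
  {ρ : H →* (V ≃ₗ[ZMod 2] V)} {b : LinearMap.BilinForm (ZMod 2) V} {q : V → ZMod 2}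
  {a : V} {D : Submodule (ZMod 2) V} {X : Subgroup H} {w : ℕ} {L : Subgroup H} {U : Submodule (ZMod 2) V}

namespace EndU

/-- the endomorphisms of `U` commuting with `L` -/
def A (ρ : H →* (V ≃ₗ[ZMod 2] V)) (L : Subgroup H) (U : Submodule (ZMod 2) V) (hU : Inv ρ L U) :
    Subring (Module.End (ZMod 2) U) where
  carrier := {f | ∀ l, ∀ hl : l ∈ L, ∀ u : U, (f ⟨ρ l u, hU l hl u u.2⟩ : V) = ρ l (f u)}
  mul_mem' := fun {f g} hf hg l hl u => by
    show (f (g ⟨ρ l u, hU l hl u u.2⟩) : V) = ρ l (f (g u))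
    rw [← hf l hl (g u)]
    exact congrArg (fun x : U => (f x : V)) (Subtype.ext (hg l hl u))
  one_mem' := fun l _ u => rfl
  add_mem' := fun {f g} hf hg l hl u => by
    show (f ⟨ρ l u, hU l hl u u.2⟩ : V) + g ⟨ρ l u, hU l hl u u.2⟩ = ρ l (f u + g u)
    rw [hf l hl, hg l hl, map_add]
  zero_mem' := fun l _ u => by
    show (0 : V) = ρ l 0
    rw [map_zero]
  neg_mem' := fun {f} hf l hl u => by
    show -(f ⟨ρ l u, hU l hl u u.2⟩ : V) = ρ l (-(f u))
    rw [hf l hl, map_neg]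

theorem A_ext {hU : Inv ρ L U} {x y : A ρ L U hU}
    (h : ∀ u : U, ((x : Module.End (ZMod 2) U) u : V) = (y : Module.End (ZMod 2) U) u) : x = y :=
  Subtype.ext (LinearMap.ext fun u => Subtype.ext (h u))

/-- the restriction of an `L`-map -/
def res (hU : Inv ρ L U) {f : V →ₗ[ZMod 2] V} (hf : LMap ρ L U f) (hf' : ∀ u ∈ U, f u ∈ U) :
    A ρ L U hU :=
  ⟨f.restrict hf', fun l hl u => hf l hl u u.2⟩

/-- every element is the restriction of an `L`-map -/
theorem exists_ext (hU : Inv ρ L U) (x : A ρ L U hU) : ∃ f : V →ₗ[ZMod 2] V, LMap ρ L U f ∧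
    (∀ u ∈ U, f u ∈ U) ∧ ∀ u : U, f u = (x : Module.End (ZMod 2) U) u := by
  obtain ⟨f, hf⟩ := LinearMap.exists_extend (U.subtype ∘ₗ (x : Module.End (ZMod 2) U))
  have hfu : ∀ u : U, f u = (x : Module.End (ZMod 2) U) u := fun u => LinearMap.congr_fun hf u
  refine ⟨f, ?_, ?_, hfu⟩
  · intro l hl u hu
    have h1 := hfu ⟨ρ l u, hU l hl u hu⟩
    have h2 := hfu ⟨u, hu⟩
    have h3 := x.2 l hl ⟨u, hu⟩
    show f (ρ l u) = ρ l (f u)
    rw [show f (ρ l u) = _ from h1, show f u = _ from h2]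
    exact h3
  · intro u hu
    have h2 := hfu ⟨u, hu⟩
    rw [show f u = _ from h2]
    exact Subtype.coe_prop _

theorem add_self (S : Base ρ b q a D X w L U) (x : A ρ L U S.simple.inv) : x + x = 0 := by
  apply A_ext
  intro u
  exact S.cfg.add_self _

theorem injective (S : Base ρ b q a D X w L U) {x : A ρ L U S.simple.inv} (h0 : x ≠ 0) {u : U}
    (hu : (x : Module.End (ZMod 2) U) u = 0) : u = 0 := by
  by_contra h
  apply h0
  obtain ⟨f, hf, _, hfu⟩ := exists_ext S.simple.inv x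
  have h1 := S.simple.zero_of_zero hf u.2 (fun h2 => h (Subtype.ext h2)) (by rw [hfu, hu]; rfl)
  apply A_ext
  intro v
  rw [← hfu]
  exact h1 v v.2

/-- `a` as an element of `U` -/
def ua (S : Base ρ b q a D X w L U) : U := ⟨a, S.a_mem⟩

theorem ua_ne (S : Base ρ b q a D X w L U) : ua S ≠ 0 := fun h => S.cfg.a_ne (congrArg Subtype.val h)

theorem isDomain (S : Base ρ b q a D X w L U) : IsDomain (A ρ L U S.simple.inv) := by
  have : Nontrivial (A ρ L U S.simple.inv) := ⟨⟨0, 1, fun h => by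
    have h1 : (0 : Module.End (ZMod 2) U) (ua S) = (1 : Module.End (ZMod 2) U) (ua S) :=
      congrArg (fun x : A ρ L U S.simple.inv => (x : Module.End (ZMod 2) U) (ua S)) h
    exact ua_ne S h1.symm⟩⟩
  have : NoZeroDivisors (A ρ L U S.simple.inv) := ⟨fun {x y} h => by
    by_contra hcon
    push Not at hcon
    obtain ⟨hx, hy⟩ := hcon
    apply ua_ne S
    have h1 : (x : Module.End (ZMod 2) U) ((y : Module.End (ZMod 2) U) (ua S)) = 0 :=
      congrArg (fun x : A ρ L U S.simple.inv => (x : Module.End (ZMod 2) U) (ua S)) h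
    exact injective S hy (injective S hx h1)⟩
  exact NoZeroDivisors.to_isDomain _

theorem finite_A (S : Base ρ b q a D X w L U) : Finite (A ρ L U S.simple.inv) := by
  have := S.cfg.finite_V
  have : Finite (U →ₗ[ZMod 2] U) := Finite.of_injective (fun g => (g : U → U)) DFunLike.coe_injective
  exact Subtype.finite

/-- the restriction of `x ∈ X` -/
def rx (S : Base ρ b q a D X w L U) (x : X) : U →ₗ[ZMod 2] U :=
  (ρ (x : H) : V →ₗ[ZMod 2] V).restrict (S.X_inv x x.2)

theorem rx_rx (S : Base ρ b q a D X w L U) (x : X) (u : U) : rx S x (rx S x u) = u :=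
  Subtype.ext (S.xx x.2 u)

theorem rx_a (S : Base ρ b q a D X w L U) (x : X) : rx S x (ua S) = ua S :=
  Subtype.ext (S.cfg.X_a x.2)

theorem conj_mem (S : Base ρ b q a D X w L U) (x : X) {f : Module.End (ZMod 2) U}
    (hf : f ∈ A ρ L U S.simple.inv) :
    ((rx S x) ∘ₗ f ∘ₗ (rx S x) : Module.End (ZMod 2) U) ∈ A ρ L U S.simple.inv := by
  intro l hl u
  show ρ (x : H) (f (rx S x ⟨ρ l u, S.simple.inv l hl u u.2⟩)) = ρ l (ρ (x : H) (f (rx S x u)))
  have h1 : (x : H) * l * x ∈ L := by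
    have := S.nor.conj_mem l hl x
    rwa [S.cfg.X_inv x.2] at this
  have h2 : rx S x ⟨ρ l u, S.simple.inv l hl u u.2⟩ =
      ⟨ρ ((x : H) * l * x) (rx S x u), S.simple.inv _ h1 _ (rx S x u).2⟩ := by
    apply Subtype.ext
    show ρ (x : H) (ρ l u) = ρ ((x : H) * l * x) (ρ (x : H) u)
    rw [← S.cfg.ρ_mul, ← S.cfg.ρ_mul, mul_assoc, S.cfg.X_sq x x.2, mul_one]
  rw [h2, hf _ h1, ← S.cfg.ρ_mul, ← S.cfg.ρ_mul]
  congr 2
  rw [← mul_assoc, ← mul_assoc, S.cfg.X_sq x x.2, one_mul]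

/-- conjugation by `x` on the commutant -/
def sg (S : Base ρ b q a D X w L U) (x : X) : A ρ L U S.simple.inv ≃+* A ρ L U S.simple.inv where
  toFun f := ⟨_, conj_mem S x f.2⟩
  invFun f := ⟨_, conj_mem S x f.2⟩
  left_inv f := by
    apply Subtype.ext
    apply LinearMap.ext
    intro v
    show rx S x (rx S x ((f : Module.End (ZMod 2) U) (rx S x (rx S x v)))) = _
    rw [rx_rx, rx_rx]
  right_inv f := by
    apply Subtype.ext
    apply LinearMap.ext
    intro v
    show rx S x (rx S x ((f : Module.End (ZMod 2) U) (rx S x (rx S x v)))) = _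
    rw [rx_rx, rx_rx]
  map_mul' f g := by
    apply Subtype.ext
    apply LinearMap.ext
    intro v
    show rx S x ((f : Module.End (ZMod 2) U) ((g : Module.End (ZMod 2) U) (rx S x v))) =
      rx S x ((f : Module.End (ZMod 2) U) (rx S x (rx S x ((g : Module.End (ZMod 2) U) (rx S x v)))))
    rw [rx_rx]
  map_add' f g := by
    apply Subtype.ext
    apply LinearMap.ext
    intro v
    show rx S x ((f : Module.End (ZMod 2) U) (rx S x v) + (g : Module.End (ZMod 2) U) (rx S x v)) = _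
    rw [map_add]
    rfl

theorem sg_apply (S : Base ρ b q a D X w L U) (x : X) (f : A ρ L U S.simple.inv) (v : U) :
    (sg S x f : Module.End (ZMod 2) U) v = rx S x ((f : Module.End (ZMod 2) U) (rx S x v)) := rfl

theorem sg_sg (S : Base ρ b q a D X w L U) (x : X) (f : A ρ L U S.simple.inv) :
    sg S x (sg S x f) = f := (sg S x).left_inv f

/-- the elements commuting with `X` are `0` and `1` -/
theorem fix_eq (S : Base ρ b q a D X w L U) {f : A ρ L U S.simple.inv}
    (h : ∀ x : X, sg S x f = f) : f = 0 ∨ f = 1 := by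
  obtain ⟨g, hg, _, hgu⟩ := exists_ext S.simple.inv f
  have h1 : ∀ x ∈ X, ρ x (g a) = g a := by
    intro x hx
    have h2 : ((sg S ⟨x, hx⟩ f : Module.End (ZMod 2) U) (ua S) : V) =
        (f : Module.End (ZMod 2) U) (ua S) := by
      rw [h ⟨x, hx⟩]
    rw [sg_apply, rx_a] at h2
    rw [show g a = _ from hgu (ua S)]
    exact h2
  rcases S.zero_or_id hg h1 with h2 | h2
  · left
    apply A_ext
    intro u
    rw [← hgu]
    exact h2 u u.2
  · right
    apply A_ext
    intro u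
    rw [← hgu]
    exact h2 u u.2

theorem card_le (S : Base ρ b q a D X w L U) : Nat.card (A ρ L U S.simple.inv) ≤ 4 := by
  classical
  have := finite_A S
  have := isDomain S
  have : Fintype (A ρ L U S.simple.inv) := Fintype.ofFinite _
  let _ := Fintype.divisionRingOfIsDomain (A ρ L U S.simple.inv)
  have h1 := Clif.card_le_sq (D := A ρ L U S.simple.inv) (add_self S) (sg S) (sg_sg S)
  have h2 : Nat.card {f : A ρ L U S.simple.inv // ∀ x : X, sg S x f = f} ≤ 2 := by
    have hinj : Function.Injective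
        (fun f : {f : A ρ L U S.simple.inv // ∀ x : X, sg S x f = f} =>
          if (f : A ρ L U S.simple.inv) = 0 then (0 : ZMod 2) else 1) := by
      rintro ⟨f, hf⟩ ⟨g, hg⟩ h
      apply Subtype.ext
      show f = g
      by_cases h3 : f = 0 <;> by_cases h4 : g = 0
      · rw [h3, h4]
      · simp [h3, h4] at h
      · simp [h3, h4] at h
      · rw [(fix_eq S hf).resolve_left h3, (fix_eq S hg).resolve_left h4]
    have := Nat.card_le_card_of_injective _ hinj
    rwa [Nat.card_zmod] at this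
  calc Nat.card (A ρ L U S.simple.inv) ≤ _ := h1
    _ ≤ 2 ^ 2 := Nat.pow_le_pow_left h2 2
    _ = 4 := by norm_num

end EndU

open EndU in
/-- **`End_L(U)` is `F_2` or `F_4`.** -/
theorem Base.end_cases (S : Base ρ b q a D X w L U) :
    E2 ρ L U ∨ ∃ ω : V →ₗ[ZMod 2] V, E4 ρ L U ω := by
  classical
  by_cases hall : E2 ρ L U
  · exact Or.inl hall
  right
  unfold E2 at hall
  push Not at hall
  obtain ⟨ζ, hζ, hζU, hζ0, hζ1⟩ := hall
  have hfin := finite_A S
  have hdom := isDomain S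
  let z : A ρ L U S.simple.inv := res S.simple.inv hζ hζU
  have hz : ∀ u : U, ((z : Module.End (ZMod 2) U) u : V) = ζ u := fun u => rfl
  have hz0 : z ≠ 0 := by
    intro h
    obtain ⟨u, hu, h1⟩ := hζ0
    apply h1
    rw [← hz ⟨u, hu⟩, h]
    rfl
  have hz1 : z ≠ 1 := by
    intro h
    obtain ⟨u, hu, h1⟩ := hζ1
    apply h1
    rw [← hz ⟨u, hu⟩, h]
    rfl
  have h2 : ∀ x : A ρ L U S.simple.inv, x + x = 0 := add_self S
  have eq_of : ∀ {x y : A ρ L U S.simple.inv}, x + y = 0 → x = y := by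
    intro x y h
    have : x + y + y = 0 + y := by rw [h]
    rwa [add_assoc, h2, add_zero, zero_add] at this
  have hz2 : z + 1 ≠ 0 := fun h => hz1 (eq_of h)
  have hz3 : z + 1 ≠ 1 := fun h => hz0 (by
    have := add_right_cancel (h.trans (zero_add 1).symm)
    exact this)
  have hz4 : z + 1 ≠ z := fun h => one_ne_zero (add_left_cancel (h.trans (add_zero z).symm))
  -- the four elements
  have hfour : ∀ x : A ρ L U S.simple.inv, x = 0 ∨ x = 1 ∨ x = z ∨ x = z + 1 := by
    intro x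
    by_contra hcon
    push Not at hcon
    obtain ⟨hx0, hx1, hx2, hx3⟩ := hcon
    have : Fintype (A ρ L U S.simple.inv) := Fintype.ofFinite _
    have hc : ({0, 1, z, z + 1, x} : Finset (A ρ L U S.simple.inv)).card ≤ 4 := by
      calc _ ≤ Fintype.card (A ρ L U S.simple.inv) := Finset.card_le_univ _
        _ = Nat.card (A ρ L U S.simple.inv) := Nat.card_eq_fintype_card.symm
        _ ≤ 4 := card_le S
    have hc2 : ({0, 1, z, z + 1, x} : Finset (A ρ L U S.simple.inv)).card = 5 := by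
      rw [Finset.card_insert_of_notMem, Finset.card_insert_of_notMem, Finset.card_insert_of_notMem,
        Finset.card_insert_of_notMem, Finset.card_singleton]
      · rw [Finset.mem_singleton]; exact fun h => hx3 h.symm
      · simp only [Finset.mem_insert, Finset.mem_singleton, not_or]
        exact ⟨fun h => hz4 h.symm, fun h => hx2 h.symm⟩
      · simp only [Finset.mem_insert, Finset.mem_singleton, not_or]
        exact ⟨fun h => hz1 h.symm, fun h => hz3 h.symm, fun h => hx1 h.symm⟩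
      · simp only [Finset.mem_insert, Finset.mem_singleton, not_or]
        exact ⟨fun h => one_ne_zero h.symm, fun h => hz0 h.symm, fun h => hz2 h.symm,
          fun h => hx0 h.symm⟩
    omega
  have hzz : z * z = z + 1 := by
    rcases hfour (z * z) with h | h | h | h
    · exact absurd (mul_self_eq_zero.1 h) hz0
    · exfalso
      apply hz1
      have h3 : (z + 1) * (z + 1) = 0 := by
        have : (z + 1) * (z + 1) = z * z + (z + z) + 1 := by noncomm_ring
        rw [this, h, h2, add_zero, h2]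
      exact eq_of (mul_self_eq_zero.1 h3)
    · exfalso
      have h3 : z * (z + 1) = 0 := by rw [mul_add, mul_one, h, h2]
      rcases mul_eq_zero.1 h3 with h4 | h4
      · exact hz0 h4
      · exact hz1 (eq_of h4)
    · exact h
  refine ⟨ζ, hζ, hζU, ?_, ?_⟩
  · intro u hu
    exact congrArg (fun x : A ρ L U S.simple.inv => ((x : Module.End (ZMod 2) U) ⟨u, hu⟩ : V)) hzz
  · intro f hf hfU
    have key : ∀ y : A ρ L U S.simple.inv, res S.simple.inv hf hfU = y →
        ∀ u (hu : u ∈ U), f u = (y : Module.End (ZMod 2) U) ⟨u, hu⟩ := by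
      intro y hy u hu
      rw [← hy]
      rfl
    rcases hfour (res S.simple.inv hf hfU) with h | h | h | h
    · exact Or.inl fun u hu => key _ h u hu
    · exact Or.inr (Or.inl fun u hu => key _ h u hu)
    · exact Or.inr (Or.inr (Or.inl fun u hu => key _ h u hu))
    · exact Or.inr (Or.inr (Or.inr fun u hu => key _ h u hu))

end Cfsg.Agent.Omega.EH3.Irr
end

-- part: Omega/EH3/Irr/Glue
section
prune_inst 0x1000414004400004001805002200020424000000000304008c4002000b0082010000060104500001000000c040080000000000100010000000000400400000000080000091380c00100080000082000000000000010000000000000000000000000000000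
set_option linter.all false
open scoped Cfsg.Agent.FastGrp

/-!
# THEOREM IRR of EH3: from isotypic to `Base` and `Two` (helper807)

`exists_base` : if all simple `L`-submodules are isomorphic and `X ∩ C_H(L) = 1`, there is `Base`;
`top_or_two` : `U = V` or `Two`.
-/

set_option autoImplicit false

namespace Cfsg.Agent.Omega.EH3.Irr

open Module Subgroup

variable {H V : Type*} [Group H] [AddCommGroup V] [Module (ZMod 2) V]
  {ρ : H →* (V ≃ₗ[ZMod 2] V)} {b : LinearMap.BilinForm (ZMod 2) V} {q : V → ZMod 2}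
  {a : V} {D : Submodule (ZMod 2) V} {X : Subgroup H} {w : ℕ} {L : Subgroup H} {U W : Submodule (ZMod 2) V}
  {f g : V →ₗ[ZMod 2] V}

/-- all simple `L`-submodules are isomorphic -/
def Isotyp (ρ : H →* (V ≃ₗ[ZMod 2] V)) (L : Subgroup H) : Prop :=
  ∀ U U' : Submodule (ZMod 2) V, Simple ρ L U → Simple ρ L U' →
    ∃ f : V →ₗ[ZMod 2] V, LMap ρ L U f ∧ U.map f = U'

/-- there is a simple submodule -/
theorem exists_simple [Finite V] [Nontrivial V] : ∃ U, Simple ρ L U := by
  obtain ⟨M, hM, -⟩ := (eq_bot_or_exists_atom_le (⊤ : Submodule (Rg ρ L) V)).resolve_left (by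
    have : Nontrivial (Submodule (Rg ρ L) V) := (Submodule.nontrivial_iff (Rg ρ L)).2 inferInstance
    exact top_ne_bot)
  exact ⟨_, simple_of M (isSimpleModule_iff_isAtom.2 hM)⟩

/-- the number of simple submodules is odd -/
theorem odd_card [Finite V] [Nontrivial V] (h2 : ∀ v : V, v + v = 0) (hiso : Isotyp ρ L) :
    Odd (Nat.card {U : Submodule (ZMod 2) V // Simple ρ L U}) := by
  obtain ⟨U, hU⟩ := exists_simple (ρ := ρ) (L := L)
  have h1 := Clif.odd_sim h2 (simple_toR hU) (le_top : _ ≤ (⊤ : Submodule (Rg ρ L) V)) (by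
    intro M
    have hM := simple_of M.1 M.2.1
    obtain ⟨f, hf, hfU⟩ := hiso U _ hU hM
    exact ⟨equivOf hU hf hM.inv hfU hM.ne⟩)
  have e : Clif.Sim (⊤ : Submodule (Rg ρ L) V) ≃ {U : Submodule (ZMod 2) V // Simple ρ L U} :=
    { toFun := fun M => ⟨M.1.restrictScalars (ZMod 2), simple_of M.1 M.2.1⟩
      invFun := fun W => ⟨toR W.1 W.2.inv, simple_toR W.2, le_top⟩
      left_inv := fun M => Subtype.ext (by ext v; exact Iff.rfl)
      right_inv := fun W => Subtype.ext (by ext v; exact Iff.rfl) }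
  rw [← Nat.card_congr e]
  exact h1.1

/-- a normal subgroup element trivial on a simple submodule is trivial -/
theorem trivial_of_isotyp (C : Cfg ρ b q a D X w) (hL : L.Normal) (hiso : Isotyp ρ L) (hU : Simple ρ L U)
    {l : H} (hl : l ∈ L) (h : ∀ u ∈ U, ρ l u = u) : l = 1 := by
  -- `l` is trivial on all simple submodules
  have h1 : ∀ W, Simple ρ L W → ∀ v ∈ W, ρ l v = v := by
    intro W hW v hv
    obtain ⟨f, hf, hfU⟩ := hiso U W hU hW
    rw [← hfU] at hv
    obtain ⟨u, hu, rfl⟩ := hv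
    rw [← hf l hl u hu, h u hu]
  let M : Submodule (ZMod 2) V := ⨆ W : {W : Submodule (ZMod 2) V // Simple ρ L W}, W.1
  have hM : ∀ h, ∀ v ∈ M, ρ h v ∈ M := by
    intro h v hv
    induction hv using Submodule.iSup_induction' with
    | mem W v hv => exact Submodule.mem_iSup_of_mem ⟨_, W.2.conj hL h⟩ ⟨v, hv, rfl⟩
    | zero => rw [map_zero]; exact M.zero_mem
    | add u v _ _ hu hv => rw [map_add]; exact M.add_mem hu hv
  apply C.ext
  intro v
  rw [C.ρ_one]
  have hv : v ∈ M := by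
    rcases C.irr M hM with h2 | h2
    · exfalso
      apply hU.ne
      rw [eq_bot_iff, ← h2]
      exact le_iSup (fun W : {W : Submodule (ZMod 2) V // Simple ρ L W} => W.1) ⟨U, hU⟩
    · rw [h2]; trivial
  induction hv using Submodule.iSup_induction' with
  | mem W v hv => exact h1 W.1 W.2 v hv
  | zero => rw [map_zero]
  | add u v _ _ hu hv => rw [map_add, hu, hv]

/-- the sum of the simple submodules is `V` -/
theorem iSup_simple (C : Cfg ρ b q a D X w) (hL : L.Normal) :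
    (⨆ W : {W : Submodule (ZMod 2) V // Simple ρ L W}, W.1) = ⊤ := by
  have := C.finite_V
  have := C.nontrivial_V
  obtain ⟨U, hU⟩ := exists_simple (ρ := ρ) (L := L)
  set M : Submodule (ZMod 2) V := ⨆ W : {W : Submodule (ZMod 2) V // Simple ρ L W}, W.1 with hMdef
  have hM : ∀ h, ∀ v ∈ M, ρ h v ∈ M := by
    intro h v hv
    induction hv using Submodule.iSup_induction' with
    | mem W v hv => exact Submodule.mem_iSup_of_mem ⟨_, W.2.conj hL h⟩ ⟨v, hv, rfl⟩
    | zero => rw [map_zero]; exact M.zero_mem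
    | add u v _ _ hu hv => rw [map_add]; exact M.add_mem hu hv
  rcases C.irr M hM with h2 | h2
  · exfalso
    apply hU.ne
    rw [eq_bot_iff, ← h2]
    exact le_iSup (fun W : {W : Submodule (ZMod 2) V // Simple ρ L W} => W.1) ⟨U, hU⟩
  · exact h2

theorem exists_base (C : Cfg ρ b q a D X w) (hL : L.Normal) (hp : ⁅L, L⁆ = L) (hne : L ≠ ⊥)
    (hX : X ⊓ centralizer (L : Set H) = ⊥) (hiso : Isotyp ρ L) : ∃ U, Base ρ b q a D X w L U := by
  classical
  have := C.finite_V
  have := C.nontrivial_V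
  have hodd := odd_card C.add_self hiso
  have hmul : ∀ (g h : H) (v : V), ρ (g * h) v = ρ g (ρ h v) := C.ρ_mul
  -- `X` acts on the simple submodules
  let act : MulAction X {U : Submodule (ZMod 2) V // Simple ρ L U} :=
    { smul := fun x U => ⟨U.1.map (ρ (x : H) : V →ₗ[ZMod 2] V), U.2.conj hL x⟩
      one_smul := fun U => by
        apply Subtype.ext
        show U.1.map (ρ ((1 : X) : H) : V →ₗ[ZMod 2] V) = U.1
        rw [Subgroup.coe_one, map_one]
        exact Submodule.map_id _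
      mul_smul := fun x y U => by
        apply Subtype.ext
        show U.1.map (ρ ((x * y : X) : H) : V →ₗ[ZMod 2] V) =
          (U.1.map (ρ (y : H) : V →ₗ[ZMod 2] V)).map (ρ (x : H) : V →ₗ[ZMod 2] V)
        rw [← Submodule.map_comp, Subgroup.coe_mul, map_mul]
        rfl }
  have : Fact (Nat.Prime 2) := ⟨Nat.prime_two⟩
  have : Finite {U : Submodule (ZMod 2) V // Simple ρ L U} := Subtype.finite
  obtain ⟨⟨U, hU⟩, hfix⟩ := C.isPGroup_X.nonempty_fixed_point_of_prime_not_dvd_card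
    {U : Submodule (ZMod 2) V // Simple ρ L U} (fun h => by
      rw [← even_iff_two_dvd] at h
      exact (Nat.not_even_iff_odd.2 hodd) h)
  have hUX : Inv ρ X U := by
    intro x hx v hv
    have h1 : U.map (ρ x : V →ₗ[ZMod 2] V) = U := congrArg Subtype.val (hfix ⟨x, hx⟩)
    rw [← h1]
    exact ⟨v, hv, rfl⟩
  refine ⟨U, C, hL, hp, hne, hU, C.a_mem_of_inv hUX hU.ne, hUX, ?_⟩
  intro x hx hfx
  have h1 : x ∈ X ⊓ centralizer (L : Set H) := by
    refine ⟨hx, mem_centralizer_iff.2 ?_⟩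
    intro l hl
    have h2 : x * l * x⁻¹ * l⁻¹ ∈ L := L.mul_mem (hL.conj_mem l hl x) (L.inv_mem hl)
    have h3 : x * l * x⁻¹ * l⁻¹ = 1 := by
      apply trivial_of_isotyp C hL hiso hU h2
      intro u hu
      have h4 : ρ l⁻¹ u ∈ U := hU.inv _ (L.inv_mem hl) u hu
      have h5 : ρ x⁻¹ (ρ l⁻¹ u) = ρ l⁻¹ u := C.fix_inv (hfx _ h4)
      rw [hmul, hmul, hmul, h5, C.ρ_apply_inv, hfx u hu]
    have h4 : x * l = l * x := by
      calc x * l = (x * l * x⁻¹ * l⁻¹) * (l * x) := by group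
        _ = l * x := by rw [h3, one_mul]
    exact h4.symm
  rw [hX, Subgroup.mem_bot] at h1
  exact h1

/-- `2 ^ w ≤ |U|` -/
theorem Base.card_le (S : Base ρ b q a D X w L U) : 2 ^ w ≤ Nat.card U := by
  classical
  have := S.cfg.finite_V
  have := S.cfg.finite_H
  obtain ⟨c, hc⟩ := S.cfg.exists_off
  have hac : b c a = 1 := by rw [S.cfg.b_comm]; exact hc
  let F : X → {ψ : Module.Dual (ZMod 2) U // ψ ⟨a, S.a_mem⟩ = 1} := fun x =>
    ⟨(b c) ∘ₗ (ρ (x : H) : V →ₗ[ZMod 2] V) ∘ₗ U.subtype, by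
      show b c (ρ (x : H) a) = 1
      rw [S.cfg.X_a x.2, hac]⟩
  have hF : Function.Injective F := by
    intro x y hxy
    have h1 : ∀ u ∈ U, b c (ρ (x : H) u) = b c (ρ (y : H) u) := fun u hu =>
      LinearMap.congr_fun (congrArg Subtype.val hxy) ⟨u, hu⟩
    -- the subspace `(x + y) U`
    let W : Submodule (ZMod 2) V :=
      U.map ((ρ (x : H) : V →ₗ[ZMod 2] V) + (ρ (y : H) : V →ₗ[ZMod 2] V))
    have hW : ∀ z ∈ X, ∀ v ∈ W, ρ z v ∈ W := by
      rintro z hz _ ⟨u, hu, rfl⟩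
      refine ⟨ρ z u, S.X_inv z hz u hu, ?_⟩
      show ρ (x : H) (ρ z u) + ρ (y : H) (ρ z u) = ρ z (ρ (x : H) u + ρ (y : H) u)
      rw [map_add, ← S.cfg.ρ_mul, ← S.cfg.ρ_mul, ← S.cfg.ρ_mul, ← S.cfg.ρ_mul, S.cfg.X_comm x.2 hz,
        S.cfg.X_comm y.2 hz]
    by_cases h0 : W = ⊥
    · have h2 : ∀ u ∈ U, ρ ((x : H) * (y : H)) u = u := by
        intro u hu
        have h3 : ρ (x : H) (ρ (y : H) u) + ρ (y : H) (ρ (y : H) u) ∈ W :=
          ⟨ρ (y : H) u, S.X_inv _ y.2 u hu, rfl⟩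
        rw [h0, Submodule.mem_bot, S.cfg.add_eq_zero, ← S.cfg.ρ_mul, ← S.cfg.ρ_mul, S.cfg.X_sq _ y.2,
          S.cfg.ρ_one] at h3
        exact h3
      have h3 := S.faith _ (X.mul_mem x.2 y.2) h2
      apply Subtype.ext
      calc (x : H) = (x : H) * (y : H) * (y : H)⁻¹ := by group
        _ = (y : H) := by rw [h3, one_mul, S.cfg.X_inv y.2]
    · exfalso
      obtain ⟨u, hu, hua⟩ := S.cfg.a_mem_of_inv hW h0
      have h2 : ρ (x : H) u + ρ (y : H) u = a := hua
      have h3 : b c a = 0 := by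
        rw [← h2, map_add, h1 u hu]
        exact CharTwo.add_self_eq_zero _
      rw [hac] at h3
      exact one_ne_zero h3
  have hne : (⟨a, S.a_mem⟩ : U) ≠ 0 := fun h => S.cfg.a_ne (congrArg Subtype.val h)
  have h1 := Clif.card_dual_one (E := ZMod 2) hne
  have hfin : Finite {ψ : Module.Dual (ZMod 2) U // ψ ⟨a, S.a_mem⟩ = 1} := by
    apply Nat.finite_of_card_ne_zero
    intro h0
    rw [h0, zero_mul] at h1
    exact Nat.card_pos.ne h1
  have h2 := Nat.card_le_card_of_injective F hF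
  rw [S.cfg.card_X] at h2
  rw [← h1, Nat.card_zmod]
  calc 2 ^ w = 2 ^ (w - 1) * 2 := by
        rw [← pow_succ]
        congr 1
        have := S.cfg.five
        omega
    _ ≤ _ := Nat.mul_le_mul_right _ h2

/-- **`U = V` or `Two`** -/
theorem Base.top_or_two (S : Base ρ b q a D X w L U) (hiso : Isotyp ρ L) :
    U = ⊤ ∨ ∃ g : V →ₗ[ZMod 2] V, Two ρ b q a D X w L U g := by
  classical
  have := S.cfg.finite_V
  by_cases hU : U = ⊤
  · exact Or.inl hU
  right
  -- a simple submodule not in `U`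
  obtain ⟨U', hU', hnot⟩ : ∃ U', Simple ρ L U' ∧ ¬ U' ≤ U := by
    by_contra hcon
    push Not at hcon
    apply hU
    rw [eq_top_iff, ← iSup_simple S.cfg S.nor]
    exact iSup_le fun W => hcon W.1 W.2
  obtain ⟨g, hg, hgU⟩ := hiso U U' S.simple hU'
  have hg0 : ∀ u ∈ U, g u = 0 → u = 0 := by
    intro u hu h
    by_contra h0
    apply hU'.ne
    rw [← hgU, eq_bot_iff]
    rintro _ ⟨v, hv, rfl⟩
    exact S.simple.zero_of_zero hg hu h0 h v hv
  have hint : ∀ v ∈ U, v ∈ U' → v = 0 := by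
    intro v hv hv'
    by_contra h0
    apply hnot
    have h1 : Inv ρ L (U ⊓ U') := fun l hl t ht => ⟨S.simple.inv l hl t ht.1, hU'.inv l hl t ht.2⟩
    have h2 := hU'.eq_of_mem inf_le_right h1 (v := v) ⟨hv, hv'⟩ h0
    rw [← h2]
    exact inf_le_left
  have hginj : ∀ u ∈ U, g u ∈ U → u = 0 := fun u hu h =>
    hg0 u hu (hint _ h (by rw [← hgU]; exact ⟨u, hu, rfl⟩))
  -- counting
  let F : U × U → V := fun p => (p.1 : V) + g (p.2 : V)
  have hF : Function.Injective F := by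
    rintro ⟨u, u'⟩ ⟨v, v'⟩ h
    have h0 : (u : V) + g (u' : V) = (v : V) + g (v' : V) := h
    have h1 : g ((u' : V) - (v' : V)) = (v : V) - (u : V) := by
      rw [map_sub, sub_eq_sub_iff_add_eq_add, add_comm, h0, add_comm]
    have h2 := hginj _ (U.sub_mem u'.2 v'.2) (by rw [h1]; exact U.sub_mem v.2 u.2)
    rw [h2, map_zero] at h1
    exact Prod.ext (Subtype.ext (sub_eq_zero.1 h1.symm).symm) (Subtype.ext (sub_eq_zero.1 h2))
  have h1 := Nat.card_le_card_of_injective F hF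
  rw [Nat.card_prod, S.cfg.card_V] at h1
  have h2 := S.card_le
  have h3 : Nat.card U = 2 ^ w := by
    apply le_antisymm _ h2
    by_contra hlt
    push Not at hlt
    have h4 : 2 ^ w * 2 ^ w < Nat.card U * Nat.card U :=
      Nat.mul_lt_mul_of_lt_of_le' hlt h2 (by positivity)
    rw [two_mul, pow_add] at h1
    omega
  have hsurj : Function.Surjective F := by
    have h4 : Nat.card V ≤ Nat.card (U × U) := by
      rw [Nat.card_prod, h3, S.cfg.card_V, two_mul, pow_add]
    exact ((Nat.bijective_iff_injective_and_card F).2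
      ⟨hF, le_antisymm (Nat.card_le_card_of_injective F hF) h4⟩).2
  refine ⟨g, S, hg, hginj, ?_, h3⟩
  intro v
  obtain ⟨⟨u, u'⟩, rfl⟩ := hsurj v
  exact ⟨u, u.2, u', u'.2, rfl⟩

end Cfsg.Agent.Omega.EH3.Irr
end
end

-- part: Mrg/Omega/EH3/Irr/Main
section
set_option linter.all false
open scoped Cfsg.Agent.FastGrp

-- merged: Cfsg.Agent.Mrg.Omega.EH3.Irr.Two
section

/-!
# THEOREM IRR of EH3: the case `V = U ⊕ g U`, `|End_L(U)| = 2` (helper40)

`x g x⁻¹ = g + d x` on `U` for `x ∈ X`, `d x ∈ {0, 1}`; `X₁ = ker d` has index two.  The form `be (u, v) = b u (g v)` on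
`U` is alternating, `X₁` acts on `T = a^⊥` (for `be`) as all transvections with centre `a`.  `RowS.SpFam.main` gives a
quadratic form on `U` whose singular vectors are the orbit of `a` under the stabiliser `H₁` of `(U, g)`; some
`β ∈ X - X₁` is the transvection with centre `a` on `U` and normalises `H₁`.
-/

set_option autoImplicit false

namespace Cfsg.Agent.Omega.EH3.Irr

open Module

variable {H V : Type*} [Group H] [AddCommGroup V] [Module (ZMod 2) V]
  {ρ : H →* (V ≃ₗ[ZMod 2] V)} {b : LinearMap.BilinForm (ZMod 2) V} {q : V → ZMod 2}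
  {a : V} {D : Submodule (ZMod 2) V} {X : Subgroup H} {w : ℕ} {L : Subgroup H} {U : Submodule (ZMod 2) V}
  {g : V →ₗ[ZMod 2] V}

/-- `x` commutes with `g` on `U` -/
def D0 (ρ : H →* (V ≃ₗ[ZMod 2] V)) (U : Submodule (ZMod 2) V) (g : V →ₗ[ZMod 2] V) (x : H) : Prop :=
  ∀ u ∈ U, ρ x (g u) = g (ρ x u)

/-- `x g x⁻¹ = g + 1` on `U` -/
def D1 (ρ : H →* (V ≃ₗ[ZMod 2] V)) (U : Submodule (ZMod 2) V) (g : V →ₗ[ZMod 2] V) (x : H) : Prop :=
  ∀ u ∈ U, ρ x (g u) = g (ρ x u) + ρ x u

namespace Two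

variable (S : Two ρ b q a D X w L U g)

include S

theorem dich (hE : E2 ρ L U) {x : H} (hx : x ∈ X) : D0 ρ U g x ∨ D1 ρ U g x := by
  obtain ⟨e, e', he, he', heU, heU', hf⟩ := S.exists_dec (S.toBase.cj_map S.g_map hx)
  have h1 : ∀ u, ρ x (g u) = e (ρ x u) + g (e' (ρ x u)) := by
    intro u
    have h2 := hf (ρ x u)
    rwa [cj_apply, S.cfg.ρ_inv_apply] at h2
  rcases hE e' he' heU' with h0 | h0
  · exfalso
    have h2 := h1 a
    rw [S.cfg.X_a hx, h0 a S.a_mem, map_zero, add_zero] at h2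
    have h3 : g a ∈ U := by
      rw [← S.toBase.xx hx (g a), h2]
      exact S.X_inv x hx _ (heU a S.a_mem)
    exact S.cfg.a_ne (S.g_inj a S.a_mem h3)
  · rcases hE e he heU with h | h
    · left
      intro u hu
      have hu' := S.X_inv x hx u hu
      rw [h1, h _ hu', h0 _ hu', zero_add]
    · right
      intro u hu
      have hu' := S.X_inv x hx u hu
      rw [h1, h _ hu', h0 _ hu', add_comm]

theorem D1_mul {x y : H} (hx : D1 ρ U g x) (hy : D1 ρ U g y) (hyX : y ∈ X) : D0 ρ U g (x * y) := by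
  intro u hu
  have hu' := S.X_inv y hyX u hu
  rw [S.cfg.ρ_mul, hy u hu, map_add, hx _ hu', S.cfg.add_add_self, S.cfg.ρ_mul]

/-- not every element of `X` commutes with `g` -/
theorem exists_D1 (hE : E2 ρ L U) : ∃ α ∈ X, D1 ρ U g α := by
  by_contra hcon
  push Not at hcon
  have h1 : ∀ x ∈ X, ρ x (g a) = g a := by
    intro x hx
    have h2 := (S.dich hE hx).resolve_right (hcon x hx)
    rw [h2 a S.a_mem, S.cfg.X_a hx]
  rcases S.cfg.fix_X h1 with h | h
  · exact S.cfg.a_ne (S.g_inj a S.a_mem (by rw [h]; exact U.zero_mem))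
  · exact S.cfg.a_ne (S.g_inj a S.a_mem (by rw [h]; exact S.a_mem))

/-- a conjugate `h U ≠ U` is `g U` or `(g + 1) U` -/
theorem exists_conj (hE : E2 ρ L U) : ∃ h : H, (∀ u ∈ U, ∃ v ∈ U, ρ h v = g u) ∨
    ∀ u ∈ U, ∃ v ∈ U, ρ h v = g u + u := by
  have := S.cfg.finite_V
  -- `h U ≠ U`
  obtain ⟨h, hh⟩ : ∃ h : H, ∃ v ∈ U, ρ h v ∉ U := by
    by_contra hcon
    push Not at hcon
    rcases S.cfg.irr U hcon with h | h
    · exact S.simple.ne h
    · exact S.ne_top h
  obtain ⟨v₀, hv₀, hv₀'⟩ := hh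
  refine ⟨h, ?_⟩
  have hW := S.simple.conj S.nor h
  have hinf : U.map (ρ h : V →ₗ[ZMod 2] V) ⊓ U = ⊥ := by
    rcases hW.min _ inf_le_left (fun l hl v hv => ⟨hW.inv l hl v hv.1, S.simple.inv l hl v hv.2⟩) with h1 | h1
    · exact h1
    · exfalso
      apply hv₀'
      have h2 : ρ h v₀ ∈ U.map (ρ h : V →ₗ[ZMod 2] V) := ⟨v₀, hv₀, rfl⟩
      rw [← h1] at h2
      exact h2.2
  obtain ⟨p, r, hp, hr, hpr, hpl, hrl⟩ := S.exists_proj
  -- `r` is bijective from `h U` to `U`
  have hrU : ∀ u ∈ U, p u = u ∧ r u = 0 := by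
    intro u hu
    have h1 := S.uniq (hp u) (hr u) hu U.zero_mem (by rw [← hpr, map_zero, add_zero])
    exact h1
  let R : ↥U →ₗ[ZMod 2] ↥U :=
    { toFun := fun u => ⟨r (ρ h u), hr _⟩
      map_add' := fun u v => Subtype.ext (by simp)
      map_smul' := fun c u => Subtype.ext (by simp only [_root_.SetLike.val_smul, _root_.map_smul, _root_.RingHom.id_apply, _root_.SetLike.mk_smul_mk]) }
  have hR : ∀ u : ↥U, (R u : V) = r (ρ h u) := fun _ => rfl
  have hinj : Function.Injective R := by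
    rw [injective_iff_map_eq_zero]
    intro u hu
    have h1 : r (ρ h u) = 0 := by rw [← hR, hu]; rfl
    have h2 : ρ h u ∈ U := by
      rw [hpr (ρ h u), h1, map_zero, add_zero]
      exact hp _
    have h3 : ρ h u ∈ U.map (ρ h : V →ₗ[ZMod 2] V) ⊓ U := ⟨⟨u, u.2, rfl⟩, h2⟩
    rw [hinf, Submodule.mem_bot] at h3
    exact Subtype.ext ((LinearEquiv.map_eq_zero_iff _).1 h3)
  have hsurj : Function.Surjective R := Finite.injective_iff_surjective.1 hinj
  let Re : ↥U ≃ₗ[ZMod 2] ↥U := LinearEquiv.ofBijective R ⟨hinj, hsurj⟩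
  have hRe : ∀ u : ↥U, r (ρ h (Re.symm u)) = u := by
    intro u
    rw [← hR]
    have h1 : R (Re.symm u) = u := Re.apply_symm_apply u
    rw [h1]
  -- the endomorphism `p ∘ r⁻¹` of `U`
  let f : V →ₗ[ZMod 2] V :=
    p ∘ₗ (ρ h : V →ₗ[ZMod 2] V) ∘ₗ U.subtype ∘ₗ (Re.symm : ↥U →ₗ[ZMod 2] ↥U) ∘ₗ p.codRestrict U hp
  have hf : ∀ u (hu : u ∈ U), f u = p (ρ h (Re.symm ⟨u, hu⟩)) := by
    intro u hu
    have h1 : p.codRestrict U hp u = ⟨u, hu⟩ := Subtype.ext (hrU u hu).1
    show p (ρ h (Re.symm (p.codRestrict U hp u))) = _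
    rw [h1]
  have hval : ∀ u (hu : u ∈ U), ρ h (Re.symm ⟨u, hu⟩) = f u + g u := by
    intro u hu
    rw [hf u hu]
    have h1 := hpr (ρ h (Re.symm ⟨u, hu⟩))
    rw [hRe ⟨u, hu⟩] at h1
    exact h1
  have hfL : LMap ρ L U f := by
    intro l hl u hu
    have hlu := S.simple.inv l hl u hu
    -- `l (r⁻¹ u) = r⁻¹ (l u)`
    obtain ⟨v, hv, hvl⟩ : ∃ v ∈ U, ρ h v = ρ l (ρ h (Re.symm ⟨u, hu⟩)) :=
      hW.inv l hl _ ⟨Re.symm ⟨u, hu⟩, (Re.symm ⟨u, hu⟩).2, rfl⟩
    have h1 : R ⟨v, hv⟩ = ⟨ρ l u, hlu⟩ := by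
      apply Subtype.ext
      rw [hR]
      show r (ρ h v) = ρ l u
      rw [hvl, hrl l hl, hRe]
    have h2 : Re.symm ⟨ρ l u, hlu⟩ = ⟨v, hv⟩ := by
      rw [← h1]
      exact Re.symm_apply_apply _
    rw [hf _ hlu, hf u hu, h2]
    show p (ρ h v) = _
    rw [hvl, hpl l hl]
  rcases hE f hfL (fun u hu => by rw [hf u hu]; exact hp _) with h1 | h1
  · left
    intro u hu
    refine ⟨Re.symm ⟨u, hu⟩, (Re.symm ⟨u, hu⟩).2, ?_⟩
    rw [hval u hu, h1 u hu, zero_add]
  · right
    intro u hu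
    refine ⟨Re.symm ⟨u, hu⟩, (Re.symm ⟨u, hu⟩).2, ?_⟩
    rw [hval u hu, h1 u hu, add_comm]

/-- `g U` and `(g + 1) U` are totally singular -/
theorem q_both (hE : E2 ρ L U) : (∀ u ∈ U, q (g u) = 0) ∧ ∀ u ∈ U, q (g u + u) = 0 := by
  obtain ⟨α, hα, hα1⟩ := S.exists_D1 hE
  obtain ⟨h, h1 | h1⟩ := S.exists_conj hE
  · have h2 : ∀ u ∈ U, q (g u) = 0 := by
      intro u hu
      obtain ⟨v, hv, h3⟩ := h1 u hu
      rw [← h3, S.cfg.q_inv]
      exact S.q_U hv
    refine ⟨h2, fun u hu => ?_⟩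
    have h3 := hα1 (ρ α u) (S.X_inv α hα u hu)
    rw [S.toBase.xx hα] at h3
    rw [← h3, S.cfg.q_inv]
    exact h2 _ (S.X_inv α hα u hu)
  · have h2 : ∀ u ∈ U, q (g u + u) = 0 := by
      intro u hu
      obtain ⟨v, hv, h3⟩ := h1 u hu
      rw [← h3, S.cfg.q_inv]
      exact S.q_U hv
    refine ⟨fun u hu => ?_, h2⟩
    rw [← S.cfg.q_inv α, hα1 u hu]
    exact h2 _ (S.X_inv α hα u hu)

/-- `be` is alternating -/
theorem be_self (hE : E2 ρ L U) {u : V} (hu : u ∈ U) : b u (g u) = 0 := by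
  have h1 := (S.q_both hE).2 u hu
  rw [S.cfg.q_add, (S.q_both hE).1 u hu, S.q_U hu, zero_add, zero_add] at h1
  rw [S.cfg.b_comm]
  exact h1

theorem be_comm (hE : E2 ρ L U) {u v : V} (hu : u ∈ U) (hv : v ∈ U) : b u (g v) = b v (g u) := by
  have h1 := S.be_self hE (U.add_mem hu hv)
  rw [map_add, map_add, map_add, LinearMap.add_apply, LinearMap.add_apply, S.be_self hE hu, S.be_self hE hv,
    zero_add, add_zero] at h1
  exact (CharTwo.add_eq_zero.1 h1).symm

/-- `C_U(X₁) = {0, a}` -/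
theorem fixU (hE : E2 ρ L U) {u : V} (hu : u ∈ U) (h : ∀ x ∈ X, D0 ρ U g x → ρ x u = u) : u = 0 ∨ u = a := by
  have C := S.cfg
  obtain ⟨α, hα, hα1⟩ := S.exists_D1 hE
  -- `α u + u` is fixed by `X`
  have key : ∀ v, (∀ x ∈ X, D0 ρ U g x → ρ x v = v) → ρ α v = v → v = 0 ∨ v = a := by
    intro v hv hαv
    apply C.fix_X
    intro x hx
    rcases S.dich hE hx with h0 | h1
    · exact hv x hx h0
    · have h2 := hv _ (X.mul_mem hx hα) (S.D1_mul h1 hα1 hα)
      rwa [C.ρ_mul, hαv] at h2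
  have hd : ρ α u + u = 0 ∨ ρ α u + u = a := by
    apply key
    · intro x hx hx0
      rw [map_add, ← C.ρ_mul, C.X_comm hx hα, C.ρ_mul, h x hx hx0]
    · rw [map_add, S.toBase.xx hα, add_comm]
  rcases hd with hd | hd
  · exact key u h (C.add_eq_zero.1 hd)
  · exfalso
    have h1 : ρ α u = a + u := by rw [← hd, C.add_add_self]
    have h2 : u + g a = 0 ∨ u + g a = a := by
      apply key
      · intro x hx hx0
        rw [map_add, h x hx hx0, hx0 a S.a_mem, C.X_a hx]
      · rw [map_add, hα1 a S.a_mem, C.X_a hα, h1]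
        calc a + u + (g a + a) = u + g a + a + a := by abel
          _ = u + g a := C.add_add_self _ _
    have h3 : g a ∈ U := by
      have h4 : g a = (u + g a) + u := by
        rw [add_comm u, C.add_add_self]
      rw [h4]
      rcases h2 with h2 | h2
      · rw [h2, zero_add]; exact hu
      · rw [h2]; exact U.add_mem S.a_mem hu
    exact C.a_ne (S.g_inj a S.a_mem h3)

/-- `[T, X₁] ≤ ⟨a⟩` -/
theorem T_X1 (hE : E2 ρ L U) {u : V} (hu : u ∈ U) (hT : b a (g u) = 0) {x : H} (hx : x ∈ X)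
    (h0 : D0 ρ U g x) : ρ x u + u = 0 ∨ ρ x u + u = a := by
  have C := S.cfg
  have hxu := S.X_inv x hx u hu
  refine S.fixU hE (U.add_mem hxu hu) ?_
  intro y hy hy0
  have h1 : ρ x (g u) + g u ∈ D := C.X_perp x hx _ hT
  have h2 := C.X_D y hy _ h1
  have h3 : ρ x (g u) + g u = g (ρ x u + u) := by rw [h0 u hu, map_add]
  rw [h3, hy0 _ (U.add_mem hxu hu)] at h2
  have hc : ρ y (ρ x u + u) ∈ U := S.X_inv y hy _ (U.add_mem hxu hu)
  have h4 : g (ρ y (ρ x u + u) - (ρ x u + u)) ∈ U := by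
    rw [map_sub]
    rcases h2 with h2 | h2
    · rw [h2, sub_self]; exact U.zero_mem
    · rw [h2, add_sub_cancel_left]; exact S.a_mem
  have h5 := S.g_inj _ (U.sub_mem hc (U.add_mem hxu hu)) h4
  exact sub_eq_zero.1 h5

/-- `[T, X] ≤ ⟨a⟩` -/
theorem T_X (hE : E2 ρ L U) {u : V} (hu : u ∈ U) (hT : b a (g u) = 0) {x : H} (hx : x ∈ X) :
    ρ x u + u = 0 ∨ ρ x u + u = a := by
  have C := S.cfg
  have hxu := S.X_inv x hx u hu
  refine S.fixU hE (U.add_mem hxu hu) ?_
  intro y hy hy0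
  rw [map_add, ← C.ρ_mul, C.X_comm hy hx, C.ρ_mul]
  rcases S.T_X1 hE hu hT hy hy0 with h1 | h1
  · rw [C.add_eq_zero.1 h1]
  · have h2 : ρ y u = a + u := by rw [← h1, C.add_add_self]
    rw [h2, map_add, C.X_a hx]
    calc a + ρ x u + (a + u) = ρ x u + u + a + a := by abel
      _ = ρ x u + u := C.add_add_self _ _

/-- `T ≤ D` -/
theorem T_D (hE : E2 ρ L U) {u : V} (hu : u ∈ U) (hT : b a (g u) = 0) : u ∈ D := by
  apply S.cfg.mem_D_of_fix_mod
  intro x hx
  rcases S.T_X hE hu hT hx with h | h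
  · exact ⟨0, by rw [h, zero_smul]⟩
  · exact ⟨1, by rw [h, one_smul]⟩

/-- some vector of `U` is not in `T` -/
theorem exists_notT : ∃ v ∈ U, b a (g v) = 1 := by
  by_contra hcon
  push Not at hcon
  apply S.cfg.a_ne
  apply S.nondeg_left S.a_mem
  intro v hv
  rcases zmod_two (b a (g v)) with h | h
  · exact h
  · exact absurd h (hcon v hv)

/-- `T^⊥ = {0, a}` in `U` -/
theorem perp_T {c : V} (hc : c ∈ U) (h : ∀ v ∈ U, b a (g v) = 0 → b c (g v) = 0) : c = 0 ∨ c = a := by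
  have C := S.cfg
  obtain ⟨v₁, hv₁, h1⟩ := S.exists_notT
  have hv : ∀ v ∈ U, b a (g v) = 1 → b c (g v) = b c (g v₁) := by
    intro v hv hv1
    have h2 := h (v + v₁) (U.add_mem hv hv₁) (by rw [map_add, map_add, hv1, h1]; decide)
    rw [map_add, map_add] at h2
    exact CharTwo.add_eq_zero.1 h2
  rcases zmod_two (b c (g v₁)) with h2 | h2
  · left
    apply S.nondeg_left hc
    intro v hvU
    rcases zmod_two (b a (g v)) with h3 | h3
    · exact h v hvU h3
    · rw [hv v hvU h3, h2]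
  · right
    rw [← C.add_eq_zero]
    apply S.nondeg_left (U.add_mem hc S.a_mem)
    intro v hvU
    rw [map_add, LinearMap.add_apply]
    rcases zmod_two (b a (g v)) with h3 | h3
    · rw [h v hvU h3, h3]; rfl
    · rw [hv v hvU h3, h2, h3]; decide

/-- `X₁` is faithful on `T` -/
theorem faith_T {x : H} (hx : x ∈ X) (h0 : D0 ρ U g x)
    (h : ∀ v ∈ U, b a (g v) = 0 → ρ x v = v) : x = 1 := by
  have C := S.cfg
  by_contra hne
  obtain ⟨v, hv, hv0, hva⟩ := C.X_T x hx hne
  obtain ⟨u, hu, u', hu', rfl⟩ := S.dec v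
  rw [map_add, S.b_a hu, zero_add] at hv
  have h1 : ρ x (u + g u') + (u + g u') = ρ x u + u := by
    rw [map_add, h0 u' hu', h u' hu' hv]
    calc ρ x u + g u' + (u + g u') = ρ x u + u + g u' + g u' := by abel
      _ = ρ x u + u := C.add_add_self _ _
  rw [h1] at hv0 hva
  have hxu := S.X_inv x hx u hu
  rcases S.perp_T (U.add_mem hxu hu) (fun t ht hT => by
    have h2 : b (ρ x u) (g t) = b u (g t) := by
      nth_rewrite 1 [← h t ht hT]
      rw [← h0 t ht, C.b_inv]
    rw [map_add, LinearMap.add_apply, h2]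
    exact CharTwo.add_self_eq_zero _) with h2 | h2
  · exact hv0 h2
  · exact hva h2

/-- an element `β ∈ X - X₁` trivial on `T` -/
theorem exists_beta (hE : E2 ρ L U) : ∃ β ∈ X, D1 ρ U g β ∧ ∀ v ∈ U, b a (g v) = 0 → ρ β v = v := by
  have C := S.cfg
  have := C.finite_V
  let T : Submodule (ZMod 2) V := U ⊓ LinearMap.ker (b a ∘ₗ g)
  have hmem : ∀ v, v ∈ T ↔ v ∈ U ∧ b a (g v) = 0 := fun v => Iff.rfl
  obtain ⟨v₁, hv₁, h1⟩ := S.exists_notT
  -- a vector of `D` outside `T`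
  obtain ⟨d, hd, hdT⟩ : ∃ d ∈ D, d ∉ T := by
    by_contra hcon
    push Not at hcon
    have h2 : D ≤ U := fun d hd => ((hmem d).1 (hcon d hd)).1
    have h3 : (D : Set V) = U := by
      apply Set.eq_of_subset_of_ncard_le h2 _ (Set.toFinite _)
      rw [← Nat.card_coe_set_eq, ← Nat.card_coe_set_eq]
      exact (S.card_U.trans C.card_D.symm).le
    have h4 : v₁ ∈ D := by
      have : v₁ ∈ (U : Set V) := hv₁
      rw [← h3] at this
      exact this
    have h5 := ((hmem v₁).1 (hcon v₁ h4)).2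
    rw [h1] at h5
    exact one_ne_zero h5
  obtain ⟨u, hu, hdu⟩ : ∃ u, (∀ t ∈ T, b t u = 0) ∧ b u d ≠ 0 := by
    by_contra hcon
    push Not at hcon
    exact hdT (C.mem_of_perp T fun u hu => hcon u hu)
  obtain ⟨x, hx, hxd⟩ := C.X_all (b u) (by
    rw [C.b_comm]
    exact hu a ((hmem a).2 ⟨S.a_mem, S.be_self hE S.a_mem⟩))
  have hxT : ∀ v ∈ U, b a (g v) = 0 → ρ x v = v := by
    intro v hv hvT
    rw [hxd v (S.T_D hE hv hvT), C.b_comm, hu v ((hmem v).2 ⟨hv, hvT⟩), zero_smul, add_zero]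
  refine ⟨x, hx, (S.dich hE hx).resolve_left ?_, hxT⟩
  intro h0
  have h2 := S.faith_T hx h0 hxT
  have h3 := hxd d hd
  rw [h2, C.ρ_one, zmod_two_ne hdu, one_smul] at h3
  exact C.a_ne (left_eq_add.1 h3)

/-- `X₁` induces all transvections of `T` with centre `a` -/
theorem surj_T (hE : E2 ρ L U) {y : V} (hy : y ∈ U) (hT : b a (g y) = 0) :
    ∃ x ∈ X, D0 ρ U g x ∧ ∀ v ∈ U, b a (g v) = 0 → ρ x v = v + b y (g v) • a := by
  have C := S.cfg
  obtain ⟨β, hβ, hβ1, hβT⟩ := S.exists_beta hE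
  obtain ⟨x, hx, hxd⟩ := C.X_all (b y ∘ₗ g) (by
    show b y (g a) = 0
    rw [S.be_comm hE hy S.a_mem, hT])
  have hxT : ∀ v ∈ U, b a (g v) = 0 → ρ x v = v + b y (g v) • a := fun v hv hvT =>
    hxd v (S.T_D hE hv hvT)
  rcases S.dich hE hx with h0 | h1
  · exact ⟨x, hx, h0, hxT⟩
  · refine ⟨x * β, X.mul_mem hx hβ, S.D1_mul h1 hβ1 hβ, fun v hv hvT => ?_⟩
    rw [C.ρ_mul, hβT v hv hvT, hxT v hv hvT]

end Two

/-- the form `be` -/
def be (b : LinearMap.BilinForm (ZMod 2) V) (g : V →ₗ[ZMod 2] V) (U : Submodule (ZMod 2) V) :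
    LinearMap.BilinForm (ZMod 2) ↥U :=
  LinearMap.mk₂ (ZMod 2) (fun u v : ↥U => b (u : V) (g v))
    (fun u u' v => by simp) (fun c u v => by simp only [_root_.SetLike.val_smul, _root_.map_smul, _root_.LinearMap.smul_apply, _root_.smul_eq_mul]) (fun u v v' => by simp) (fun c u v => by simp only [_root_.SetLike.val_smul, _root_.map_smul, _root_.smul_eq_mul])

theorem be_apply (u v : ↥U) : be b g U u v = b (u : V) (g v) := rfl

/-! ### the group `H₁` -/

/-- the stabiliser of `(U, g)` -/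
def St (S : Two ρ b q a D X w L U g) : Subgroup H where
  carrier := {h | (∀ u ∈ U, ρ h u ∈ U) ∧ (∀ u ∈ U, ρ h⁻¹ u ∈ U) ∧ D0 ρ U g h}
  one_mem' := by
    refine ⟨fun u hu => ?_, fun u hu => ?_, fun u hu => ?_⟩
    · rw [S.cfg.ρ_one]; exact hu
    · rw [inv_one, S.cfg.ρ_one]; exact hu
    · rw [S.cfg.ρ_one, S.cfg.ρ_one]
  mul_mem' := by
    rintro x y ⟨hx1, hx2, hx3⟩ ⟨hy1, hy2, hy3⟩
    refine ⟨fun u hu => ?_, fun u hu => ?_, fun u hu => ?_⟩
    · rw [S.cfg.ρ_mul]; exact hx1 _ (hy1 u hu)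
    · rw [mul_inv_rev, S.cfg.ρ_mul]; exact hy2 _ (hx2 u hu)
    · rw [S.cfg.ρ_mul, hy3 u hu, hx3 _ (hy1 u hu), S.cfg.ρ_mul]
  inv_mem' := by
    rintro x ⟨hx1, hx2, hx3⟩
    refine ⟨hx2, fun u hu => by rw [inv_inv]; exact hx1 u hu, fun u hu => ?_⟩
    apply S.cfg.ρ_inj x
    rw [S.cfg.ρ_apply_inv, hx3 _ (hx2 u hu), S.cfg.ρ_apply_inv]

namespace Two

variable (S : Two ρ b q a D X w L U g)

/-- the restriction to `U` -/
def res : ↥(St S) →* (↥U ≃ₗ[ZMod 2] ↥U) where
  toFun h :=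
    { toFun := fun u => ⟨ρ h u, h.2.1 u u.2⟩
      map_add' := fun u v => Subtype.ext (by simp)
      map_smul' := fun c u => Subtype.ext (by simp)
      invFun := fun u => ⟨ρ (h : H)⁻¹ u, h.2.2.1 u u.2⟩
      left_inv := fun u => Subtype.ext (S.cfg.ρ_inv_apply _ _)
      right_inv := fun u => Subtype.ext (S.cfg.ρ_apply_inv _ _) }
  map_one' := LinearEquiv.ext fun u => Subtype.ext (S.cfg.ρ_one _)
  map_mul' x y := LinearEquiv.ext fun u => Subtype.ext (S.cfg.ρ_mul _ _ _)

theorem res_apply (h : ↥(St S)) (u : ↥U) : ((S.res h) u : V) = ρ h u := rfl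

/-- the elements of `X` in `H₁`, conjugated to `p` -/
def XK (p : ↥U) : Subgroup ↥(St S) where
  carrier := {y | ∀ h : ↥(St S), ρ h a = p → ((h : H)⁻¹ * y * h) ∈ X}
  one_mem' := fun h _ => by
    rw [OneMemClass.coe_one, mul_one, inv_mul_cancel]; exact X.one_mem
  mul_mem' := by
    intro x y hx hy h hh
    have h1 := X.mul_mem (hx h hh) (hy h hh)
    have h2 : (h : H)⁻¹ * x * h * ((h : H)⁻¹ * y * h) = (h : H)⁻¹ * ((x * y : ↥(St S)) : H) * h := by
      rw [Subgroup.coe_mul]; group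
    rwa [h2] at h1
  inv_mem' := by
    intro x hx h hh
    have h1 := X.inv_mem (hx h hh)
    have h2 : ((h : H)⁻¹ * x * h)⁻¹ = (h : H)⁻¹ * ((x⁻¹ : ↥(St S)) : H) * h := by
      rw [Subgroup.coe_inv]; group
    rwa [h2] at h1

/-- one conjugating element is enough -/
theorem mem_XK_of {p : ↥U} {y h₀ : ↥(St S)} (h : ρ h₀ a = p) (hy : ((h₀ : H)⁻¹ * y * h₀) ∈ X) :
    y ∈ S.XK p := by
  have C := S.cfg
  intro k hk
  have h1 : ρ ((k : H)⁻¹ * h₀) a = a := by
    rw [C.ρ_mul, h, ← hk, C.ρ_inv_apply]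
  have h2 := C.X_norm _ h1 _ hy
  have h3 : (k : H)⁻¹ * h₀ * ((h₀ : H)⁻¹ * y * h₀) * ((k : H)⁻¹ * h₀)⁻¹ = (k : H)⁻¹ * y * k := by group
  rwa [h3] at h2

theorem st_iso (h : ↥(St S)) {u v : V} (hv : v ∈ U) : b (ρ h u) (g (ρ h v)) = b u (g v) := by
  rw [← h.2.2.2 v hv, S.cfg.b_inv]

/-- the orbit of `a` -/
def Ob : Set ↥U := {p | ∃ h : ↥(St S), ρ h a = p}

include S in
theorem alt (hE : E2 ρ L U) : Cfsg.Agent.LargeExtra.SiegFam.Lin.Alt (be b g U) := by
  have := S.cfg.finite_V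
  have hfd : FiniteDimensional (ZMod 2) ↥U := Module.Finite.of_finite
  have hself : ∀ v : ↥U, be b g U v v = 0 := fun v => S.be_self hE v.2
  have hnd : ∀ v : ↥U, (∀ u, be b g U v u = 0) → v = 0 := fun v hv =>
    Subtype.ext (S.nondeg_left v.2 fun u hu => hv ⟨u, hu⟩)
  refine ⟨inferInstance, hnd, hself, ?_⟩
  obtain ⟨m, hm⟩ := Cfsg.Agent.ClassicalGeometry.TwoFamilies.exists_finrank_eq_ker_add (be b g U) hself
  have hker : LinearMap.ker (be b g U) = ⊥ := by
    rw [LinearMap.ker_eq_bot']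
    intro v hv
    exact hnd v fun w => by rw [hv]; rfl
  rw [hker, finrank_bot, zero_add] at hm
  exact ⟨m, hm⟩

theorem fam (hE : E2 ρ L U) :
    RowS.SpFam (be b g U) S.res.range S.Ob (fun p => (S.XK p).map S.res) := by
  have C := S.cfg
  have := C.finite_V
  have hfd : FiniteDimensional (ZMod 2) ↥U := Module.Finite.of_finite
  have A := S.alt hE
  -- the elements of `XK p`
  have hXK : ∀ {p : ↥U} {y : ↥(St S)}, y ∈ S.XK p → ∀ h : ↥(St S), ρ h a = p →
      ((h : H)⁻¹ * y * h) ∈ X ∧ D0 ρ U g ((h : H)⁻¹ * y * h) ∧ ∀ v, ρ y v = ρ h (ρ ((h : H)⁻¹ * y * h) (ρ (h : H)⁻¹ v)) := by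
    intro p y hy h hh
    refine ⟨hy h hh, (h⁻¹ * y * h : ↥(St S)).2.2.2, fun v => ?_⟩
    rw [← C.ρ_mul, ← C.ρ_mul]
    congr 2
    group
  refine
    { alt := A
      dim := ?_
      f_H := ?_
      ne := ⟨⟨a, S.a_mem⟩, 1, C.ρ_one a⟩
      zero := ?_
      stable := ?_
      trans := ?_
      X_le := ?_
      X_map := ?_
      X_fix := ?_
      X_perp := ?_
      X_tv := ?_
      X_surj := ?_
      span := ?_ }
  · have h1 : Nat.card ↥U = Nat.card (ZMod 2) ^ finrank (ZMod 2) ↥U := Module.natCard_eq_pow_finrank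
    rw [S.card_U, Nat.card_zmod] at h1
    have h2 := Nat.pow_right_injective (le_refl 2) h1
    have h3 := C.five
    obtain ⟨m, hm⟩ := A.even
    omega
  · rintro _ ⟨h, rfl⟩ u v
    exact S.st_iso h v.2
  · rintro p ⟨h, hh⟩ h0
    rw [h0] at hh
    exact C.a_ne ((LinearEquiv.map_eq_zero_iff _).1 hh)
  · rintro _ ⟨h, rfl⟩ p ⟨k, hk⟩
    exact ⟨h * k, by rw [res_apply, ← hk, Subgroup.coe_mul, C.ρ_mul]⟩
  · rintro p ⟨h, hh⟩ p' ⟨h', hh'⟩
    refine ⟨S.res (h' * h⁻¹), ⟨_, rfl⟩, Subtype.ext ?_⟩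
    rw [res_apply, Subgroup.coe_mul, Subgroup.coe_inv, C.ρ_mul, ← hh, C.ρ_inv_apply, hh']
  · rintro p - _ ⟨y, -, rfl⟩
    exact ⟨y, rfl⟩
  · rintro _ ⟨h, rfl⟩ p ⟨k, hk⟩ _ ⟨y, hy, rfl⟩
    refine ⟨h * y * h⁻¹, ?_, by rw [map_mul, map_mul, map_inv]⟩
    refine S.mem_XK_of (h₀ := h * k) ?_ ?_
    · rw [Subgroup.coe_mul, C.ρ_mul, hk, res_apply]
    · have h1 := hy k hk
      have h2 : (k : H)⁻¹ * y * k = ((h * k : ↥(St S)) : H)⁻¹ * ((h * y * h⁻¹ : ↥(St S)) : H) * ((h * k : ↥(St S)) : H) := by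
        rw [Subgroup.coe_mul, Subgroup.coe_mul, Subgroup.coe_mul, Subgroup.coe_inv]; group
      rwa [h2] at h1
  · rintro p ⟨k, hk⟩ _ ⟨y, hy, rfl⟩
    obtain ⟨h1, h2, h3⟩ := hXK hy k hk
    apply Subtype.ext
    rw [res_apply, h3, ← hk, C.ρ_inv_apply, C.X_a h1]
  · rintro p ⟨k, hk⟩ _ ⟨y, hy, rfl⟩ u hu
    obtain ⟨h1, h2, h3⟩ := hXK hy k hk
    have hku := k.2.2.1 u u.2
    have h4 : b a (g (ρ (k : H)⁻¹ u)) = 0 := by
      rw [← S.st_iso k hku, hk, C.ρ_apply_inv]
      exact hu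
    rcases S.T_X1 hE hku h4 h1 h2 with h5 | h5
    · left
      apply Subtype.ext
      rw [res_apply, h3, C.add_eq_zero.1 h5, C.ρ_apply_inv]
    · right
      apply Subtype.ext
      have h6 : ρ ((k : H)⁻¹ * y * k) (ρ (k : H)⁻¹ u) = a + ρ (k : H)⁻¹ u :=
        (C.add_add_self _ _).symm.trans (congrArg (· + ρ (k : H)⁻¹ (u : V)) h5)
      rw [res_apply, h3, h6, map_add, C.ρ_apply_inv, hk, add_comm]
      rfl
  · rintro p ⟨k, hk⟩ _ ⟨y, hy, rfl⟩ h
    obtain ⟨h1, h2, h3⟩ := hXK hy k hk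
    have h4 : (k : H)⁻¹ * y * k = 1 := by
      apply S.faith_T h1 h2
      intro v hv hT
      have hkv := k.2.1 v hv
      have h5 := h ⟨ρ k v, hkv⟩ (by
        show b (p : V) (g (ρ k v)) = 0
        rw [← hk, S.st_iso k hv, hT])
      have h6 := congrArg Subtype.val h5
      rw [res_apply] at h6
      change ρ y (ρ k v) = ρ k v at h6
      rw [C.ρ_mul, C.ρ_mul, h6, C.ρ_inv_apply]
    have h5 : y = 1 := by
      apply Subtype.ext
      have h6 : (y : H) = k * ((k : H)⁻¹ * y * k) * (k : H)⁻¹ := by group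
      rw [h6, h4]; simp
    rw [h5, map_one]
  · rintro p ⟨k, hk⟩ y hy
    have hky := k.2.2.1 y y.2
    obtain ⟨x, hx, hx0, hxT⟩ := S.surj_T hE hky (by
      rw [← S.st_iso k hky, hk, C.ρ_apply_inv]
      exact hy)
    have hxS : x ∈ St S := ⟨fun u hu => S.X_inv x hx u hu, fun u hu => S.X_inv _ (X.inv_mem hx) u hu, hx0⟩
    refine ⟨S.res (k * ⟨x, hxS⟩ * k⁻¹), ⟨_, ?_, rfl⟩, ?_⟩
    · refine S.mem_XK_of (h₀ := k) hk ?_
      have h2 : (k : H)⁻¹ * (((k * ⟨x, hxS⟩ * k⁻¹ : ↥(St S)) :) : H) * k = x := by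
        rw [Subgroup.coe_mul, Subgroup.coe_mul, Subgroup.coe_inv]; group
      rw [h2]
      exact hx
    · intro u hu
      have hku := k.2.2.1 u u.2
      apply Subtype.ext
      rw [res_apply, Subgroup.coe_mul, Subgroup.coe_mul, Subgroup.coe_inv, C.ρ_mul, C.ρ_mul]
      show ρ k (ρ x (ρ (k : H)⁻¹ u)) = u + b (y : V) (g u) • (p : V)
      rw [hxT _ hku (by rw [← S.st_iso k hku, hk, C.ρ_apply_inv]; exact hu), map_add, map_smul, C.ρ_apply_inv,
        hk, ← S.st_iso k hku, C.ρ_apply_inv, C.ρ_apply_inv]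
  · intro v hv
    -- the annihilator of the orbit is invariant under `L`
    let W : Submodule (ZMod 2) V :=
      { carrier := {v | v ∈ U ∧ ∀ p ∈ S.Ob, b (p : V) (g v) = 0}
        zero_mem' := ⟨U.zero_mem, fun p _ => by rw [map_zero, map_zero]⟩
        add_mem' := by
          rintro u v ⟨hu, hu'⟩ ⟨hv, hv'⟩
          refine ⟨U.add_mem hu hv, fun p hp => ?_⟩
          rw [map_add, map_add, hu' p hp, hv' p hp, add_zero]
        smul_mem' := by
          rintro c v ⟨hv, hv'⟩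
          refine ⟨U.smul_mem c hv, fun p hp => ?_⟩
          rw [map_smul, map_smul, hv' p hp, smul_zero] }
    have hmem : ∀ v, v ∈ W ↔ v ∈ U ∧ ∀ p ∈ S.Ob, b (p : V) (g v) = 0 := fun v => Iff.rfl
    have hLS : ∀ l ∈ L, l ∈ St S := fun l hl =>
      ⟨fun u hu => S.simple.inv l hl u hu, fun u hu => S.simple.inv _ (L.inv_mem hl) u hu,
        fun u hu => (S.g_map l hl u hu).symm⟩
    have hinv : Inv ρ L W := by
      rintro l hl v ⟨hv, hv'⟩
      have hlU := S.simple.inv l hl v hv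
      refine ⟨hlU, ?_⟩
      rintro p ⟨k, hk⟩
      have h1 := hv' ⟨ρ (((⟨l, hLS l hl⟩⁻¹ * k : ↥(St S)) :) : H) a, ((⟨l, hLS l hl⟩⁻¹ * k : ↥(St S)) :).2.1 a S.a_mem⟩
        ⟨_, rfl⟩
      rw [← S.st_iso ⟨l, hLS l hl⟩ hv] at h1
      rw [← h1, ← hk]
      show b (ρ k a) (g (ρ l v)) = b (ρ l (ρ (l⁻¹ * k) a)) (g (ρ l v))
      rw [C.ρ_mul, C.ρ_apply_inv]
    rcases S.simple.min W (fun v hv => hv.1) hinv with h | h
    · have h1 : (v : V) ∈ W := ⟨v.2, hv⟩
      rw [h, Submodule.mem_bot] at h1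
      exact Subtype.ext h1
    · exfalso
      obtain ⟨v₁, hv₁, h1⟩ := S.exists_notT
      rw [← h] at hv₁
      have h2 := hv₁.2 ⟨a, S.a_mem⟩ ⟨1, C.ρ_one a⟩
      rw [h1] at h2
      exact one_ne_zero h2

include S in
/-- **the case `V = U ⊕ g U`, `|End_L(U)| = 2`, is impossible** -/
theorem false_two (hE : E2 ρ L U) : False := by
  have C := S.cfg
  obtain ⟨θ, hθ, -, hθO, -, -⟩ := (S.fam hE).main
  obtain ⟨β, hβ, hβ1, hβT⟩ := S.exists_beta hE
  have hβU : ∀ u ∈ U, ρ β u ∈ U := fun u hu => S.X_inv β hβ u hu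
  have hβg : ∀ u ∈ U, g (ρ β u) = ρ β (g u) + ρ β u := by
    intro u hu
    rw [hβ1 u hu, C.add_add_self]
  -- `β` preserves `be`
  have hβiso : ∀ u ∈ U, ∀ v ∈ U, b (ρ β u) (g (ρ β v)) = b u (g v) := by
    intro u hu v hv
    rw [hβg v hv, map_add, C.b_inv, C.b_inv, S.ti hu hv, add_zero]
  have hβd : ∀ u ∈ U, ρ β u + u = 0 ∨ ρ β u + u = a := by
    intro u hu
    apply S.perp_T (U.add_mem (hβU u hu) hu)
    intro v hv hT
    have h1 := hβiso u hu v hv
    rw [hβT v hv hT] at h1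
    rw [map_add, LinearMap.add_apply, h1]
    exact CharTwo.add_self_eq_zero _
  -- `β` is not trivial on `U`
  obtain ⟨u₁, hu₁, hu₁'⟩ : ∃ u ∈ U, ρ β u ≠ u := by
    by_contra hcon
    push Not at hcon
    have h1 := S.faith β hβ hcon
    have h2 := hβ1 a S.a_mem
    rw [h1, C.ρ_one, C.ρ_one] at h2
    exact C.a_ne (left_eq_add.1 h2)
  have hβ1' : ∀ u ∈ U, b a (g u) = 1 → ρ β u = u + a := by
    intro u hu hu1
    have h1 : b a (g u₁) = 1 := by
      rcases zmod_two (b a (g u₁)) with h | h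
      · exact absurd (hβT u₁ hu₁ h) hu₁'
      · exact h
    have h2 : ρ β u₁ = a + u₁ := by
      rcases hβd u₁ hu₁ with h | h
      · exact absurd (C.add_eq_zero.1 h) hu₁'
      · rw [← h, C.add_add_self]
    have h3 := hβT (u + u₁) (U.add_mem hu hu₁) (by rw [map_add, map_add, hu1, h1]; decide)
    rw [map_add, h2] at h3
    calc ρ β u = ρ β u + (a + u₁) + (a + u₁) := (C.add_add_self _ _).symm
      _ = u + u₁ + (a + u₁) := by rw [h3]
      _ = u + a + u₁ + u₁ := by abel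
      _ = u + a := C.add_add_self _ _
  -- a vector `v` of the orbit with `be a v = 1`
  obtain ⟨v, hv, hav⟩ : ∃ v ∈ S.Ob, b a (g (v : V)) = 1 := by
    by_contra hcon
    push Not at hcon
    apply C.a_ne
    have h1 := (S.fam hE).span ⟨a, S.a_mem⟩ (fun p hp => by
      rw [be_apply]
      show b (p : V) (g a) = 0
      rw [S.be_comm hE p.2 S.a_mem]
      rcases zmod_two (b a (g (p : V))) with h | h
      · exact h
      · exact absurd h (hcon p hp))
    exact congrArg Subtype.val h1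
  -- `v + a` is in the orbit
  have hva : v + ⟨a, S.a_mem⟩ ∈ S.Ob := by
    obtain ⟨k, hk⟩ := hv
    have hinvβ : β⁻¹ = β := C.X_inv hβ
    have hk' : β * k * β⁻¹ ∈ St S := by
      refine ⟨fun u hu => ?_, fun u hu => ?_, fun u hu => ?_⟩
      · rw [hinvβ, C.ρ_mul, C.ρ_mul]
        exact hβU _ (k.2.1 _ (hβU u hu))
      · have h1 : (β * k * β⁻¹)⁻¹ = β * (k : H)⁻¹ * β := by
          rw [mul_inv_rev, mul_inv_rev, inv_inv, hinvβ, mul_assoc]
        rw [h1, C.ρ_mul, C.ρ_mul]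
        exact hβU _ (k.2.2.1 _ (hβU u hu))
      · rw [hinvβ, C.ρ_mul, C.ρ_mul, hβ1 u hu, map_add, map_add, k.2.2.2 _ (hβU u hu),
          hβ1 _ (k.2.1 _ (hβU u hu)), C.ρ_mul, C.ρ_mul, C.add_add_self]
    refine ⟨⟨_, hk'⟩, ?_⟩
    show ρ (β * k * β⁻¹) a = v + a
    rw [hinvβ, C.ρ_mul, C.ρ_mul, C.X_a hβ, hk, hβ1' v v.2 hav]
  have hva0 := ((hθO _).1 hva).2
  have hv0 := ((hθO v).1 hv).2
  have ha0 := ((hθO ⟨a, S.a_mem⟩).1 ⟨1, C.ρ_one a⟩).2
  rw [hθ, hv0, ha0, zero_add, zero_add, be_apply] at hva0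
  change b (v : V) (g a) = 0 at hva0
  rw [S.be_comm hE v.2 S.a_mem, hav] at hva0
  exact one_ne_zero hva0

end Two

end Cfsg.Agent.Omega.EH3.Irr

end

-- merged: Cfsg.Agent.Omega.EH3.Irr.Four
section

/-!
# THEOREM IRR of EH3: `V = U ⊕ g U`, `|End_L(U)| = 4` is impossible (helper737)

`E = {0, 1, ω, ω + 1}`; `X_0` = the stabiliser of `ω a` in `X`, of index 2; `C_V(X_0) = E a`;
`x (g u) = g (x u) + d_x (x u)` for `x ∈ X_0`, `d_x ∈ E`; `T := {u ∈ U : g u, g (ω u) ⟂ a}` has index at most 4 in `U`;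
`[T, X_0] = 0` and `d_x T ≤ E a`; some `d_x` is not zero, so `|U| ≤ 16`.
-/

set_option autoImplicit false

namespace Cfsg.Agent.Omega.EH3.Irr

open Module

variable {H V : Type*} [Group H] [AddCommGroup V] [Module (ZMod 2) V]
  {ρ : H →* (V ≃ₗ[ZMod 2] V)} {b : LinearMap.BilinForm (ZMod 2) V} {q : V → ZMod 2}
  {a : V} {D : Submodule (ZMod 2) V} {X : Subgroup H} {w : ℕ} {L : Subgroup H} {U : Submodule (ZMod 2) V}
  {g ω : V →ₗ[ZMod 2] V}

namespace Four

/-- `e ∈ {0, 1, ω, ω + 1}` on `U` -/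
def InE (U : Submodule (ZMod 2) V) (ω e : V →ₗ[ZMod 2] V) : Prop :=
  (∀ u ∈ U, e u = 0) ∨ (∀ u ∈ U, e u = u) ∨ (∀ u ∈ U, e u = ω u) ∨ (∀ u ∈ U, e u = ω u + u)

theorem wa_ne_zero (S : Base ρ b q a D X w L U) (h : E4 ρ L U ω) : ω a ≠ 0 := by
  intro h0
  have h1 := h.sq a S.a_mem
  rw [h0, map_zero, zero_add] at h1
  exact S.cfg.a_ne h1.symm

theorem wa_ne_a (S : Base ρ b q a D X w L U) (h : E4 ρ L U ω) : ω a ≠ a := by
  intro h0
  have h1 := h.sq a S.a_mem
  rw [h0, h0, S.cfg.add_self] at h1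
  exact S.cfg.a_ne h1

/-- `x (ω a) = ω a` or `ω a + a` -/
theorem x_wa (S : Base ρ b q a D X w L U) (h : E4 ρ L U ω) {x : H} (hx : x ∈ X) :
    ρ x (ω a) = ω a ∨ ρ x (ω a) = ω a + a := by
  have hm := S.cj_map h.map hx
  have hU : ∀ u ∈ U, cj ρ x ω u ∈ U := fun u hu => by
    rw [cj_apply]
    exact S.X_inv x hx _ (h.mem _ (S.X_inv _ (X.inv_mem hx) u hu))
  have e := S.cj_a hx ω
  rcases h.all _ hm hU with h1 | h1 | h1 | h1
  · exfalso
    have h2 := h1 a S.a_mem
    rw [e] at h2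
    exact wa_ne_zero S h (S.cfg.ρ_inj x (by rw [h2, map_zero]))
  · exfalso
    have h2 := h1 a S.a_mem
    rw [e] at h2
    exact wa_ne_a S h (S.cfg.ρ_inj x (by rw [h2, S.cfg.X_a hx]))
  · left; rw [← e, h1 a S.a_mem]
  · right; rw [← e, h1 a S.a_mem]

/-- `X_0` commutes with `ω` on `U` -/
theorem comm (S : Base ρ b q a D X w L U) (h : E4 ρ L U ω) {x : H} (hx : x ∈ X)
    (h0 : ρ x (ω a) = ω a) : ∀ u ∈ U, ω (ρ x u) = ρ x (ω u) := by
  have h1 := S.eq_of_a (S.cj_map h.map hx) h.map (by rw [S.cj_a hx, h0])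
  intro u hu
  have h2 := h1 (ρ x u) (S.X_inv x hx u hu)
  rw [cj_apply, S.cfg.ρ_inv_apply] at h2
  exact h2.symm

theorem exists_x1 (S : Base ρ b q a D X w L U) (h : E4 ρ L U ω) :
    ∃ x ∈ X, ρ x (ω a) = ω a + a := by
  by_contra hcon
  push Not at hcon
  rcases S.cfg.fix_X (v := ω a) (fun x hx => (x_wa S h hx).resolve_right (hcon x hx)) with h1 | h1
  · exact wa_ne_zero S h h1
  · exact wa_ne_a S h h1

/-- `C_V(X_0) = {0, a, ω a, ω a + a}` -/
theorem fix0 (S : Base ρ b q a D X w L U) (h : E4 ρ L U ω) {v : V}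
    (hv : ∀ x ∈ X, ρ x (ω a) = ω a → ρ x v = v) :
    v = 0 ∨ v = a ∨ v = ω a ∨ v = ω a + a := by
  obtain ⟨x₁, hx₁, h1⟩ := exists_x1 S h
  have C := S.cfg
  have key : ∀ v : V, (∀ x ∈ X, ρ x (ω a) = ω a → ρ x v = v) → ρ x₁ v = v → v = 0 ∨ v = a := by
    intro v hv h2
    apply C.fix_X
    intro x hx
    rcases x_wa S h hx with h3 | h3
    · exact hv x hx h3
    · have h4 : ρ (x * x₁) (ω a) = ω a := by
        rw [C.ρ_mul, h1, map_add, h3, C.X_a hx, add_assoc, C.add_self, add_zero]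
      have h5 := hv _ (X.mul_mem hx hx₁) h4
      rw [C.ρ_mul, h2] at h5
      exact h5
  have h2 : ρ x₁ v + v = 0 ∨ ρ x₁ v + v = a := by
    apply key
    · intro x hx h3
      rw [map_add, ← C.ρ_mul, C.X_comm hx hx₁, C.ρ_mul, hv x hx h3]
    · exact C.X_fix_delta hx₁ v
  rcases h2 with h2 | h2
  · rcases key v hv (C.add_eq_zero.1 h2) with h3 | h3
    · exact Or.inl h3
    · exact Or.inr (Or.inl h3)
  · have h3 : v + ω a = 0 ∨ v + ω a = a := by
      apply key
      · intro x hx h4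
        rw [map_add, hv x hx h4, h4]
      · have h4 : ρ x₁ v = a + v := by rw [← h2, C.add_add_self]
        rw [map_add, h1, h4]
        have : a + v + (ω a + a) = v + ω a + (a + a) := by abel
        rw [this, C.add_self, add_zero]
    rcases h3 with h3 | h3
    · exact Or.inr (Or.inr (Or.inl (C.add_eq_zero.1 h3)))
    · refine Or.inr (Or.inr (Or.inr ?_))
      have h4 := C.add_add_self v (ω a)
      rw [h3] at h4
      rw [← h4, add_comm]

theorem fix0_mem (S : Base ρ b q a D X w L U) (h : E4 ρ L U ω) {v : V}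
    (hv : ∀ x ∈ X, ρ x (ω a) = ω a → ρ x v = v) : v ∈ U := by
  rcases fix0 S h hv with h1 | h1 | h1 | h1
  · rw [h1]; exact U.zero_mem
  · rw [h1]; exact S.a_mem
  · rw [h1]; exact h.mem a S.a_mem
  · rw [h1]; exact U.add_mem (h.mem a S.a_mem) S.a_mem

section InE

variable {e : V →ₗ[ZMod 2] V}

theorem InE.mem (S : Base ρ b q a D X w L U) (h : E4 ρ L U ω) (he : InE U ω e) {u : V} (hu : u ∈ U) :
    e u ∈ U := by
  have := S.a_mem
  rcases he with h1 | h1 | h1 | h1
  · rw [h1 u hu]; exact U.zero_mem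
  · rw [h1 u hu]; exact hu
  · rw [h1 u hu]; exact h.mem u hu
  · rw [h1 u hu]; exact U.add_mem (h.mem u hu) hu

theorem InE.commX (S : Base ρ b q a D X w L U) (h : E4 ρ L U ω) (he : InE U ω e) {x : H} (hx : x ∈ X)
    (h0 : ρ x (ω a) = ω a) {u : V} (hu : u ∈ U) : e (ρ x u) = ρ x (e u) := by
  have hxu := S.X_inv x hx u hu
  have hc := comm S h hx h0 u hu
  rcases he with h1 | h1 | h1 | h1
  · rw [h1 u hu, h1 _ hxu, map_zero]
  · rw [h1 u hu, h1 _ hxu]
  · rw [h1 u hu, h1 _ hxu, hc]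
  · rw [h1 u hu, h1 _ hxu, hc, map_add]

theorem InE.commω (h : E4 ρ L U ω) (he : InE U ω e) {u : V} (hu : u ∈ U) : e (ω u) = ω (e u) := by
  have hxu := h.mem u hu
  rcases he with h1 | h1 | h1 | h1
  · rw [h1 u hu, h1 _ hxu, map_zero]
  · rw [h1 u hu, h1 _ hxu]
  · rw [h1 u hu, h1 _ hxu]
  · rw [h1 u hu, h1 _ hxu, map_add]

theorem ω_inj (h : E4 ρ L U ω) {u : V} (hu : u ∈ U) (h0 : ω u = 0) : u = 0 := by
  have h1 := h.sq u hu
  rw [h0, map_zero, zero_add] at h1
  exact h1.symm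

theorem InE.inj (S : Base ρ b q a D X w L U) (h : E4 ρ L U ω) (he : InE U ω e)
    (hne : ∃ u ∈ U, e u ≠ 0) {u : V} (hu : u ∈ U) (h0 : e u = 0) : u = 0 := by
  obtain ⟨u₀, hu₀, hne⟩ := hne
  rcases he with h1 | h1 | h1 | h1
  · exact absurd (h1 u₀ hu₀) hne
  · rw [← h1 u hu]; exact h0
  · exact ω_inj h hu (by rw [← h1 u hu]; exact h0)
  · rw [h1 u hu, S.cfg.add_eq_zero] at h0
    have h2 := h.sq u hu
    rw [h0, h0, S.cfg.add_self] at h2
    exact h2

theorem InE.id_of_sq (S : Base ρ b q a D X w L U) (h : E4 ρ L U ω) (he : InE U ω e)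
    (hsq : e (e a) = a) : ∀ u ∈ U, e u = u := by
  have ha := S.a_mem
  have hwa := h.mem a ha
  rcases he with h1 | h1 | h1 | h1
  · exfalso
    rw [h1 a ha, map_zero] at hsq
    exact S.cfg.a_ne hsq.symm
  · exact h1
  · exfalso
    rw [h1 a ha, h1 _ hwa, h.sq a ha, add_eq_right] at hsq
    exact wa_ne_zero S h hsq
  · exfalso
    have h2 := h1 a ha
    rw [h2, h1 _ (U.add_mem hwa ha), map_add, h.sq a ha] at hsq
    have h3 : ω a + a + ω a + (ω a + a) = ω a + ((ω a + ω a) + (a + a)) := by abel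
    rw [h3, S.cfg.add_self, S.cfg.add_self, add_zero, add_zero] at hsq
    exact wa_ne_a S h hsq

end InE

/-- `x (g u) = g (x u) + d_x (x u)` -/
theorem exists_d (S : Two ρ b q a D X w L U g) (h : E4 ρ L U ω) {x : H} (hx : x ∈ X)
    (h0 : ρ x (ω a) = ω a) :
    ∃ d : V →ₗ[ZMod 2] V, InE U ω d ∧ ∀ u ∈ U, ρ x (g u) = d (ρ x u) + g (ρ x u) := by
  have C := S.cfg
  obtain ⟨d, e, hd, he, hdU, heU, hde⟩ := S.exists_dec (S.toBase.cj_map S.g_map hx)
  have hdE : InE U ω d := h.all d hd hdU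
  have heE : InE U ω e := h.all e he heU
  have h1 : ∀ u ∈ U, ρ x (g u) = d (ρ x u) + g (e (ρ x u)) := by
    intro u hu
    rw [← hde, cj_apply, C.ρ_inv_apply]
  have ha := S.a_mem
  have h2 : e (e a) = a := by
    have h3 := h1 a ha
    rw [C.X_a hx] at h3
    have h4 : ρ x (ρ x (g a)) = g a := S.toBase.xx hx _
    rw [h3, map_add, h1 _ (heU a ha), ← heE.commX S.toBase h hx h0 ha, C.X_a hx] at h4
    have h5 : (ρ x (d a) + d (e a)) + g (e (e a)) = 0 + g a := by rw [zero_add, ← h4]; abel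
    exact (S.uniq (U.add_mem (S.X_inv x hx _ (hdU a ha)) (hdU _ (heU a ha))) (heU _ (heU a ha)) U.zero_mem
      ha h5).2
  have h3 := heE.id_of_sq S.toBase h h2
  refine ⟨d, hdE, fun u hu => ?_⟩
  rw [h1 u hu, h3 _ (S.X_inv x hx u hu)]

/-- `[g u, x, y]` -/
theorem comm_two (S : Two ρ b q a D X w L U g) (h : E4 ρ L U ω) {x y : H} (hx : x ∈ X) (hy : y ∈ X)
    (h0y : ρ y (ω a) = ω a) {d e : V →ₗ[ZMod 2] V} (hd : InE U ω d)
    (hde : ∀ u ∈ U, ρ x (g u) = d (ρ x u) + g (ρ x u))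
    (hee : ∀ u ∈ U, ρ y (g u) = e (ρ y u) + g (ρ y u)) {u : V} (hu : u ∈ U) :
    ρ y (ρ x (g u) + g u) + (ρ x (g u) + g u) =
      (e (ρ y (ρ x u + u)) + d (ρ y (ρ x u) + ρ x u)) + g (ρ y (ρ x u + u) + (ρ x u + u)) := by
  have C := S.cfg
  have hxu := S.X_inv x hx u hu
  have hyu := S.X_inv y hy u hu
  have hyxu := S.X_inv y hy _ hxu
  rw [hde u hu]
  have h1 : ρ y (d (ρ x u) + g (ρ x u) + g u) =
      d (ρ y (ρ x u)) + (e (ρ y (ρ x u)) + g (ρ y (ρ x u))) + (e (ρ y u) + g (ρ y u)) := by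
    rw [map_add, map_add, ← hd.commX S.toBase h hy h0y hxu, hee _ hxu, hee _ hu]
  rw [h1]
  simp only [map_add]
  abel

/-- the commutator of `g u`, `g u ⟂ a`, with `x`, `y` -/
theorem two_step (C : Cfg ρ b q a D X w) {x y : H} (hx : x ∈ X) (hy : y ∈ X) {v : V} (hv : b a v = 0) :
    ρ y (ρ x v + v) + (ρ x v + v) = 0 ∨ ρ y (ρ x v + v) + (ρ x v + v) = a := by
  rcases C.X_D y hy _ (C.X_perp x hx v hv) with h | h
  · left; rw [h, C.add_self]
  · right
    rw [h, add_right_comm, C.add_self, zero_add]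

/-- `[u, x] = 0` and `d_x u ∈ C_V(X_0)` for `u ∈ T` -/
theorem main (S : Two ρ b q a D X w L U g) (h : E4 ρ L U ω) {x : H} (hx : x ∈ X)
    (h0x : ρ x (ω a) = ω a) {d : V →ₗ[ZMod 2] V} (hd : InE U ω d)
    (hde : ∀ u ∈ U, ρ x (g u) = d (ρ x u) + g (ρ x u)) {u : V} (hu : u ∈ U)
    (h1 : b a (g u) = 0) (h2 : b a (g (ω u)) = 0) :
    d u = 0 ∨ d u = a ∨ d u = ω a ∨ d u = ω a + a := by
  have C := S.cfg
  have ha := S.a_mem
  have hxu := S.X_inv x hx u hu
  have hwu := h.mem u hu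
  have hxwu := S.X_inv x hx _ hwu
  -- `[g u, x]` is fixed by `X_0`
  have hfix : ∀ y ∈ X, ρ y (ω a) = ω a → ρ y (ρ x (g u) + g u) = ρ x (g u) + g u := by
    intro y hy h0y
    obtain ⟨e, he, hee⟩ := exists_d S h hy h0y
    have f1 := comm_two S h hx hy h0y hd hde hee hu
    have f2 := comm_two S h hx hy h0y hd hde hee hwu
    have m0 : ∀ v ∈ U, ρ x v + v ∈ U := fun v hv => U.add_mem (S.X_inv x hx v hv) hv
    have m1 : ∀ v ∈ U, ρ y v ∈ U := fun v hv => S.X_inv y hy v hv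
    have m2 : ∀ v ∈ U, e (ρ y (ρ x v + v)) + d (ρ y (ρ x v) + ρ x v) ∈ U := fun v hv =>
      U.add_mem (he.mem S.toBase h (m1 _ (m0 v hv)))
        (hd.mem S.toBase h (U.add_mem (m1 _ (S.X_inv x hx v hv)) (S.X_inv x hx v hv)))
    have m3 : ∀ v ∈ U, ρ y (ρ x v + v) + (ρ x v + v) ∈ U := fun v hv =>
      U.add_mem (m1 _ (m0 v hv)) (m0 v hv)
    -- the `U`-components
    have g1 : e (ρ y (ρ x u + u)) + d (ρ y (ρ x u) + ρ x u) = 0 ∨
        e (ρ y (ρ x u + u)) + d (ρ y (ρ x u) + ρ x u) = a := by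
      rcases two_step C hx hy h1 with k | k
      · left
        rw [f1] at k
        exact (S.uniq (m2 u hu) (m3 u hu) U.zero_mem U.zero_mem (by rw [k, map_zero, add_zero])).1
      · right
        rw [f1] at k
        exact (S.uniq (m2 u hu) (m3 u hu) ha U.zero_mem (by rw [k, map_zero, add_zero])).1
    have g1' : ρ y (ρ x u + u) + (ρ x u + u) = 0 := by
      rcases two_step C hx hy h1 with k | k
      · rw [f1] at k
        exact (S.uniq (m2 u hu) (m3 u hu) U.zero_mem U.zero_mem (by rw [k, map_zero, add_zero])).2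
      · rw [f1] at k
        exact (S.uniq (m2 u hu) (m3 u hu) ha U.zero_mem (by rw [k, map_zero, add_zero])).2
    have g2 : e (ρ y (ρ x (ω u) + ω u)) + d (ρ y (ρ x (ω u)) + ρ x (ω u)) = 0 ∨
        e (ρ y (ρ x (ω u) + ω u)) + d (ρ y (ρ x (ω u)) + ρ x (ω u)) = a := by
      rcases two_step C hx hy h2 with k | k
      · left
        rw [f2] at k
        exact (S.uniq (m2 _ hwu) (m3 _ hwu) U.zero_mem U.zero_mem (by rw [k, map_zero, add_zero])).1
      · right
        rw [f2] at k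
        exact (S.uniq (m2 _ hwu) (m3 _ hwu) ha U.zero_mem (by rw [k, map_zero, add_zero])).1
    -- the second is `ω` times the first
    have g3 : e (ρ y (ρ x (ω u) + ω u)) + d (ρ y (ρ x (ω u)) + ρ x (ω u)) =
        ω (e (ρ y (ρ x u + u)) + d (ρ y (ρ x u) + ρ x u)) := by
      have k1 : ρ x (ω u) = ω (ρ x u) := (comm S.toBase h hx h0x u hu).symm
      have k2 : ρ y (ω (ρ x u)) = ω (ρ y (ρ x u)) := (comm S.toBase h hy h0y _ hxu).symm
      have k3 : ρ y (ω (ρ x u + u)) = ω (ρ y (ρ x u + u)) := (comm S.toBase h hy h0y _ (m0 u hu)).symm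
      rw [k1, k2, ← map_add ω, ← map_add ω, k3, he.commω h (m1 _ (m0 u hu)),
        hd.commω h (U.add_mem (m1 _ hxu) hxu), ← map_add ω]
    rw [g3] at g2
    have g4 : e (ρ y (ρ x u + u)) + d (ρ y (ρ x u) + ρ x u) = 0 := by
      rcases g1 with k | k
      · exact k
      · exfalso
        rw [k] at g2
        rcases g2 with k' | k'
        · exact wa_ne_zero S.toBase h k'
        · exact wa_ne_a S.toBase h k'
    rw [g4, g1', map_zero, add_zero] at f1
    exact C.add_eq_zero.1 f1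
  have hmem := fix0_mem S.toBase h hfix
  have h3 : ρ x (g u) + g u = d (ρ x u) + g (ρ x u + u) := by
    rw [hde u hu, map_add]; abel
  have h4 : ρ x u + u = 0 := by
    apply S.g_inj _ (U.add_mem hxu hu)
    rw [h3] at hmem
    exact (U.add_mem_iff_right (hd.mem S.toBase h hxu)).1 hmem
  have h5 : ρ x u = u := C.add_eq_zero.1 h4
  have h6 : ρ x (g u) + g u = d u := by
    rw [h3, h4, map_zero, add_zero, h5]
  rw [← h6]
  exact fix0 S.toBase h hfix

end Four

/-- **`V = U ⊕ g U`, `|End_L(U)| = 4` is impossible** -/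
theorem Two.false_four (S : Two ρ b q a D X w L U g) {ω : V →ₗ[ZMod 2] V} (h : E4 ρ L U ω) : False := by
  classical
  have C := S.cfg
  have hVf := C.finite_V
  have ha := S.a_mem
  -- some `d_x` is not zero
  obtain ⟨x, hx, h0x, d, hd, hde, hne⟩ : ∃ x ∈ X, ρ x (ω a) = ω a ∧ ∃ d : V →ₗ[ZMod 2] V, Four.InE U ω d ∧
      (∀ u ∈ U, ρ x (g u) = d (ρ x u) + g (ρ x u)) ∧ ∃ u ∈ U, d u ≠ 0 := by
    by_contra hcon
    push Not at hcon
    apply C.a_ne
    apply S.g_inj a ha
    apply Four.fix0_mem S.toBase h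
    intro x hx h0x
    obtain ⟨d, hd, hde⟩ := Four.exists_d S h hx h0x
    have h1 := hcon x hx h0x d hd hde a ha
    rw [hde a ha, C.X_a hx, h1, zero_add]
  -- the map to `F_2 × F_2`
  let φ : U →ₗ[ZMod 2] (ZMod 2 × ZMod 2) :=
    LinearMap.prod ((b a ∘ₗ g) ∘ₗ U.subtype) ((b a ∘ₗ g ∘ₗ ω) ∘ₗ U.subtype)
  have hφ : ∀ u : U, u ∈ LinearMap.ker φ → b a (g u) = 0 ∧ b a (g (ω u)) = 0 := by
    intro u hu
    rw [LinearMap.mem_ker] at hu
    exact ⟨congrArg Prod.fst hu, congrArg Prod.snd hu⟩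
  have hmain : ∀ u : U, u ∈ LinearMap.ker φ →
      d u ∈ (({0, a, ω a, ω a + a} : Finset V) : Set V) := by
    intro u hu
    obtain ⟨h1, h2⟩ := hφ u hu
    have := Four.main S h hx h0x hd hde u.2 h1 h2
    simpa only [_root_.Finset.coe_insert, _root_.Finset.coe_singleton, _root_.Set.mem_insert_iff, _root_.Set.mem_singleton_iff] using this
  have hker : Nat.card (LinearMap.ker φ) ≤ 4 := by
    calc Nat.card (LinearMap.ker φ) ≤ Nat.card (({0, a, ω a, ω a + a} : Finset V) : Set V) := by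
          apply Nat.card_le_card_of_injective
            (fun u : LinearMap.ker φ => (⟨d (u : U), hmain u u.2⟩ : (({0, a, ω a, ω a + a} : Finset V) : Set V)))
          intro u v huv
          have h1 : d ((u : U) : V) = d ((v : U) : V) := congrArg Subtype.val huv
          apply Subtype.ext
          apply Subtype.ext
          rw [← sub_eq_zero]
          apply hd.inj S.toBase h hne (U.sub_mem u.1.2 v.1.2)
          rw [map_sub, h1, sub_self]
      _ ≤ 4 := by
          rw [Nat.card_eq_fintype_card]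
          simp only [Finset.coe_sort_coe, Fintype.card_coe]
          exact Finset.card_le_four
  have hquot : Nat.card (U ⧸ LinearMap.ker φ) ≤ 4 := by
    rw [Nat.card_congr φ.quotKerEquivRange.toEquiv]
    calc Nat.card (LinearMap.range φ) ≤ Nat.card (ZMod 2 × ZMod 2) :=
          Nat.card_le_card_of_injective _ Subtype.val_injective
      _ = 4 := by rw [Nat.card_prod, Nat.card_zmod]
  have hcard := Submodule.card_eq_card_quotient_mul_card (LinearMap.ker φ)
  have h16 := S.card_gt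
  have : Nat.card U ≤ 16 := by
    rw [hcard]
    calc _ ≤ 4 * 4 := Nat.mul_le_mul (by assumption) (by assumption)
      _ = 16 := by norm_num
  omega

end Cfsg.Agent.Omega.EH3.Irr

end

-- merged: Cfsg.Agent.Omega.EH3.Irr.Shape
section

/-!
# THEOREM IRR of EH3, part (3): `End_L(V)` is `F_2` or `F_4` (helper616, for helper807)

`shape` : `L` normal in `H`, `V|L` irreducible.  Then `End_L(V) = {0, 1}`, or `End_L(V) = {0, 1, ζ, ζ + 1}` with
`ζ² = ζ + 1`, every `h ∈ H` is linear or semilinear for `ζ`, and `ζ` is self-adjoint or `ζ* = ζ + 1`.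
-/

set_option autoImplicit false

namespace Cfsg.Agent.Omega.EH3.Irr.Shape

variable {H V : Type*} [Group H] [AddCommGroup V] [Module (ZMod 2) V]
  {ρ : H →* (V ≃ₗ[ZMod 2] V)} {b : LinearMap.BilinForm (ZMod 2) V} {q : V → ZMod 2}
  {a : V} {D : Submodule (ZMod 2) V} {X : Subgroup H} {w : ℕ} {L : Subgroup H}

/-- `f` commutes with `L` -/
def Cm (ρ : H →* (V ≃ₗ[ZMod 2] V)) (L : Subgroup H) (f : V →ₗ[ZMod 2] V) : Prop :=
  ∀ l ∈ L, ∀ v, f (ρ l v) = ρ l (f v)

/-- the commutant -/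
def E (ρ : H →* (V ≃ₗ[ZMod 2] V)) (L : Subgroup H) : Subring (Module.End (ZMod 2) V) where
  carrier := {f | Cm ρ L f}
  mul_mem' := fun {f g} hf hg l hl v => by
    show f (g (ρ l v)) = ρ l (f (g v))
    rw [hg l hl, hf l hl]
  one_mem' := fun l _ v => rfl
  add_mem' := fun {f g} hf hg l hl v => by
    show f (ρ l v) + g (ρ l v) = ρ l (f v + g v)
    rw [hf l hl, hg l hl, map_add]
  zero_mem' := fun l _ v => by
    show (0 : V) = ρ l 0
    rw [map_zero]
  neg_mem' := fun {f} hf l hl v => by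
    show -(f (ρ l v)) = ρ l (-(f v))
    rw [hf l hl, map_neg]

theorem mem_E {f : Module.End (ZMod 2) V} : f ∈ E ρ L ↔ ∀ l ∈ L, ∀ v, f (ρ l v) = ρ l (f v) :=
  Iff.rfl

/-- irreducibility of `V|L` -/
def Ir (ρ : H →* (V ≃ₗ[ZMod 2] V)) (L : Subgroup H) : Prop :=
  ∀ W : Submodule (ZMod 2) V, (∀ l ∈ L, ∀ v ∈ W, ρ l v ∈ W) → W = ⊥ ∨ W = ⊤

theorem injective (hirr : Ir ρ L) {f : V →ₗ[ZMod 2] V} (hf : Cm ρ L f) (h0 : f ≠ 0) {v : V}
    (hv : f v = 0) : v = 0 := by
  rcases hirr (LinearMap.ker f) (fun l hl u hu => by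
    rw [LinearMap.mem_ker] at hu ⊢
    rw [hf l hl, hu, map_zero]) with h | h
  · have : v ∈ LinearMap.ker f := hv
    rw [h] at this
    exact this
  · exfalso
    exact h0 (LinearMap.ker_eq_top.1 h)

theorem add_self_E (C : Cfg ρ b q a D X w) (x : E ρ L) : x + x = 0 := by
  apply Subtype.ext
  apply LinearMap.ext
  intro v
  exact C.add_self _

theorem isDomain (C : Cfg ρ b q a D X w) (hirr : Ir ρ L) : (IsDomain (E ρ L) :) := by
  have : Nontrivial (E ρ L) := ⟨⟨0, 1, fun h => by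
    have h1 : (0 : Module.End (ZMod 2) V) a = (1 : Module.End (ZMod 2) V) a :=
      congrArg (fun x : E ρ L => (x : Module.End (ZMod 2) V) a) h
    exact C.a_ne h1.symm⟩⟩
  have : (NoZeroDivisors (E ρ L) :) := ⟨fun {x y} h => by
    by_contra hcon
    push Not at hcon
    obtain ⟨hx, hy⟩ := hcon
    have hx' : (x : Module.End (ZMod 2) V) ≠ 0 := fun h => hx (Subtype.ext h)
    have hy' : (y : Module.End (ZMod 2) V) ≠ 0 := fun h => hy (Subtype.ext h)
    apply C.a_ne
    have h1 : (x : Module.End (ZMod 2) V) ((y : Module.End (ZMod 2) V) a) = 0 := by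
      have := congrArg (fun x : E ρ L => (x : Module.End (ZMod 2) V) a) h
      exact this
    exact injective hirr y.2 hy' (injective hirr x.2 hx' h1)⟩
  exact NoZeroDivisors.to_isDomain _

theorem conj_mem (C : Cfg ρ b q a D X w) (hL : L.Normal) (h : H) {f : Module.End (ZMod 2) V}
    (hf : f ∈ E ρ L) :
    ((ρ h : V →ₗ[ZMod 2] V) ∘ₗ f ∘ₗ (ρ h⁻¹ : V →ₗ[ZMod 2] V) : Module.End (ZMod 2) V) ∈ E ρ L := by
  intro l hl v
  show ρ h (f (ρ h⁻¹ (ρ l v))) = ρ l (ρ h (f (ρ h⁻¹ v)))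
  have h1 : h⁻¹ * l * h ∈ L := by
    have := hL.conj_mem l hl h⁻¹
    rwa [inv_inv] at this
  have h2 : ρ h⁻¹ (ρ l v) = ρ (h⁻¹ * l * h) (ρ h⁻¹ v) := by
    rw [← C.ρ_mul, ← C.ρ_mul]
    congr 2
    group
  rw [h2, hf _ h1, ← C.ρ_mul, ← C.ρ_mul]
  congr 2
  group

/-- conjugation by `h` on the commutant -/
def sg (C : Cfg ρ b q a D X w) (hL : L.Normal) (h : H) : E ρ L ≃+* E ρ L where
  toFun f := ⟨_, conj_mem C hL h f.2⟩
  invFun f := ⟨_, conj_mem C hL h⁻¹ f.2⟩
  left_inv f := by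
    apply Subtype.ext
    apply LinearMap.ext
    intro v
    show ρ h⁻¹ (ρ h ((f : Module.End (ZMod 2) V) (ρ h⁻¹ (ρ h⁻¹⁻¹ v)))) = _
    rw [C.ρ_inv_apply, inv_inv, C.ρ_inv_apply]
  right_inv f := by
    apply Subtype.ext
    apply LinearMap.ext
    intro v
    show ρ h (ρ h⁻¹ ((f : Module.End (ZMod 2) V) (ρ h⁻¹⁻¹ (ρ h⁻¹ v)))) = _
    rw [C.ρ_apply_inv, inv_inv, C.ρ_apply_inv]
  map_mul' f g := by
    apply Subtype.ext
    apply LinearMap.ext
    intro v
    show ρ h ((f : Module.End (ZMod 2) V) ((g : Module.End (ZMod 2) V) (ρ h⁻¹ v))) =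
      ρ h ((f : Module.End (ZMod 2) V) (ρ h⁻¹ (ρ h ((g : Module.End (ZMod 2) V) (ρ h⁻¹ v)))))
    rw [C.ρ_inv_apply]
  map_add' f g := by
    apply Subtype.ext
    apply LinearMap.ext
    intro v
    show ρ h ((f : Module.End (ZMod 2) V) (ρ h⁻¹ v) + (g : Module.End (ZMod 2) V) (ρ h⁻¹ v)) = _
    rw [map_add]
    rfl

theorem sg_apply (C : Cfg ρ b q a D X w) (hL : L.Normal) (h : H) (f : E ρ L) (v : V) :
    (sg C hL h f : Module.End (ZMod 2) V) v = ρ h ((f : Module.End (ZMod 2) V) (ρ h⁻¹ v)) := rfl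

theorem sg_sg (C : Cfg ρ b q a D X w) (hL : L.Normal) (x : X) (f : E ρ L) :
    sg C hL (x : H) (sg C hL (x : H) f) = f := by
  apply Subtype.ext
  apply LinearMap.ext
  intro v
  rw [sg_apply, sg_apply, C.X_inv x.2, ← C.ρ_mul, ← C.ρ_mul, C.X_sq x x.2, C.ρ_one, C.ρ_one]

/-- the elements commuting with `X` are `0` and `1` -/
theorem fix_eq (C : Cfg ρ b q a D X w) (hirr : Ir ρ L) (hL : L.Normal) {f : E ρ L}
    (h : ∀ x : X, sg C hL (x : H) f = f) : f = 0 ∨ f = 1 := by
  have h1 : ∀ x ∈ X, ρ x ((f : Module.End (ZMod 2) V) a) = (f : Module.End (ZMod 2) V) a := by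
    intro x hx
    have h2 : (sg C hL x f : Module.End (ZMod 2) V) a = (f : Module.End (ZMod 2) V) a := by
      rw [h ⟨x, hx⟩]
    rw [sg_apply, C.X_a (X.inv_mem hx)] at h2
    exact h2
  rcases C.fix_X h1 with h2 | h2
  · left
    by_contra h0
    exact C.a_ne (injective hirr f.2 (fun h3 => h0 (Subtype.ext h3)) h2)
  · right
    by_contra h0
    have h3 : f + 1 ≠ 0 := by
      intro h4
      apply h0
      have h5 : f + 1 + 1 = 0 + 1 := by rw [h4]
      rwa [add_assoc, add_self_E C, add_zero, zero_add] at h5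
    apply C.a_ne
    apply injective hirr (f + 1).2 (fun h4 => h3 (Subtype.ext h4))
    show (f : Module.End (ZMod 2) V) a + a = 0
    rw [h2, C.add_self]

theorem finite_E (C : Cfg ρ b q a D X w) : Finite (E ρ L) := by
  have := C.finite_V
  have : Finite (V →ₗ[ZMod 2] V) := Finite.of_injective (fun g => (g : V → V)) DFunLike.coe_injective
  exact Subtype.finite

theorem card_le (C : Cfg ρ b q a D X w) (hL : L.Normal) (hirr : Ir ρ L) : Nat.card (E ρ L) ≤ 4 := by
  classical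
  have := finite_E (L := L) C
  have := isDomain C hirr
  have : Fintype (E ρ L) := Fintype.ofFinite _
  let _ := Fintype.divisionRingOfIsDomain (E ρ L)
  have h1 := Clif.card_le_sq (D := E ρ L) (add_self_E C) (fun x : X => sg C hL (x : H))
    (fun x f => sg_sg C hL x f)
  have h2 : Nat.card {f : E ρ L // ∀ x : X, sg C hL (x : H) f = f} ≤ 2 := by
    have hinj : Function.Injective
        (fun f : {f : E ρ L // ∀ x : X, sg C hL (x : H) f = f} =>
          if (f : E ρ L) = 0 then (0 : ZMod 2) else 1) := by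
      rintro ⟨f, hf⟩ ⟨g, hg⟩ h
      apply Subtype.ext
      show f = g
      by_cases h3 : f = 0 <;> by_cases h4 : g = 0
      · rw [h3, h4]
      · simp only [h3, h4, ↓ _root_.reduceIte, _root_.zero_ne_one] at h
      · simp only [h3, h4, ↓ _root_.reduceIte, _root_.one_ne_zero] at h
      · rw [(fix_eq C hirr hL hf).resolve_left h3, (fix_eq C hirr hL hg).resolve_left h4]
    have := Nat.card_le_card_of_injective _ hinj
    rwa [Nat.card_zmod] at this
  calc Nat.card (E ρ L) ≤ _ := h1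
    _ ≤ 2 ^ 2 := Nat.pow_le_pow_left h2 2
    _ = 4 := by norm_num

/-- **`End_L(V)` is `F_2` or `F_4`.** -/
theorem shape (C : Cfg ρ b q a D X w) (hL : L.Normal)
    (hirr : ∀ W : Submodule (ZMod 2) V, (∀ l ∈ L, ∀ v ∈ W, ρ l v ∈ W) → W = ⊥ ∨ W = ⊤) :
    (∀ f : V →ₗ[ZMod 2] V, (∀ l ∈ L, ∀ v, f (ρ l v) = ρ l (f v)) → f = 0 ∨ f = LinearMap.id) ∨
    ∃ ζ : V →ₗ[ZMod 2] V, (∀ v, ζ (ζ v) = ζ v + v) ∧
      (∀ f : V →ₗ[ZMod 2] V, (∀ l ∈ L, ∀ v, f (ρ l v) = ρ l (f v)) →
        f = 0 ∨ f = LinearMap.id ∨ f = ζ ∨ f = ζ + LinearMap.id) ∧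
      (∀ l ∈ L, ∀ v, ζ (ρ l v) = ρ l (ζ v)) ∧
      (∀ h : H, (∀ v, ρ h (ζ v) = ζ (ρ h v)) ∨ (∀ v, ρ h (ζ v) = ζ (ρ h v) + ρ h v)) ∧
      ((∀ u v, b (ζ u) v = b u (ζ v)) ∨ (∀ u v, b (ζ u) v = b u (ζ v) + b u v)) := by
  classical
  by_cases hall : ∀ f : V →ₗ[ZMod 2] V, (∀ l ∈ L, ∀ v, f (ρ l v) = ρ l (f v)) →
      f = 0 ∨ f = LinearMap.id
  · exact Or.inl hall
  right
  push Not at hall
  obtain ⟨ζ, hζ, hζ0, hζ1⟩ := hall
  have hfin := finite_E (L := L) C
  have hdom := isDomain C hirr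
  let z : E ρ L := ⟨ζ, hζ⟩
  have hz0 : z ≠ 0 := fun h => hζ0 (congrArg Subtype.val h)
  have hz1 : z ≠ 1 := fun h => hζ1 (congrArg Subtype.val h)
  have h2 : ∀ x : E ρ L, x + x = 0 := add_self_E C
  have eq_of : ∀ {x y : E ρ L}, x + y = 0 → x = y := by
    intro x y h
    have : x + y + y = 0 + y := by rw [h]
    rwa [add_assoc, h2, add_zero, zero_add] at this
  have hz2 : z + 1 ≠ 0 := fun h => hz1 (eq_of h)
  have hz3 : z + 1 ≠ 1 := fun h => hz0 (by
    have := add_right_cancel (h.trans (zero_add 1).symm)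
    exact this)
  have hz4 : z + 1 ≠ z := fun h => one_ne_zero (add_left_cancel (h.trans (add_zero z).symm))
  -- the four elements
  have hfour : ∀ x : E ρ L, x = 0 ∨ x = 1 ∨ x = z ∨ x = z + 1 := by
    intro x
    by_contra hcon
    push Not at hcon
    obtain ⟨hx0, hx1, hx2, hx3⟩ := hcon
    have : Fintype (E ρ L) := Fintype.ofFinite _
    have hc : ({0, 1, z, z + 1, x} : Finset (E ρ L)).card ≤ 4 := by
      calc _ ≤ Fintype.card (E ρ L) := Finset.card_le_univ _
        _ = Nat.card (E ρ L) := Nat.card_eq_fintype_card.symm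
        _ ≤ 4 := card_le C hL hirr
    have hc2 : ({0, 1, z, z + 1, x} : Finset (E ρ L)).card = 5 := by
      rw [Finset.card_insert_of_notMem, Finset.card_insert_of_notMem, Finset.card_insert_of_notMem,
        Finset.card_insert_of_notMem, Finset.card_singleton]
      · rw [Finset.mem_singleton]; exact fun h => hx3 h.symm
      · simp only [Finset.mem_insert, Finset.mem_singleton, not_or]
        exact ⟨fun h => hz4 h.symm, fun h => hx2 h.symm⟩
      · simp only [Finset.mem_insert, Finset.mem_singleton, not_or]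
        exact ⟨fun h => hz1 h.symm, fun h => hz3 h.symm, fun h => hx1 h.symm⟩
      · simp only [Finset.mem_insert, Finset.mem_singleton, not_or]
        exact ⟨fun h => one_ne_zero h.symm, fun h => hz0 h.symm, fun h => hz2 h.symm,
          fun h => hx0 h.symm⟩
    omega
  have sqE : ∀ x : E ρ L, x ≠ 0 → x ≠ 1 → x * x = x + 1 := by
    intro x hx0 hx1
    have key : ∀ y : E ρ L, y = 0 ∨ y = 1 ∨ y = x ∨ y = x + 1 := by
      intro y
      rcases hfour x with h | h | h | h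
      · exact absurd h hx0
      · exact absurd h hx1
      · rw [h]; exact hfour y
      · rcases hfour y with g | g | g | g
        · exact Or.inl g
        · exact Or.inr (Or.inl g)
        · right; right; right
          rw [g, h, add_assoc, h2, add_zero]
        · right; right; left
          rw [g, h]
    rcases key (x * x) with h | h | h | h
    · exact absurd (mul_self_eq_zero.1 (h :)) hx0
    · exfalso
      apply hx1
      have h3 : (x + 1) * (x + 1) = 0 := by
        have : (x + 1) * (x + 1) = x * x + (x + x) + 1 := by noncomm_ring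
        rw [this, h, h2, add_zero, h2]
      exact eq_of (mul_self_eq_zero.1 h3)
    · exfalso
      have h3 : x * (x + 1) = 0 := by rw [mul_add, mul_one, h, h2]
      rcases mul_eq_zero.1 h3 with h4 | h4
      · exact hx0 h4
      · exact hx1 (eq_of h4)
    · exact h
  have hzz := sqE z hz0 hz1
  have hroot : ∀ x : E ρ L, x * x = x + 1 → x = z ∨ x = z + 1 := by
    intro x hx
    rcases hfour x with h | h | h | h
    · exfalso
      rw [h, mul_zero, zero_add] at hx
      exact one_ne_zero hx.symm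
    · exfalso
      rw [h, mul_one] at hx
      exact one_ne_zero (add_left_cancel (hx.symm.trans (add_zero (1 : E ρ L)).symm))
    · exact Or.inl h
    · exact Or.inr h
  refine ⟨ζ, ?_, ?_, hζ, ?_, ?_⟩
  · intro v
    exact congrArg (fun x : E ρ L => (x : Module.End (ZMod 2) V) v) hzz
  · intro f hf
    rcases hfour ⟨f, hf⟩ with h | h | h | h
    · exact Or.inl (congrArg Subtype.val h)
    · exact Or.inr (Or.inl (congrArg Subtype.val h))
    · exact Or.inr (Or.inr (Or.inl (congrArg Subtype.val h)))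
    · exact Or.inr (Or.inr (Or.inr (congrArg Subtype.val h)))
  · intro h
    have h3 : sg C hL h z * sg C hL h z = sg C hL h z + 1 := by
      rw [← map_mul, hzz, map_add, map_one]
    have h4 : ∀ v, (sg C hL h z : Module.End (ZMod 2) V) (ρ h v) = ρ h (ζ v) := by
      intro v
      rw [sg_apply, C.ρ_inv_apply]
    rcases hroot _ h3 with h5 | h5
    · left
      intro v
      rw [← h4 v, h5]
    · right
      intro v
      rw [← h4 v, h5]
      rfl
  · -- the adjoint
    have hVf := C.finite_V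
    have : Module.Finite (ZMod 2) V := Module.Finite.of_finite
    let ζ' : V →ₗ[ZMod 2] V := b.leftAdjointOfNondegenerate C.nondegenerate ζ
    have hadj : ∀ u v, b (ζ' u) v = b u (ζ v) :=
      b.isAdjointPairLeftAdjointOfNondegenerate C.nondegenerate ζ
    have hE : Cm ρ L ζ' := by
      intro l hl v
      have key : ∀ u, b (ζ' (ρ l v) + ρ l (ζ' v)) u = 0 := by
        intro u
        rw [map_add, LinearMap.add_apply, hadj]
        have e1 : b (ρ l (ζ' v)) u = b (ζ' v) (ρ l⁻¹ u) := by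
          rw [← C.b_inv l⁻¹, C.ρ_inv_apply]
        have e2 : b (ρ l v) (ζ u) = b v (ρ l⁻¹ (ζ u)) := by
          rw [← C.b_inv l⁻¹, C.ρ_inv_apply]
        rw [e1, e2, hadj, hζ _ (L.inv_mem hl), CharTwo.add_self_eq_zero]
      exact C.add_eq_zero.1 (C.nondeg _ key)
    let z' : E ρ L := ⟨ζ', hE⟩
    have h3 : z' * z' = z' + 1 := by
      apply Subtype.ext
      apply LinearMap.ext
      intro v
      show ζ' (ζ' v) = ζ' v + v
      apply C.add_eq_zero.1
      apply C.nondeg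
      intro u
      have e : b (ζ' (ζ' v) + (ζ' v + v)) u = b v (ζ (ζ u)) + (b v (ζ u) + b v u) := by
        rw [map_add, map_add, LinearMap.add_apply, LinearMap.add_apply, hadj, hadj, hadj]
      have e2 : ζ (ζ u) = ζ u + u := congrArg (fun x : E ρ L => (x : Module.End (ZMod 2) V) u) hzz
      rw [e, e2, map_add, CharTwo.add_self_eq_zero]
    rcases hroot _ h3 with h4 | h4
    · left
      have h5 : ζ' = ζ := congrArg Subtype.val h4
      intro u v
      rw [← hadj, h5]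
    · right
      have h5 : ζ' = ζ + LinearMap.id := congrArg Subtype.val h4
      intro u v
      rw [← hadj, h5, LinearMap.add_apply, map_add, LinearMap.add_apply]
      show b (ζ u) v = b (ζ u) v + b u v + b u v
      rw [add_assoc, CharTwo.add_self_eq_zero, add_zero]

end Cfsg.Agent.Omega.EH3.Irr.Shape

end

-- merged: Cfsg.Agent.Mrg.Omega.EH3.Irr.Main
section

/-!
# THEOREM IRR of EH3 (helper807, with helper962, helper40, helper737, helper616)

In the configuration `Cfg` let `L ≠ 1` be normal in `H`, perfect, `X ∩ C_H(L) = 1`.  Then `V|L` is irreducible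
(`irr`), and `End_L(V)` has order at most 4 (`shape`).
-/

set_option autoImplicit false

namespace Cfsg.Agent.Omega.EH3.Irr

open Module Subgroup

variable {H V : Type*} [Group H] [AddCommGroup V] [Module (ZMod 2) V]
  {ρ : H →* (V ≃ₗ[ZMod 2] V)} {b : LinearMap.BilinForm (ZMod 2) V} {q : V → ZMod 2}
  {a : V} {D : Submodule (ZMod 2) V} {X : Subgroup H} {w : ℕ} {L : Subgroup H}

/-- **THEOREM IRR.** -/
theorem irr (C : Cfg ρ b q a D X w) (hL : L.Normal) (hp : ⁅L, L⁆ = L) (hne : L ≠ ⊥)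
    (hX : X ⊓ centralizer (L : Set H) = ⊥) :
    ∀ W : Submodule (ZMod 2) V, (∀ l ∈ L, ∀ v ∈ W, ρ l v ∈ W) → W = ⊥ ∨ W = ⊤ := by
  have hiso : Isotyp ρ L := fun U U' hU hU' => isotypic C hL hU hU'
  obtain ⟨U, S⟩ := exists_base C hL hp hne hX hiso
  rcases S.top_or_two hiso with h | ⟨g, T⟩
  · intro W hW
    have h1 := S.simple.min W (by rw [h]; exact le_top) hW
    rwa [h] at h1
  · exfalso
    rcases S.end_cases with h | ⟨ω, h⟩
    · exact T.false_two h
    · exact T.false_four h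

end Cfsg.Agent.Omega.EH3.Irr

end

private theorem dce_33e78ddb14c8 : _root_.True := by
  try have : _root_.True := by simp only [_root_.Cfsg.Agent.Omega.EH3.Irr.Two.Ob.congr_simp]
  exact _root_.True.intro
end

section
prune_inst 0xfcfefaaffcbddfffff7e7ffedfdffc19d99fffe6dff9437fe0e9ff0bdf03842de5fbad8de012fe1ef6e23410b87853fb7eeeffe36bdc7ffffd5ff45ffbee1ff7ffbd8d51dea8b41ffe6ffff3f07f8e7f000000000010000000000000000000000200000000

-- part: Mrg/Omega/EH3/Kf/Two
section
prune_inst 0x1000001022000000180010000000000000000200400000b060050201061020a040200148000c101018880000000000001000800000000000000000000400000000020011400000000000801003180c00000000000000000000000000041004000000000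
set_option linter.all false
open scoped Cfsg.Agent.FastGrp

section


/-!
# Root group data with root groups of order 2, no label 6 (helper532)

* `btwn_cases` : the roots between two roots;
* `Dat` : root group datum, all root groups of order `2`, no label `6`; `u X x` the nontrivial element of `X x`;
* `comm_of_nonneg` : `u x`, `u y` commute if `⟨y, x^∨⟩ ≥ 0`;
* `comm_one_one`, `comm_one_two`, `comm_two_one` : the other commutators, exactly.
-/

set_option autoImplicit false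
set_option linter.unusedSectionVars false

namespace Cfsg.Agent.Omega.EH3.Kf.Two

open CoxeterSystem Cfsg.Agent.ChevalleyStructure.CoxeterGeom Cfsg.Agent.Tits.Roots Cfsg.Agent.Tits.Core
  Cfsg.Agent.Tits.RootComb Cfsg.Agent.Nodes.Comb Cfsg.Agent.Nodes.Reps Cfsg.Agent.Nodes.BNOf
  Cfsg.Agent.Nodes.RGDLib Cfsg.Agent.Nodes.SubComb Cfsg.Agent.Nodes.Sub Cfsg.Agent.Nodes.PosPair
  Cfsg.Agent.Nodes.ZFam Cfsg.Agent.Nodes.Coroot Cfsg.Agent.Nodes.PairOf Cfsg.Agent.Nodes.MuSq
  Cfsg.Agent.Nodes.OppDec Cfsg.Agent.Nodes.ShortSum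
open scoped commutatorElement

variable {I W Y : Type*} [Fintype I] [DecidableEq I] [Group W] [Group Y] {M : CoxeterMatrix I}
  {cs : CoxeterSystem M W} {A : I → I → ℤ} {h : IsCartan M A} {T : Subgroup Y} {n : I → Y}
  {X : (I → ℤ) → Subgroup Y}

/-! ### Roots between two roots -/

/-- `⟨y, α_i^∨⟩` for the root `l` -/
def PP (a0 : ℤ) (c : ℤ × ℤ) : ℤ := 2 * c.1 - a0 * c.2

/-- `b0 |y|² / |α_i|²` -/
def NN (a0 b0 : ℤ) (c : ℤ × ℤ) : ℤ := b0 * (c.1 * c.1) - a0 * b0 * (c.1 * c.2) + a0 * (c.2 * c.2)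

/-- the table -/
def Res (a0 b0 : ℤ) (c r : ℤ × ℤ) : Prop :=
  (PP a0 c = 0 ∧ b0 ≠ 0 ∧ NN a0 b0 c = b0 ∧ ((r.1 = 1 + c.1 ∧ r.2 = c.2) ∨ (2 * r.1 = 1 + c.1 ∧ 2 * r.2 = c.2))) ∨
  (PP a0 c = -1 ∧ b0 ≠ 0 ∧ NN a0 b0 c = b0 ∧ r.1 = 1 + c.1 ∧ r.2 = c.2) ∨
  (PP a0 c = -1 ∧ b0 ≠ 0 ∧ 2 * NN a0 b0 c = b0 ∧ ((r.1 = 1 + c.1 ∧ r.2 = c.2) ∨ (r.1 = 1 + 2 * c.1 ∧ r.2 = 2 * c.2))) ∨
  (PP a0 c = -2 ∧ b0 ≠ 0 ∧ NN a0 b0 c = 2 * b0 ∧ ((r.1 = 1 + c.1 ∧ r.2 = c.2) ∨ (r.1 = 2 + c.1 ∧ r.2 = c.2)))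

instance (a0 b0 : ℤ) (c r : ℤ × ℤ) : Decidable (Res a0 b0 c r) := by unfold Res; infer_instance

/-- the root `l` is not `± α_i` -/
def HL (a0 b0 : ℤ) (l : ℕ) : Prop := 1 ≤ l ∧ co a0 b0 l ≠ (1, 0) ∧ co a0 b0 l ≠ (-1, 0)

instance (a0 b0 : ℤ) (l : ℕ) : Decidable (HL a0 b0 l) := by unfold HL; infer_instance

/-- the root `r` is strictly between `α_i` and the root `l` -/
def HR (a0 b0 : ℤ) (l r : ℕ) : Prop := 0 < (co a0 b0 r).2 * (co a0 b0 l).2 ∧
    0 < ((co a0 b0 r).1 * (co a0 b0 l).2 - (co a0 b0 r).2 * (co a0 b0 l).1) * (co a0 b0 l).2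

instance (a0 b0 : ℤ) (l r : ℕ) : Decidable (HR a0 b0 l r) := by unfold HR; infer_instance

def Tab (m : ℕ) (a0 b0 : ℤ) : Prop :=
  ∀ l, l < 2 * m + 1 → HL a0 b0 l → ∀ r, r < 2 * m + 1 → HR a0 b0 l r → Res a0 b0 (co a0 b0 l) (co a0 b0 r)

instance (m : ℕ) (a0 b0 : ℤ) : Decidable (Tab m a0 b0) := by unfold Tab; infer_instance

omit [Fintype I] [DecidableEq I] in
theorem tab (h6 : ∀ i j, M i j ≠ 6) (h : IsCartan M A) {i j : I} (hij : i ≠ j) :
    Tab (M i j) (-A i j) (-A j i) := by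
  rcases h.rel i j hij with ⟨h0, h1, h2⟩ | ⟨h0, h1, h2⟩ | ⟨h0, ⟨h1, h2⟩ | ⟨h1, h2⟩⟩ | ⟨h0, ⟨h1, h2⟩ | ⟨h1, h2⟩⟩ <;>
    first
    | exact absurd h0 (h6 i j)
    | (rw [h0, h1, h2]; decide +kernel)

theorem btwn_aux [Fintype W] (h6 : ∀ i j, M i j ≠ 6) {x y : I → ℤ} (hx : IsRoot cs h x) (hy : IsRoot cs h y)
    (hne : x ≠ y) (hne' : x ≠ -y) {z : I → ℤ} (hz : Btwn cs h x y z) :
    (cpr cs h y x = 0 ∧ form cs h x x = form cs h y y ∧ (z = x + y ∨ (2 : ℤ) • z = x + y)) ∨
    (cpr cs h y x = -1 ∧ form cs h x x = form cs h y y ∧ z = x + y) ∨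
    (cpr cs h y x = -1 ∧ form cs h x x = 2 * form cs h y y ∧ (z = x + y ∨ z = x + (2 : ℤ) • y)) ∨
    (cpr cs h y x = -2 ∧ 2 * form cs h x x = form cs h y y ∧ (z = x + y ∨ z = (2 : ℤ) • x + y)) := by
  obtain ⟨w, i, j, hij, hwx, ⟨l, hl1, hl2, hwy⟩, hall⟩ := exists_std cs h hx hy hne hne'
  obtain ⟨hzr, m, c, d, hm, hc, hd, e⟩ := hz
  obtain ⟨r, hr1, hr2, hwz⟩ := hall z hzr m hm c d e
  have hT := tab h6 h hij l hl2
  have hyi := (cyc_apply cs h hij l).1
  have hyj := (cyc_apply cs h hij l).2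
  have hzi := (cyc_apply cs h hij r).1
  have hzj := (cyc_apply cs h hij r).2
  have hyeq := cyc_eq cs h i j l
  have hzeq := cyc_eq cs h i j r
  set c' := (co (-A i j) (-A j i) l).1 with hc'
  set d' := (co (-A i j) (-A j i) l).2 with hd'
  set e' := (co (-A i j) (-A j i) r).1 with he'
  set f' := (co (-A i j) (-A j i) r).2 with hf'
  have h1 : co (-A i j) (-A j i) l ≠ (1, 0) := by
    intro h0
    have e1 : c' = 1 := by rw [hc', h0]
    have e2 : d' = 0 := by rw [hd', h0]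
    apply hne
    apply rep_injective_apply cs h w
    rw [hwx, hwy, hyeq, e1, e2]
    module
  have h2 : co (-A i j) (-A j i) l ≠ (-1, 0) := by
    intro h0
    have e1 : c' = -1 := by rw [hc', h0]
    have e2 : d' = 0 := by rw [hd', h0]
    apply hne'
    apply rep_injective_apply cs h w
    rw [map_neg, hwx, hwy, hyeq, e1, e2]
    module
  have h3 : cpr cs h y x = 2 * c' - (-A i j) * d' := by
    have h4 := cpr_rep cs h w y hx
    rw [hwx, cpr_sr, hwy, hyeq, pairing_add, pairing_smul, pairing_smul, pairing_sr', pairing_sr', h.diag] at h4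
    linarith only [h, h4]
  have hsym : A i j * form cs h (sr i) (sr i) = A j i * form cs h (sr j) (sr j) := by
    have h4 := two_form cs h i (sr j)
    have h5 := two_form cs h j (sr i)
    rw [pairing_sr'] at h4 h5
    rw [← h4, ← h5, form_comm]
  have hyy : form cs h y y = c' * c' * form cs h (sr i) (sr i) + A i j * (c' * d') * form cs h (sr i) (sr i) +
      d' * d' * form cs h (sr j) (sr j) := by
    have h4 : form cs h y y = form cs h (cyc cs h i j l) (cyc cs h i j l) := by rw [← hwy, form_rep]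
    have h5 := two_form cs h i (sr j)
    rw [pairing_sr'] at h5
    rw [h4, hyeq, form_add_left, form_add_right, form_add_right, form_smul_left, form_smul_right, form_smul_left,
      form_smul_right, form_smul_left, form_smul_right, form_smul_left, form_smul_right,
      form_comm cs h (sr i) (sr j)]
    linear_combination (c' * d') * h5
  have hxx : form cs h x x = form cs h (sr i) (sr i) := by rw [← hwx, form_rep]
  have hN : (-A j i) * form cs h y y = NN (-A i j) (-A j i) (co (-A i j) (-A j i) l) * form cs h x x := by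
    unfold NN
    rw [← hc', ← hd', hyy, hxx]
    linear_combination (d' * d') * hsym
  -- coordinates of the relation
  have he2 := congrArg (rep cs h w) e
  rw [map_add, map_smul, map_smul, map_smul, hwx, hwy, hwz] at he2
  have ei := congrFun he2 i
  have ej := congrFun he2 j
  simp only [Pi.add_apply, Pi.smul_apply, smul_eq_mul, hyi, hyj, hzi, hzj, sr_self, sr_ne hij.symm] at ei ej
  have hd0 : d' ≠ 0 := by
    intro h0
    rw [h0, zero_smul, add_zero] at hyeq
    have h5 : rep cs h w y = c' • sr i := by rw [hwy, hyeq]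
    rcases eq_or_eq_neg_of_smul cs h (hx.act w) (hy.act w) (a := c') (b := 1) (by
      intro hc0
      rw [hc0, zero_smul] at h5
      exact (hy.act w).ne_zero h5) (by rw [one_smul, h5, hwx]) with h6 | h6
    · exact hne (rep_injective_apply cs h w h6)
    · exact hne' (rep_injective_apply cs h w (by rw [map_neg]; exact h6))
  have hdd : 0 < d' * d' := mul_self_pos.2 hd0
  have p1 : 0 < f' * d' := by
    have h5 : m * (f' * d') = d * (d' * d') := by linear_combination d' * ej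
    have h6 : 0 < m * (f' * d') := by rw [h5]; exact mul_pos hd hdd
    exact (mul_pos_iff_of_pos_left hm).1 h6
  have p2 : 0 < (e' * d' - f' * c') * d' := by
    have h5 : m * ((e' * d' - f' * c') * d') = c * (d' * d') := by
      linear_combination (d' * d') * ei - (c' * d') * ej
    have h6 : 0 < m * ((e' * d' - f' * c') * d') := by rw [h5]; exact mul_pos hc hdd
    exact (mul_pos_iff_of_pos_left hm).1 h6
  have hR := hT ⟨hl1, h1, h2⟩ r hr2 ⟨p1, p2⟩
  unfold Res at hR
  rw [show PP (-A i j) (co (-A i j) (-A j i) l) = cpr cs h y x from h3.symm] at hR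
  rw [← hc', ← hd', ← he', ← hf'] at hR
  have q1 : e' = 1 + c' ∧ f' = d' → z = x + y := by
    rintro ⟨e1, e2⟩
    apply rep_injective_apply cs h w
    rw [map_add, hwx, hwy, hwz, hyeq, hzeq, e1, e2]
    module
  have q2 : 2 * e' = 1 + c' ∧ 2 * f' = d' → (2 : ℤ) • z = x + y := by
    rintro ⟨e1, e2⟩
    apply rep_injective_apply cs h w
    rw [map_add, map_smul, hwx, hwy, hwz, hyeq, hzeq, smul_add, smul_smul, smul_smul, e1, e2]
    module
  have q3 : e' = 1 + 2 * c' ∧ f' = 2 * d' → z = x + (2 : ℤ) • y := by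
    rintro ⟨e1, e2⟩
    apply rep_injective_apply cs h w
    rw [map_add, map_smul, hwx, hwy, hwz, hyeq, hzeq, e1, e2]
    module
  have q4 : e' = 2 + c' ∧ f' = d' → z = (2 : ℤ) • x + y := by
    rintro ⟨e1, e2⟩
    apply rep_injective_apply cs h w
    rw [map_add, map_smul, hwx, hwy, hwz, hyeq, hzeq, e1, e2]
    module
  rcases hR with ⟨g1, g2, g3, g4⟩ | ⟨g1, g2, g3, g4⟩ | ⟨g1, g2, g3, g4⟩ | ⟨g1, g2, g3, g4⟩
  · refine Or.inl ⟨g1, ?_, g4.imp q1 q2⟩
    rw [g3] at hN
    exact (mul_left_cancel₀ g2 hN).symm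
  · refine Or.inr (Or.inl ⟨g1, ?_, q1 g4⟩)
    rw [g3] at hN
    exact (mul_left_cancel₀ g2 hN).symm
  · refine Or.inr (Or.inr (Or.inl ⟨g1, ?_, g4.imp q1 q3⟩))
    refine mul_left_cancel₀ g2 ?_
    rw [mul_left_comm, hN, ← mul_assoc, g3]
  · refine Or.inr (Or.inr (Or.inr ⟨g1, ?_, g4.imp q1 q4⟩))
    refine mul_left_cancel₀ g2 ?_
    rw [hN, g3]; ring

/-- **The roots between two roots.** -/
theorem btwn_cases [Finite W] (h6 : ∀ i j, M i j ≠ 6) {x y : I → ℤ} (hx : IsRoot cs h x) (hy : IsRoot cs h y)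
    (hne : x ≠ y) (hne' : x ≠ -y) {z : I → ℤ} (hz : Btwn cs h x y z) :
    (cpr cs h y x = 0 ∧ (z = x + y ∨ (2 : ℤ) • z = x + y)) ∨
    (cpr cs h y x = -1 ∧ cpr cs h x y = -1 ∧ z = x + y) ∨
    (cpr cs h y x = -1 ∧ cpr cs h x y = -2 ∧ (z = x + y ∨ z = x + (2 : ℤ) • y)) ∨
    (cpr cs h y x = -2 ∧ cpr cs h x y = -1 ∧ (z = x + y ∨ z = (2 : ℤ) • x + y)) := by
  have := Fintype.ofFinite W
  have e1 := two_form_cpr cs h y hx
  have e2 := two_form_cpr cs h x hy
  have hy0 := (form_pos cs h hy.ne_zero).ne'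
  rw [form_comm cs h y x] at e1
  rcases btwn_aux h6 hx hy hne hne' hz with ⟨g1, g2, g3⟩ | ⟨g1, g2, g3⟩ | ⟨g1, g2, g3⟩ | ⟨g1, g2, g3⟩
  · exact Or.inl ⟨g1, g3⟩
  · refine Or.inr (Or.inl ⟨g1, mul_right_cancel₀ hy0 ?_, g3⟩)
    rw [g1, g2] at e1; linarith only [h, e1, e2]
  · refine Or.inr (Or.inr (Or.inl ⟨g1, mul_right_cancel₀ hy0 ?_, g3⟩))
    rw [g1, g2] at e1; linarith
  · refine Or.inr (Or.inr (Or.inr ⟨g1, mul_right_cancel₀ hy0 ?_, g3⟩))
    rw [g1] at e1; linarith

theorem not_btwn_of_pos [Finite W] (h6 : ∀ i j, M i j ≠ 6) {x y : I → ℤ} (hx : IsRoot cs h x) (hy : IsRoot cs h y)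
    (hne : x ≠ y) (hne' : x ≠ -y) (hp : 0 < cpr cs h y x) (z : I → ℤ) : ¬ Btwn cs h x y z := by
  intro hz
  rcases btwn_cases h6 hx hy hne hne' hz with ⟨g, -⟩ | ⟨g, -, -⟩ | ⟨g, -, -⟩ | ⟨g, -, -⟩ <;> omega

theorem ne_neg_of_cpr [Finite W] {x y : I → ℤ} (hx : IsRoot cs h x) (hp : -2 < cpr cs h y x) : x ≠ -y := by
  intro e
  have h1 : y = -x := by rw [e, neg_neg]
  rw [h1, cpr_neg cs h x hx, cpr_self cs h hx] at hp
  omega

/-- the Cartan numbers of two roots at an obtuse angle -/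
theorem neg_cases [Finite W] (h6 : ∀ i j, M i j ≠ 6) {x y : I → ℤ} (hx : IsRoot cs h x) (hy : IsRoot cs h y)
    (hne' : x ≠ -y) (hp : cpr cs h y x < 0) :
    (cpr cs h y x = -1 ∧ cpr cs h x y = -1) ∨ (cpr cs h y x = -1 ∧ cpr cs h x y = -2) ∨
      (cpr cs h y x = -2 ∧ cpr cs h x y = -1) := by
  have hne : x ≠ y := by
    rintro rfl
    rw [cpr_self cs h hx] at hp
    omega
  have hz : Btwn cs h x y (y - cpr cs h y x • x) :=
    ⟨isRoot_refl cs h hy hx, 1, -cpr cs h y x, 1, one_pos, by omega, one_pos, by module⟩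
  rcases btwn_cases h6 hx hy hne hne' hz with ⟨g, -⟩ | ⟨g, g', -⟩ | ⟨g, g', -⟩ | ⟨g, g', -⟩
  · omega
  · exact Or.inl ⟨g, g'⟩
  · exact Or.inr (Or.inl ⟨g, g'⟩)
  · exact Or.inr (Or.inr ⟨g, g'⟩)

/-! ### The datum -/

/-- the nontrivial element of `X x` (`1` if there is none) -/
noncomputable def u (X : (I → ℤ) → Subgroup Y) (x : I → ℤ) : Y := by
  classical
  exact if hx : ∃ g ∈ X x, g ≠ 1 then Classical.choose hx else 1

/-- Root group datum with root groups of order `2`, no label `6`. -/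
structure Dat (cs : CoxeterSystem M W) {A : I → I → ℤ} (h : IsCartan M A) (T : Subgroup Y) (n : I → Y)
    (X : (I → ℤ) → Subgroup Y) : Prop where
  rgd : RGD cs h 2 T n X
  two : ∀ i, Nat.card (X (sr i)) = 2
  six : ∀ i j, M i j ≠ 6

section

variable (D : Dat cs h T n X)

include D

theorem Dat.card {x : I → ℤ} (hx : IsRoot cs h x) : Nat.card (X x) = 2 := by
  obtain ⟨w, i, rfl⟩ := hx
  obtain ⟨g, hg⟩ := exists_rp cs D.rgd.nsys w
  rw [← D.rgd.conj_rp hg (isRoot_sr cs h i), Cfsg.Agent.Nodes.CardSup.card_cj]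
  exact D.two i

theorem Dat.exists_ne {x : I → ℤ} (hx : IsRoot cs h x) : ∃ g ∈ X x, g ≠ 1 := by
  obtain ⟨y, hy, -⟩ := (Nat.card_eq_two_iff' (1 : X x)).1 (D.card hx)
  exact ⟨y, y.2, fun e => hy (Subtype.ext e)⟩

theorem Dat.u_mem {x : I → ℤ} (hx : IsRoot cs h x) : u X x ∈ X x := by
  unfold u
  rw [dif_pos (D.exists_ne hx)]
  exact (Classical.choose_spec (D.exists_ne hx)).1

theorem Dat.u_ne {x : I → ℤ} (hx : IsRoot cs h x) : u X x ≠ 1 := by
  unfold u
  rw [dif_pos (D.exists_ne hx)]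
  exact (Classical.choose_spec (D.exists_ne hx)).2

theorem Dat.eq_u {x : I → ℤ} (hx : IsRoot cs h x) {g : Y} (hg : g ∈ X x) (hg1 : g ≠ 1) : g = u X x := by
  obtain ⟨y, -, hy⟩ := (Nat.card_eq_two_iff' (1 : X x)).1 (D.card hx)
  have h1 := hy ⟨g, hg⟩ (fun e => hg1 (congrArg Subtype.val e))
  have h2 := hy ⟨u X x, D.u_mem hx⟩ (fun e => D.u_ne hx (congrArg Subtype.val e))
  exact congrArg Subtype.val (h1.trans h2.symm)

theorem Dat.mem_iff {x : I → ℤ} (hx : IsRoot cs h x) {g : Y} : g ∈ X x ↔ g = 1 ∨ g = u X x := by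
  constructor
  · intro hg
    by_cases h1 : g = 1
    · exact Or.inl h1
    · exact Or.inr (D.eq_u hx hg h1)
  · rintro (rfl | rfl)
    · exact one_mem _
    · exact D.u_mem hx

theorem Dat.u_sq {x : I → ℤ} (hx : IsRoot cs h x) : u X x * u X x = 1 := by
  by_contra h1
  have h2 := D.eq_u hx (mul_mem (D.u_mem hx) (D.u_mem hx)) h1
  exact D.u_ne hx (mul_eq_left.1 h2)

theorem Dat.u_inv {x : I → ℤ} (hx : IsRoot cs h x) : (u X x)⁻¹ = u X x :=
  inv_eq_of_mul_eq_one_right (D.u_sq hx)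

theorem Dat.conj_u {w : W} {k : Y} (hk : Rp cs D.rgd.nsys w k) {x : I → ℤ} (hx : IsRoot cs h x) :
    k * u X x * k⁻¹ = u X (rep cs h w x) := by
  refine D.eq_u (hx.act w) (D.rgd.conj_mem hk hx (D.u_mem hx)) fun e => D.u_ne hx ?_
  have : u X x = k⁻¹ * (k * u X x * k⁻¹) * k := by group
  rw [this, e]; group

theorem Dat.u_inj [Finite W] {x y : I → ℤ} (hx : IsRoot cs h x) (hy : IsRoot cs h y) (e : u X x = u X y) : x = y := by
  by_contra hne
  have h1 : u X x ∈ X x ⊓ X y := ⟨D.u_mem hx, e ▸ D.u_mem hy⟩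
  rw [X_inf_X D.rgd hx hy hne, Subgroup.mem_bot] at h1
  exact D.u_ne hx h1

/-- acute angles -/
theorem Dat.comm_of_pos [Finite W] {x y : I → ℤ} (hx : IsRoot cs h x) (hy : IsRoot cs h y)
    (hp : 0 < cpr cs h y x) : u X x * u X y = u X y * u X x := by
  by_cases hne : x = y
  · rw [hne]
  have hne' : x ≠ -y := ne_neg_of_cpr hx (by omega)
  exact commutatorElement_eq_one_iff_mul_comm.1
    (comm_of_no_btwn D.rgd hx hy hne hne' (not_btwn_of_pos D.six hx hy hne hne' hp) _ (D.u_mem hx) _ (D.u_mem hy))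

/-! ### Orthogonal roots -/

omit D in
theorem Sq.swap' [Fintype W] {m : ℤ} {y₁ y₂ x b : I → ℤ} (S : Sq cs h m y₁ y₂ x b) : Sq cs h m y₂ y₁ x (-b) where
  pos := S.pos
  root₁ := S.root₂
  root₂ := S.root₁
  root := S.root
  rootb := S.rootb.neg
  orth := by rw [form_comm]; exact S.orth
  len := S.len.symm
  add := by rw [S.add]; abel
  sub := by rw [smul_neg, S.sub]; abel

theorem Dat.orth_aux [Fintype W] {m : ℤ} {y₁ y₂ x b : I → ℤ} (S : Sq cs h m y₁ y₂ x b)
    (hc : ⁅u X y₁, u X y₂⁆ = u X x) : u X b * u X y₁ * (u X b)⁻¹ = u X y₁ ∨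
      u X b * u X y₁ * (u X b)⁻¹ = u X x * u X y₁ := by
  have c1 : u X x * u X y₁ = u X y₁ * u X x :=
    (D.comm_of_pos S.root₁ S.root ((cpr_pos_iff cs h x S.root₁).2 S.x₁_pos)).symm
  have c2 : u X x * u X y₂ = u X y₂ * u X x :=
    (D.comm_of_pos S.root₂ S.root ((cpr_pos_iff cs h x S.root₂).2 S.x₂_pos)).symm
  have hcc : ∀ a ∈ X y₂, ∀ b ∈ X x, a * b = b * a := by
    intro a ha b hb
    rcases (D.mem_iff S.root₂).1 ha with rfl | rfl
    · rw [one_mul, mul_one]
    rcases (D.mem_iff S.root).1 hb with rfl | rfl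
    · rw [one_mul, mul_one]
    exact c2.symm
  obtain ⟨a, ha, c, hc', e⟩ := comm_two D.rgd S.root₁ S.rootb S.ne_b.1 S.ne_b.2 (fun z hz => S.btwn' hz) hcc
    (D.u_mem S.root₁) (D.u_mem S.rootb)
  have e1 : u X b * u X y₁ * (u X b)⁻¹ = c⁻¹ * a⁻¹ * u X y₁ := by
    have h1 : u X b * u X y₁ * (u X b)⁻¹ = ⁅u X y₁, u X b⁆⁻¹ * u X y₁ := by
      rw [commutatorElement_def]; group
    rw [h1, e, mul_inv_rev]
  have hsq : (c⁻¹ * a⁻¹ * u X y₁) * (c⁻¹ * a⁻¹ * u X y₁) = 1 := by
    rw [← e1]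
    have h1 : u X b * u X y₁ * (u X b)⁻¹ * (u X b * u X y₁ * (u X b)⁻¹) =
      u X b * (u X y₁ * u X y₁) * (u X b)⁻¹ := by group
    rw [h1, D.u_sq S.root₁, mul_one, mul_inv_cancel]
  have i1 := D.u_inv S.root₁
  have i2 := D.u_inv S.root₂
  have ix := D.u_inv S.root
  have ha1 : a = 1 := by
    rcases (D.mem_iff S.root₂).1 ha with h1 | rfl
    · exact h1
    exfalso
    apply D.u_ne S.root
    have h2 : (u X y₂ * u X y₁) * (u X y₂ * u X y₁) = 1 := by
      rcases (D.mem_iff S.root).1 hc' with rfl | rfl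
      · rwa [inv_one, one_mul, i2] at hsq
      · rw [i2, ix] at hsq
        have h3 : u X x * u X y₂ * u X y₁ * (u X x * u X y₂ * u X y₁) =
            (u X x * u X x) * ((u X y₂ * u X y₁) * (u X y₂ * u X y₁)) := by
          calc u X x * u X y₂ * u X y₁ * (u X x * u X y₂ * u X y₁)
              = u X x * u X y₂ * (u X y₁ * u X x) * (u X y₂ * u X y₁) := by group
            _ = u X x * (u X y₂ * u X x) * u X y₁ * (u X y₂ * u X y₁) := by rw [← c1]; group
            _ = _ := by rw [← c2]; group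
        rw [h3, D.u_sq S.root, one_mul] at hsq
        exact hsq
    have h3 : ⁅u X y₁, u X y₂⁆ = ((u X y₂ * u X y₁) * (u X y₂ * u X y₁))⁻¹ := by
      rw [commutatorElement_def]
      nth_rewrite 1 [← i1]
      nth_rewrite 1 [← i2]
      group
    rw [← hc, h3, h2, inv_one]
  rw [ha1, inv_one, mul_one] at e1
  rcases (D.mem_iff S.root).1 hc' with rfl | rfl
  · left; rw [e1, inv_one, one_mul]
  · right; rw [e1, ix]

/-- orthogonal roots -/
theorem Dat.comm_of_orth [Finite W] {x y : I → ℤ} (hx : IsRoot cs h x) (hy : IsRoot cs h y)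
    (hp : cpr cs h y x = 0) : u X x * u X y = u X y * u X x := by
  have := Fintype.ofFinite W
  have hne : x ≠ y := by
    rintro rfl
    rw [cpr_self cs h hx] at hp
    omega
  have hne' : x ≠ -y := ne_neg_of_cpr hx (by omega)
  by_cases hno : ∀ z, ¬ Btwn cs h x y z
  · exact commutatorElement_eq_one_iff_mul_comm.1 (comm_of_no_btwn D.rgd hx hy hne hne' hno _ (D.u_mem hx) _ (D.u_mem hy))
  push Not at hno
  obtain ⟨z, hz⟩ := hno
  obtain ⟨m, hm, hz', hl⟩ : ∃ m : ℤ, 0 < m ∧ m • z = x + y ∧ form cs h x x = form cs h y y := by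
    rcases btwn_aux D.six hx hy hne hne' hz with ⟨-, g2, g3 | g3⟩ | ⟨g1, -, -⟩ | ⟨g1, -, -⟩ | ⟨g1, -, -⟩
    · exact ⟨1, one_pos, by rw [one_smul, g3], g2⟩
    · exact ⟨2, two_pos, g3, g2⟩
    all_goals omega
  have ho : form cs h x y = 0 := by rw [form_comm]; exact (cpr_zero_iff cs h y hx).1 hp
  have S := Sq.of_add hm hx hy hz.1 ho hl hz'
  set b := z - cpr cs h z x • x with hb
  by_contra hcon
  have hc : ⁅u X x, u X y⁆ = u X z :=
    D.eq_u hz.1 (comm_in D.rgd hx hy hne hne' (fun w hw => S.btwn hw) (D.u_mem hx) (D.u_mem hy))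
      fun e => hcon (commutatorElement_eq_one_iff_mul_comm.1 e)
  have iz := D.u_inv hz.1
  have hz2 := D.u_sq hz.1
  have c1 : u X z * u X x = u X x * u X z :=
    (D.comm_of_pos S.root₁ S.root ((cpr_pos_iff cs h z S.root₁).2 S.x₁_pos)).symm
  have c2 : u X z * u X y = u X y * u X z :=
    (D.comm_of_pos S.root₂ S.root ((cpr_pos_iff cs h z S.root₂).2 S.x₂_pos)).symm
  have hc' : ⁅u X y, u X x⁆ = u X z := by
    rw [← commutatorElement_inv, hc, iz]
  have k1 := D.orth_aux S hc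
  have k2 := D.orth_aux (Sq.swap' S) hc'
  -- `-b` commutes with `x`, and with `z`
  have hbx : u X (-b) * u X x = u X x * u X (-b) := by
    refine (D.comm_of_pos hx S.rootb.neg ?_).symm
    rw [cpr_pos_iff cs h (-b) hx, form_neg_left]
    have := S.b₁_neg
    omega
  have hbz : u X (-b) * u X z * (u X (-b))⁻¹ = u X z := by
    have h1 : u X (-b) * u X z * (u X (-b))⁻¹ =
        ⁅u X (-b) * u X x * (u X (-b))⁻¹, u X (-b) * u X y * (u X (-b))⁻¹⁆ := by
      rw [← hc, commutatorElement_def, commutatorElement_def]; group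
    have h2 : u X (-b) * u X x * (u X (-b))⁻¹ = u X x := by rw [hbx, mul_inv_cancel_right]
    rw [h1, h2]
    rcases k2 with k2 | k2
    · rw [k2, hc]
    · rw [k2]
      have h3 : ⁅u X x, u X z * u X y⁆ = ⁅u X x, u X y⁆ := by
        rw [commutatorElement_def, commutatorElement_def, mul_inv_rev]
        calc u X x * (u X z * u X y) * (u X x)⁻¹ * ((u X y)⁻¹ * (u X z)⁻¹)
            = (u X x * u X z) * u X y * (u X x)⁻¹ * (u X y)⁻¹ * (u X z)⁻¹ := by group
          _ = u X z * (u X x * u X y * (u X x)⁻¹ * (u X y)⁻¹) * (u X z)⁻¹ := by rw [← c1]; group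
          _ = u X z * u X z * (u X z)⁻¹ := by rw [← commutatorElement_def, hc]
          _ = u X x * u X y * (u X x)⁻¹ * (u X y)⁻¹ := by
              rw [← commutatorElement_def, hc]; group
      rw [h3, hc]
  have hb2 : ∀ g ∈ X (-b), g * u X x * g⁻¹ = u X x ∧ g * u X z * g⁻¹ = u X z := by
    intro g hg
    rcases (D.mem_iff S.rootb.neg).1 hg with rfl | rfl
    · constructor <;> group
    · exact ⟨by rw [hbx, mul_inv_cancel_right], hbz⟩
  obtain ⟨g, hg, g', hg', w, hw, -, hr⟩ := exists_mu' D.rgd S.rootb (D.u_mem S.rootb) (D.u_ne S.rootb)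
  have hrx : rep cs h w x = y := by
    rw [hr]
    have h1 := two_form_cpr cs h x S.rootb
    have h2 : m * (m * form cs h b b) = 2 * form cs h x x := by
      rw [← form_smul_left, ← form_smul_right, S.sub, form_sub_left, form_sub_right, form_sub_right,
        form_comm cs h y x, ho, ← hl]; ring
    have h3 : m * (m * form cs h x b) = -(m * form cs h x x) := by
      rw [form_comm cs h x b, S.form_b₁]; ring
    have h4 : cpr cs h x b = -m := by
      have h5 : (cpr cs h x b) * (2 * form cs h x x) = (-m) * (2 * form cs h x x) := by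
        rw [← h2]
        calc cpr cs h x b * (m * (m * form cs h b b)) = m * (m * (cpr cs h x b * form cs h b b)) := by ring
          _ = 2 * (m * (m * form cs h x b)) := by rw [← h1]; ring
          _ = _ := by rw [h3, h2]; ring
      have h6 := S.ypos
      exact mul_right_cancel₀ (by omega) h5
    rw [h4, neg_smul, S.sub]; abel
  have hm1 : g * u X b * g' * u X x * (g * u X b * g')⁻¹ = u X y := by
    rw [D.conj_u hw hx, hrx]
  have hm2 : g * u X b * g' * u X x * (g * u X b * g')⁻¹ =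
      g * (u X b * (g' * u X x * g'⁻¹) * (u X b)⁻¹) * g⁻¹ := by group
  rw [hm2, (hb2 g' hg').1] at hm1
  apply hcon
  rcases k1 with k1 | k1
  · rw [k1, (hb2 g hg).1] at hm1
    rw [hm1]
  · have h5 : g * (u X z * u X x) * g⁻¹ = (g * u X z * g⁻¹) * (g * u X x * g⁻¹) := by group
    rw [k1, h5, (hb2 g hg).1, (hb2 g hg).2] at hm1
    rw [← hm1]
    rw [← mul_assoc, c1, mul_assoc]

/-- **Roots at an angle of at most 90 degrees have commuting root groups.** -/
theorem Dat.comm_of_nonneg [Finite W] {x y : I → ℤ} (hx : IsRoot cs h x) (hy : IsRoot cs h y)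
    (hp : 0 ≤ cpr cs h y x) : u X x * u X y = u X y * u X x := by
  rcases hp.eq_or_lt with h0 | h0
  · exact D.comm_of_orth hx hy h0.symm
  · exact D.comm_of_pos hx hy h0

/-! ### Obtuse angles -/

omit D in
/-- `x + k y` is a root, `k = -⟨x, y^∨⟩` -/
theorem isRoot_add_smul [Finite W] {x y : I → ℤ} (hx : IsRoot cs h x) (hy : IsRoot cs h y) {k : ℤ}
    (hk : cpr cs h x y = -k) : IsRoot cs h (x + k • y) := by
  have := isRoot_refl cs h hx hy
  rwa [hk, neg_smul, sub_neg_eq_add] at this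

omit D in
theorem isRoot_add [Finite W] {x y : I → ℤ} (hx : IsRoot cs h x) (hy : IsRoot cs h y)
    (hk : cpr cs h x y = -1) : IsRoot cs h (x + y) := by
  have := isRoot_add_smul hx hy (k := 1) hk
  rwa [one_smul] at this

theorem Dat.ne_comm_of_neg [Finite W] {x y : I → ℤ} (hx : IsRoot cs h x) (hy : IsRoot cs h y)
    (hne' : x ≠ -y) (hp : cpr cs h y x < 0) : u X x * u X y ≠ u X y * u X x := by
  have := Fintype.ofFinite W
  have hne : x ≠ y := by
    rintro rfl
    rw [cpr_self cs h hx] at hp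
    omega
  intro e
  have hp' : 0 < cpr cs h y (-x) := by rw [cpr_neg_right cs h y hx]; omega
  have h1 := eq_one_of_comm D.rgd hx hy hne hne'
    (not_btwn_of_pos D.six hx.neg hy (fun e => hne' (by rw [← e, neg_neg])) (fun e => hne (neg_injective e)) hp')
    hp.ne (D.u_mem hx) (D.u_ne hx) (D.u_mem hy) e
  exact D.u_ne hy h1

/-- angle 120 degrees -/
theorem Dat.comm_one_one [Finite W] {x y : I → ℤ} (hx : IsRoot cs h x) (hy : IsRoot cs h y)
    (h1 : cpr cs h y x = -1) (h2 : cpr cs h x y = -1) : ⁅u X x, u X y⁆ = u X (x + y) := by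
  have := Fintype.ofFinite W
  have hne : x ≠ y := by
    rintro rfl
    rw [cpr_self cs h hx] at h1
    omega
  have hne' : x ≠ -y := ne_neg_of_cpr hx (by omega)
  refine D.eq_u (isRoot_add hx hy h2) (comm_in D.rgd hx hy hne hne' ?_ (D.u_mem hx) (D.u_mem hy)) ?_
  · intro z hz
    rcases btwn_cases D.six hx hy hne hne' hz with ⟨g1, -⟩ | ⟨-, -, g3⟩ | ⟨-, g2, -⟩ | ⟨g1, -, -⟩
    · omega
    · exact g3
    · omega
    · omega
  · intro e
    exact D.ne_comm_of_neg hx hy hne' (by omega) (commutatorElement_eq_one_iff_mul_comm.1 e)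

/-- angle 135 degrees, `x` long -/
theorem Dat.comm_one_two [Finite W] {x y : I → ℤ} (hx : IsRoot cs h x) (hy : IsRoot cs h y)
    (h1 : cpr cs h y x = -1) (h2 : cpr cs h x y = -2) :
    ⁅u X x, u X y⁆ = u X (x + y) * u X (x + (2 : ℤ) • y) := by
  have := Fintype.ofFinite W
  have hne : x ≠ y := by
    rintro rfl
    rw [cpr_self cs h hx] at h1
    omega
  have hne' : x ≠ -y := ne_neg_of_cpr hx (by omega)
  have r1 : IsRoot cs h (x + y) := by
    have := isRoot_add hy hx h1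
    rwa [add_comm] at this
  have r2 : IsRoot cs h (x + (2 : ℤ) • y) := isRoot_add_smul hx hy h2
  have hxx := cpr_self cs h hx
  have hyy := cpr_self cs h hy
  -- Cartan numbers
  have f1 := two_form_cpr cs h y hx
  have f2 := two_form_cpr cs h x hy
  have f0 := form_pos cs h hy.ne_zero
  rw [form_comm cs h y x] at f1
  rw [h1] at f1
  rw [h2] at f2
  have p12 : 0 < cpr cs h (x + (2 : ℤ) • y) (x + y) := by
    rw [cpr_pos_iff cs h _ r1, form_add_left, form_add_right, form_add_right, form_smul_left, form_smul_left,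
      form_comm cs h y x]
    linarith
  have c12 : u X (x + (2 : ℤ) • y) * u X (x + y) = u X (x + y) * u X (x + (2 : ℤ) • y) :=
    (D.comm_of_nonneg r1 r2 p12.le).symm
  have hcc : ∀ a ∈ X (x + y), ∀ b ∈ X (x + (2 : ℤ) • y), a * b = b * a := by
    intro a ha b hb
    rcases (D.mem_iff r1).1 ha with rfl | rfl
    · rw [one_mul, mul_one]
    rcases (D.mem_iff r2).1 hb with rfl | rfl
    · rw [one_mul, mul_one]
    exact c12.symm
  obtain ⟨a, ha, b, hb, e⟩ := comm_two D.rgd hx hy hne hne' (w₁ := x + y) (w₂ := x + (2 : ℤ) • y) (fun z hz => by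
    rcases btwn_cases D.six hx hy hne hne' hz with ⟨g1, -⟩ | ⟨-, g2, -⟩ | ⟨-, -, g3⟩ | ⟨g1, -, -⟩
    · omega
    · omega
    · exact g3
    · omega) hcc (D.u_mem hx) (D.u_mem hy)
  have q1 : cpr cs h (x + y) x = 1 := by rw [cpr_add cs h _ _ hx, hxx, h1]; norm_num
  have q2 : cpr cs h (x + (2 : ℤ) • y) x = 0 := by rw [cpr_add cs h _ _ hx, cpr_smul cs h _ _ hx, hxx, h1]; norm_num
  have q3 : cpr cs h (x + y) y = 0 := by rw [cpr_add cs h _ _ hy, hyy, h2]; norm_num
  have q4 : cpr cs h (x + (2 : ℤ) • y) y = 2 := by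
    rw [cpr_add cs h _ _ hy, cpr_smul cs h _ _ hy, hyy, h2]; norm_num
  have k1 : u X x * u X (x + y) = u X (x + y) * u X x := D.comm_of_nonneg hx r1 (by omega)
  have k2 : u X x * u X (x + (2 : ℤ) • y) = u X (x + (2 : ℤ) • y) * u X x := D.comm_of_nonneg hx r2 (by omega)
  have k3 : u X y * u X (x + y) = u X (x + y) * u X y := D.comm_of_nonneg hy r1 (by omega)
  have k4 : u X y * u X (x + (2 : ℤ) • y) = u X (x + (2 : ℤ) • y) * u X y := D.comm_of_nonneg hy r2 (by omega)
  have hnc := D.ne_comm_of_neg hx hy hne' (by omega)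
  -- `a ≠ 1`
  have ha' : a ≠ 1 := by
    intro ha1
    rw [ha1, one_mul] at e
    obtain ⟨g, hg, g', hg', w, hw, -, hr⟩ := exists_mu' D.rgd hx (D.u_mem hx) (D.u_ne hx)
    have m1 : ∀ g ∈ X (-x), g * u X y = u X y * g := by
      intro g hg
      rcases (D.mem_iff hx.neg).1 hg with rfl | rfl
      · rw [one_mul, mul_one]
      · exact D.comm_of_nonneg hx.neg hy (by rw [cpr_neg_right cs h y hx]; omega)
    have m2 : ∀ g ∈ X (-x), g * b = b * g := by
      intro g hg
      rcases (D.mem_iff hx.neg).1 hg with rfl | rfl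
      · rw [one_mul, mul_one]
      rcases (D.mem_iff r2).1 hb with rfl | rfl
      · rw [one_mul, mul_one]
      · exact D.comm_of_nonneg hx.neg r2 (by rw [cpr_neg_right cs h _ hx]; omega)
    have m3 : g * u X x * g' * u X y * (g * u X x * g')⁻¹ = u X (x + y) := by
      rw [D.conj_u hw hy, hr, h1]
      congr 1
      module
    have m4 : g * u X x * g' * u X y * (g * u X x * g')⁻¹ = b * u X y := by
      calc g * u X x * g' * u X y * (g * u X x * g')⁻¹
          = g * u X x * (g' * u X y) * g'⁻¹ * (u X x)⁻¹ * g⁻¹ := by group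
        _ = g * ⁅u X x, u X y⁆ * u X y * g⁻¹ := by rw [m1 g' hg', commutatorElement_def]; group
        _ = g * b * (u X y * g⁻¹) := by rw [e]; group
        _ = (g * b) * (g⁻¹ * u X y) := by rw [m1 _ (inv_mem hg)]
        _ = b * u X y := by rw [m2 g hg]; group
    rw [m4] at m3
    rcases (D.mem_iff r2).1 hb with rfl | rfl
    · rw [one_mul] at m3
      have := D.u_inj hy r1 m3
      exact hx.ne_zero (right_eq_add.1 this)
    · apply hnc
      have h3 : u X y = (u X (x + (2 : ℤ) • y))⁻¹ * u X (x + y) := by rw [← m3]; group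
      rw [h3, D.u_inv r2, ← mul_assoc, k2, mul_assoc, k1, ← mul_assoc]
  have hb' : b ≠ 1 := by
    intro hb1
    rw [hb1, mul_one] at e
    obtain ⟨g, hg, g', hg', w, hw, -, hr⟩ := exists_mu' D.rgd hy (D.u_mem hy) (D.u_ne hy)
    have m1 : ∀ g ∈ X (-y), g * u X x = u X x * g := by
      intro g hg
      rcases (D.mem_iff hy.neg).1 hg with rfl | rfl
      · rw [one_mul, mul_one]
      · exact D.comm_of_nonneg hy.neg hx (by rw [cpr_neg_right cs h x hy]; omega)
    have m2 : ∀ g ∈ X (-y), g * a = a * g := by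
      intro g hg
      rcases (D.mem_iff hy.neg).1 hg with rfl | rfl
      · rw [one_mul, mul_one]
      rcases (D.mem_iff r1).1 ha with rfl | rfl
      · rw [one_mul, mul_one]
      · exact D.comm_of_nonneg hy.neg r1 (by rw [cpr_neg_right cs h _ hy]; omega)
    have m3 : g * u X y * g' * u X x * (g * u X y * g')⁻¹ = u X (x + (2 : ℤ) • y) := by
      rw [D.conj_u hw hx, hr, h2]
      congr 1
      module
    have e' : ⁅u X y, u X x⁆ = a⁻¹ := by rw [← commutatorElement_inv, e]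
    have m4 : g * u X y * g' * u X x * (g * u X y * g')⁻¹ = a⁻¹ * u X x := by
      calc g * u X y * g' * u X x * (g * u X y * g')⁻¹
          = g * u X y * (g' * u X x) * g'⁻¹ * (u X y)⁻¹ * g⁻¹ := by group
        _ = g * ⁅u X y, u X x⁆ * u X x * g⁻¹ := by rw [m1 g' hg', commutatorElement_def]; group
        _ = g * a⁻¹ * (u X x * g⁻¹) := by rw [e']; group
        _ = (g * a⁻¹) * (g⁻¹ * u X x) := by rw [m1 _ (inv_mem hg)]
        _ = (a * g⁻¹)⁻¹ * g⁻¹ * u X x := by group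
        _ = a⁻¹ * u X x := by rw [← m2 _ (inv_mem hg)]; group
    rw [m4] at m3
    rcases (D.mem_iff r1).1 ha with rfl | rfl
    · rw [inv_one, one_mul] at m3
      have h3 := D.u_inj hx r2 m3
      have h4 : (2 : ℤ) • y = 0 := left_eq_add.1 h3
      exact hy.ne_zero ((smul_eq_zero.1 h4).resolve_left two_ne_zero)
    · apply hnc
      have h3 : u X x = u X (x + y) * u X (x + (2 : ℤ) • y) := by rw [← m3]; group
      rw [h3, mul_assoc, ← k4, ← mul_assoc, ← k3, mul_assoc]
  rw [e, ← D.eq_u r1 ha ha', ← D.eq_u r2 hb hb']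

/-- angle 135 degrees, `x` short -/
theorem Dat.comm_two_one [Finite W] {x y : I → ℤ} (hx : IsRoot cs h x) (hy : IsRoot cs h y)
    (h1 : cpr cs h y x = -2) (h2 : cpr cs h x y = -1) :
    ⁅u X x, u X y⁆ = u X (x + y) * u X ((2 : ℤ) • x + y) := by
  have := Fintype.ofFinite W
  have e := D.comm_one_two hy hx h2 h1
  have r1 : IsRoot cs h (x + y) := isRoot_add hx hy h2
  have r2 : IsRoot cs h ((2 : ℤ) • x + y) := by
    have := isRoot_add_smul hy hx h1
    rwa [add_comm] at this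
  rw [← commutatorElement_inv, e, mul_inv_rev, add_comm y x, add_comm y, D.u_inv r1, D.u_inv r2]
  have f1 := two_form_cpr cs h y hx
  have f2 := two_form_cpr cs h x hy
  have f0 := form_pos cs h hx.ne_zero
  rw [form_comm cs h y x] at f1
  rw [h1] at f1
  rw [h2] at f2
  have p12 : 0 < cpr cs h (x + y) ((2 : ℤ) • x + y) := by
    rw [cpr_pos_iff cs h _ r2, form_add_left, form_add_right, form_add_right, form_smul_right, form_smul_right,
      form_comm cs h y x]
    linarith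
  exact D.comm_of_nonneg r2 r1 p12.le

/-- the roots which can occur in `⁅X x, X y⁆` -/
def Cm (cs : CoxeterSystem M W) {A : I → I → ℤ} (h : IsCartan M A) (x y : I → ℤ) : Set (I → ℤ) :=
  {z | IsRoot cs h z ∧ cpr cs h y x < 0 ∧ (z = x + y ∨ z = (2 : ℤ) • x + y ∨ z = x + (2 : ℤ) • y)}

/-- the commutator of two root groups -/
theorem Dat.comm_mem [Finite W] {x y : I → ℤ} (hx : IsRoot cs h x) (hy : IsRoot cs h y) (hne' : x ≠ -y)
    {a b : Y} (ha : a ∈ X x) (hb : b ∈ X y) : ⁅a, b⁆ ∈ RGD.Sup X (Cm cs h x y) := by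
  rcases (D.mem_iff hx).1 ha with rfl | rfl
  · rw [commutatorElement_one_left]; exact one_mem _
  rcases (D.mem_iff hy).1 hb with rfl | rfl
  · rw [commutatorElement_one_right]; exact one_mem _
  by_cases hp : 0 ≤ cpr cs h y x
  · rw [commutatorElement_eq_one_iff_mul_comm.2 (D.comm_of_nonneg hx hy hp)]
    exact one_mem _
  have hp' : cpr cs h y x < 0 := not_le.1 hp
  rcases neg_cases D.six hx hy hne' hp' with ⟨h1, h2⟩ | ⟨h1, h2⟩ | ⟨h1, h2⟩
  · rw [D.comm_one_one hx hy h1 h2]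
    have r := isRoot_add hx hy h2
    exact RGD.le_Sup (show x + y ∈ Cm cs h x y from ⟨r, hp', Or.inl rfl⟩) (D.u_mem r)
  · rw [D.comm_one_two hx hy h1 h2]
    have r1 : IsRoot cs h (x + y) := by
      have := isRoot_add hy hx h1
      rwa [add_comm] at this
    have r2 : IsRoot cs h (x + (2 : ℤ) • y) := isRoot_add_smul hx hy h2
    exact mul_mem (RGD.le_Sup (show x + y ∈ Cm cs h x y from ⟨r1, hp', Or.inl rfl⟩) (D.u_mem r1))
      (RGD.le_Sup (show x + (2 : ℤ) • y ∈ Cm cs h x y from ⟨r2, hp', Or.inr (Or.inr rfl)⟩) (D.u_mem r2))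
  · rw [D.comm_two_one hx hy h1 h2]
    have r1 : IsRoot cs h (x + y) := isRoot_add hx hy h2
    have r2 : IsRoot cs h ((2 : ℤ) • x + y) := by
      have := isRoot_add_smul hy hx h1
      rwa [add_comm] at this
    exact mul_mem (RGD.le_Sup (show x + y ∈ Cm cs h x y from ⟨r1, hp', Or.inl rfl⟩) (D.u_mem r1))
      (RGD.le_Sup (show (2 : ℤ) • x + y ∈ Cm cs h x y from ⟨r2, hp', Or.inr (Or.inl rfl)⟩) (D.u_mem r2))

/-- the commutator of two root groups at an obtuse angle: the leading term is `u (x + y)` -/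
theorem Dat.comm_lead [Finite W] {x y : I → ℤ} (hx : IsRoot cs h x) (hy : IsRoot cs h y) (hne' : x ≠ -y)
    (hp : cpr cs h y x < 0) : IsRoot cs h (x + y) ∧ ∃ z, (z = (2 : ℤ) • x + y ∨ z = x + (2 : ℤ) • y) ∧
      (⁅u X x, u X y⁆ = u X (x + y) ∨ (IsRoot cs h z ∧ ⁅u X x, u X y⁆ = u X (x + y) * u X z)) := by
  rcases neg_cases D.six hx hy hne' hp with ⟨h1, h2⟩ | ⟨h1, h2⟩ | ⟨h1, h2⟩
  · exact ⟨isRoot_add hx hy h2, _, Or.inl rfl, Or.inl (D.comm_one_one hx hy h1 h2)⟩
  · refine ⟨?_, _, Or.inr rfl, Or.inr ⟨isRoot_add_smul hx hy h2, D.comm_one_two hx hy h1 h2⟩⟩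
    have := isRoot_add hy hx h1
    rwa [add_comm] at this
  · refine ⟨isRoot_add hx hy h2, _, Or.inl rfl, Or.inr ⟨?_, D.comm_two_one hx hy h1 h2⟩⟩
    have := isRoot_add_smul hy hx h1
    rwa [add_comm] at this

end

end Cfsg.Agent.Omega.EH3.Kf.Two

end

section


/-!
# The row `C₃(4,4,2)`: angle 135 degrees (helper635)

`m` long, `x` short, `⟨m, x^∨⟩ = -2`, `⟨x, m^∨⟩ = -1`; `T` centralises `X m`, `X (m + 2x)` and is transitive on the
nontrivial elements of `X x`, `|X x| > 2`:  `⁅v, u⁆ ∉ X (m + 2x)` for `1 ≠ v ∈ X m`, `1 ≠ u ∈ X x`.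
-/

set_option autoImplicit false
set_option linter.unusedSectionVars false

namespace Cfsg.Agent.Omega.EH3Close.CThree

open CoxeterSystem Cfsg.Agent.ChevalleyStructure.CoxeterGeom Cfsg.Agent.Tits.Roots Cfsg.Agent.Tits.Core
  Cfsg.Agent.Tits.RootComb Cfsg.Agent.Nodes.Comb Cfsg.Agent.Nodes.Reps Cfsg.Agent.Nodes.BNOf
  Cfsg.Agent.Nodes.RGDLib Cfsg.Agent.Nodes.SubComb Cfsg.Agent.Nodes.Sub Cfsg.Agent.Nodes.PosPair
  Cfsg.Agent.Nodes.ZFam Cfsg.Agent.Nodes.Coroot Cfsg.Agent.Nodes.PairOf Cfsg.Agent.Nodes.MuSq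
  Cfsg.Agent.Nodes.OppDec Cfsg.Agent.Nodes.ShortSum Cfsg.Agent.Omega.EH3.Kf.Two
open scoped commutatorElement

variable {I W Y : Type*} [Fintype I] [DecidableEq I] [Group W] [Group Y] {M : CoxeterMatrix I}
  {cs : CoxeterSystem M W} {A : I → I → ℤ} {h : IsCartan M A} {p : ℕ} {T : Subgroup Y} {n : I → Y}
  {X : (I → ℤ) → Subgroup Y}

/-- acute angle: the root groups commute -/
theorem comm_pos [Finite W] (R : RGD cs h p T n X) (h6 : ∀ i j, M i j ≠ 6) {x y : I → ℤ} (hx : IsRoot cs h x)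
    (hy : IsRoot cs h y) (hne : x ≠ y) (hp : 0 < cpr cs h y x) : ∀ u ∈ X x, ∀ v ∈ X y, u * v = v * u := by
  intro u hu v hv
  exact commutatorElement_eq_one_iff_mul_comm.1
    (comm_of_no_btwn R hx hy hne (ne_neg_of_cpr hx (by omega)) (not_btwn_of_pos h6 hx hy hne
      (ne_neg_of_cpr hx (by omega)) hp) u hu v hv)

theorem exists_two {K : Subgroup Y} (h4 : 2 < Nat.card K) (u : Y) :
    ∃ u' ∈ K, u' ≠ 1 ∧ u * u' ≠ 1 := by
  classical
  by_contra hcon
  push Not at hcon
  have : Nat.card K ≤ 2 := by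
    have hsub : (K : Set Y) ⊆ ({1, u⁻¹} : Set Y) := by
      intro g hg
      by_cases h1 : g = 1
      · left; exact h1
      · right
        exact eq_inv_of_mul_eq_one_right (hcon g hg h1)
    have h1 := Set.ncard_le_ncard hsub (Set.toFinite _)
    have h2 : Set.ncard ({1, u⁻¹} : Set Y) ≤ 2 := Set.ncard_insert_le _ _ |>.trans (by rw [Set.ncard_singleton])
    have h3 : Set.ncard (K : Set Y) = Nat.card K := rfl
    omega
  omega

/-- **(F3)** -/
theorem not_mem_long [Finite W] (R : RGD cs h p T n X) (h6 : ∀ i j, M i j ≠ 6) {m x : I → ℤ} (hm : IsRoot cs h m)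
    (hx : IsRoot cs h x) (c1 : cpr cs h m x = -2) (c2 : cpr cs h x m = -1)
    (hTm : ∀ t ∈ T, ∀ v ∈ X m, t * v = v * t) (hTz : ∀ t ∈ T, ∀ v ∈ X (m + (2 : ℤ) • x), t * v = v * t)
    (hTx : ∀ u ∈ X x, u ≠ 1 → ∀ u' ∈ X x, u' ≠ 1 → ∃ t ∈ T, t * u * t⁻¹ = u')
    (h4 : 2 < Nat.card (X x)) {v u : Y} (hv : v ∈ X m) (hv1 : v ≠ 1) (hu : u ∈ X x) (hu1 : u ≠ 1) :
    v * u * v⁻¹ * u⁻¹ ∉ X (m + (2 : ℤ) • x) := by
  intro hc
  have := Fintype.ofFinite W
  have hz : IsRoot cs h (m + (2 : ℤ) • x) := isRoot_add_smul hm hx c1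
  have hxm : x ≠ m := by
    rintro rfl
    rw [cpr_self cs h hx] at c1; omega
  have hmx' : m ≠ -x := ne_neg_of_cpr hm (by omega)
  have hxm' : x ≠ -m := fun e => hmx' (by rw [e, neg_neg])
  have hxz : x ≠ m + (2 : ℤ) • x := by
    intro e
    apply hmx'
    have : m = (m + (2 : ℤ) • x) - (2 : ℤ) • x := by abel
    rw [this, ← e]; module
  have hcz : ∀ w ∈ X x, ∀ c ∈ X (m + (2 : ℤ) • x), w * c = c * w := comm_pos R h6 hx hz hxz (by
    rw [cpr_add cs h _ _ hx, cpr_smul cs h _ _ hx, cpr_self cs h hx, c1]; norm_num)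
  -- all the commutators are the same
  have key : ∀ w ∈ X x, w ≠ 1 → v * w * v⁻¹ * w⁻¹ = v * u * v⁻¹ * u⁻¹ := by
    intro w hw hw1
    obtain ⟨t, ht, e⟩ := hTx u hu hu1 w hw hw1
    have e1 : t * v * t⁻¹ = v := by rw [hTm t ht v hv, mul_inv_cancel_right]
    have e2 : t * (v * u * v⁻¹ * u⁻¹) * t⁻¹ = v * u * v⁻¹ * u⁻¹ := by
      rw [hTz t ht _ hc, mul_inv_cancel_right]
    rw [← e2, ← e]
    calc v * (t * u * t⁻¹) * v⁻¹ * (t * u * t⁻¹)⁻¹
        = (t * v * t⁻¹) * (t * u * t⁻¹) * (t * v * t⁻¹)⁻¹ * (t * u * t⁻¹)⁻¹ := by rw [e1]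
      _ = _ := by group
  obtain ⟨u', hu', hu1', huu⟩ := exists_two h4 u
  set c : Y := v * u * v⁻¹ * u⁻¹ with hcdef
  have h1 := key _ (mul_mem hu hu') huu
  have h2 := key _ hu' hu1'
  have h3 : v * (u * u') * v⁻¹ * (u * u')⁻¹ = c * (u * (v * u' * v⁻¹ * u'⁻¹) * u⁻¹) := by
    rw [hcdef]; group
  rw [h3, h2, hcz u hu c hc, mul_inv_cancel_right] at h1
  have hc1 : c = 1 := mul_eq_left.1 h1
  have hcomm : u * v = v * u := by
    have h5 : v * u = c * (u * v) := by rw [hcdef]; group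
    rw [h5, hc1, one_mul]
  apply hv1
  refine Cfsg.Agent.Nodes.MuSq.eq_one_of_comm R hx hm hxm hxm' ?_ (by rw [c1]; norm_num) hu hu1 hv hcomm
  refine not_btwn_of_pos h6 hx.neg hm (fun e => hxm' (by rw [← e, neg_neg])) (fun e => hxm (neg_injective e)) ?_
  rw [cpr_neg_right cs h m hx, c1]; norm_num

end Cfsg.Agent.Omega.EH3Close.CThree

end

section


/-!
# The row `C₃(4,4,2)`: group theory (helper635)

* `exists_cent` : a nontrivial 2-group normalised by a 2-group contains a nontrivial element centralised by it;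
* `heis` : centres of `⟨A, B, Z⟩`, `[A, B] ≤ Z`;
* `card_sq_le` : an abelian subgroup `A` of `E`, `[E, E] ≤ ⟨z⟩ = Z(E)`, has `|A|² ≤ 2 |E|`;
* `main_abs` : a normal subgroup of `U = (γ F) E` not contained in `E` contains elements of `β E` and `θ`.
-/

set_option autoImplicit false

namespace Cfsg.Agent.Omega.EH3Close.CThree

open Subgroup

variable {Y : Type*} [Group Y]

/-- conjugation action on a subgroup -/
@[reducible] def conjAct {H K : Subgroup Y} (hK : ∀ h ∈ H, ∀ k ∈ K, h * k * h⁻¹ ∈ K) : MulAction H K where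
  smul h k := ⟨h * k * (h : Y)⁻¹, hK h h.2 k k.2⟩
  one_smul k := Subtype.ext (by show (1 : Y) * k * (1 : Y)⁻¹ = k; group)
  mul_smul g h k := Subtype.ext (by show (g * h : Y) * k * (g * h : Y)⁻¹ = g * (h * k * (h : Y)⁻¹) * (g : Y)⁻¹; group)

theorem exists_cent [Finite Y] {H K : Subgroup Y} (hH : IsPGroup 2 H) (hK2 : IsPGroup 2 K)
    (hK : ∀ h ∈ H, ∀ k ∈ K, h * k * h⁻¹ ∈ K) (hne : K ≠ ⊥) : ∃ k ∈ K, k ≠ 1 ∧ ∀ h ∈ H, h * k = k * h := by
  have : Fact (Nat.Prime 2) := ⟨Nat.prime_two⟩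
  let _ := conjAct hK
  have h1 : (1 : K) ∈ MulAction.fixedPoints H K := by
    intro h
    exact Subtype.ext (by show (h : Y) * 1 * (h : Y)⁻¹ = 1; group)
  have h2 : 2 ∣ Nat.card K := by
    obtain ⟨n, hn⟩ := IsPGroup.iff_card.1 hK2
    rcases Nat.eq_zero_or_pos n with h0 | h0
    · exfalso
      rw [h0, pow_zero] at hn
      exact hne (Subgroup.card_eq_one.1 hn)
    · rw [hn]; exact dvd_pow_self 2 (by omega)
  obtain ⟨k, hk, hk1⟩ := hH.exists_fixed_point_of_prime_dvd_card_of_fixed_point K h2 h1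
  refine ⟨k, k.2, fun h => hk1 (Subtype.ext h).symm, fun h hh => ?_⟩
  have h3 : (h * k * h⁻¹ : Y) = k := congrArg Subtype.val (hk ⟨h, hh⟩)
  calc h * k = h * k * h⁻¹ * h := by group
    _ = k * h := by rw [h3]

theorem mem_sup_of {A N : Subgroup Y} (h : ∀ a ∈ A, ∀ b ∈ N, a * b * a⁻¹ ∈ N) {u : Y} (hu : u ∈ A ⊔ N) :
    ∃ a ∈ A, ∃ w ∈ N, u = a * w := by
  let S : Subgroup Y :=
    { carrier := {u | ∃ a ∈ A, ∃ w ∈ N, u = a * w}
      one_mem' := ⟨1, one_mem _, 1, one_mem _, by simp⟩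
      mul_mem' := by
        rintro _ _ ⟨a, ha, w, hw, rfl⟩ ⟨b, hb, v, hv, rfl⟩
        have h1 := h b⁻¹ (inv_mem hb) w hw
        rw [inv_inv] at h1
        exact ⟨a * b, mul_mem ha hb, b⁻¹ * w * b * v, mul_mem h1 hv, by group⟩
      inv_mem' := by
        rintro _ ⟨a, ha, w, hw, rfl⟩
        exact ⟨a⁻¹, inv_mem ha, a * w⁻¹ * a⁻¹, h a ha _ (inv_mem hw), by group⟩ }
  have : A ⊔ N ≤ S :=
    sup_le (fun a ha => ⟨a, ha, 1, one_mem _, by simp⟩) (fun b hb => ⟨1, one_mem _, b, hb, by simp⟩)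
  exact this hu

/-- `P = ⟨A, B, Z⟩`, `A`, `B` abelian, `Z` central, `[A, B] ≤ Z`: an element of `P` is `a b z` -/
theorem exists_abz {A B Z : Subgroup Y} (hZA : ∀ z ∈ Z, ∀ a ∈ A, z * a = a * z) (hZB : ∀ z ∈ Z, ∀ b ∈ B, z * b = b * z)
    (hAB : ∀ a ∈ A, ∀ b ∈ B, a * b * a⁻¹ * b⁻¹ ∈ Z) {p : Y} (hp : p ∈ A ⊔ (B ⊔ Z)) :
    ∃ a ∈ A, ∃ b ∈ B, ∃ z ∈ Z, p = a * b * z := by
  have h1 : ∀ b ∈ B, ∀ z ∈ Z, b * z * b⁻¹ ∈ Z := by
    intro b hb z hz
    rw [← hZB z hz b hb, mul_inv_cancel_right]; exact hz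
  obtain ⟨a, ha, w, hw, rfl⟩ := mem_sup_of (A := A) (N := B ⊔ Z) (by
    intro a ha w hw
    obtain ⟨b, hb, z, hz, rfl⟩ := mem_sup_of h1 hw
    have e : a * (b * z) * a⁻¹ = (a * b * a⁻¹ * b⁻¹) * b * (a * z * a⁻¹) := by group
    have e2 : a * z * a⁻¹ = z := by rw [← hZA z hz a ha, mul_inv_cancel_right]
    rw [e, e2]
    exact mul_mem (mul_mem (mem_sup_right (hAB a ha b hb)) (mem_sup_left hb)) (mem_sup_right hz)) hp
  obtain ⟨b, hb, z, hz, rfl⟩ := mem_sup_of h1 hw
  exact ⟨a, ha, b, hb, z, hz, by group⟩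

/-- the centre of `⟨A, B, Z⟩` -/
theorem heis {A B Z : Subgroup Y} (hZA : ∀ z ∈ Z, ∀ a ∈ A, z * a = a * z) (hZB : ∀ z ∈ Z, ∀ b ∈ B, z * b = b * z)
    (hB : ∀ b ∈ B, ∀ b' ∈ B, b * b' = b' * b)
    (hAB : ∀ a ∈ A, ∀ b ∈ B, a * b * a⁻¹ * b⁻¹ ∈ Z) (hA1 : ∀ a ∈ A, a ≠ 1 → ∃ b ∈ B, a * b ≠ b * a)
    (hB1 : ∀ b ∈ B, b ≠ 1 → ∃ a ∈ A, b * a ≠ a * b) {p : Y} (hp : p ∈ A ⊔ (B ⊔ Z))
    (h1 : ∀ a ∈ A, p * a = a * p) (h2 : ∀ b ∈ B, p * b = b * p) : p ∈ Z := by
  obtain ⟨a, ha, b, hb, z, hz, rfl⟩ := exists_abz hZA hZB hAB hp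
  have ea : a = 1 := by
    by_contra hne
    obtain ⟨b', hb', hc⟩ := hA1 a ha hne
    apply hc
    have h3 := h2 b' hb'
    have e1 : a * b * z * b' = a * b' * (b * z) := by
      calc a * b * z * b' = a * b * (z * b') := by group
        _ = a * b * (b' * z) := by rw [hZB z hz b' hb']
        _ = a * (b * b') * z := by group
        _ = a * (b' * b) * z := by rw [hB b hb b' hb']
        _ = _ := by group
    rw [e1, show b' * (a * b * z) = b' * a * (b * z) by group] at h3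
    exact mul_right_cancel h3
  subst ea
  have eb : b = 1 := by
    by_contra hne
    obtain ⟨a', ha', hc⟩ := hB1 b hb hne
    apply hc
    have h3 := h1 a' ha'
    have e1 : 1 * b * z * a' = b * a' * z := by
      calc 1 * b * z * a' = b * (z * a') := by group
        _ = b * (a' * z) := by rw [hZA z hz a' ha']
        _ = _ := by group
    rw [e1, show a' * (1 * b * z) = a' * b * z by group] at h3
    exact mul_right_cancel h3
  subst eb
  rw [one_mul, one_mul]; exact hz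

/-- the product of two commuting groups -/
theorem heis_mul {P P' Z : Subgroup Y} (hPP : ∀ p ∈ P, ∀ p' ∈ P', p * p' = p' * p)
    (h1 : ∀ p ∈ P, (∀ a ∈ P, p * a = a * p) → p ∈ Z) (h2 : ∀ p ∈ P', (∀ a ∈ P', p * a = a * p) → p ∈ Z)
    {e : Y} (he : e ∈ P ⊔ P') (hc : ∀ e' ∈ P ⊔ P', e * e' = e' * e) : e ∈ Z := by
  obtain ⟨p, hp, p', hp', rfl⟩ := mem_sup_of (A := P) (N := P') (by
    intro p hp p' hp'
    rw [hPP p hp p' hp', mul_inv_cancel_right]; exact hp') he
  refine mul_mem (h1 p hp fun a ha => ?_) (h2 p' hp' fun a ha => ?_)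
  · have h3 := hc a (mem_sup_left ha)
    have e1 : p * p' * a = p * a * p' := by rw [mul_assoc, ← hPP a ha p' hp', ← mul_assoc]
    rw [e1, show a * (p * p') = a * p * p' by group] at h3
    exact mul_right_cancel h3
  · have h3 := hc a (mem_sup_right ha)
    have e1 : a * (p * p') = p * (a * p') := by rw [← mul_assoc, ← hPP p hp a ha, mul_assoc]
    rw [e1, mul_assoc] at h3
    exact mul_left_cancel h3

/-- **The bound for abelian subgroups.** -/
theorem card_sq_le [Finite Y] {E A : Subgroup Y} {z : Y} (hz : z ≠ 1) (hz2 : z * z = 1) (hzE : ∀ e ∈ E, z * e = e * z)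
    (hc : ∀ e ∈ E, ∀ e' ∈ E, e * e' = e' * e ∨ e * e' = e' * e * z) (hA : A ≤ E)
    (hab : ∀ a ∈ A, ∀ b ∈ A, a * b = b * a) (hcen : ∀ e ∈ E, (∀ e' ∈ E, e * e' = e' * e) → e = 1 ∨ e = z) :
    Nat.card A * Nat.card A ≤ 2 * Nat.card E := by
  classical
  have : Fintype Y := Fintype.ofFinite Y
  have : Fintype E := Fintype.ofFinite E
  have : Fintype A := Fintype.ofFinite A
  -- the characters
  have hne : ∀ e ∈ E, ∀ e' ∈ E, e * e' = e' * e → e * e' ≠ e' * e * z := by
    intro e _ e' _ h1 h2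
    rw [h1] at h2
    exact hz (left_eq_mul.1 h2)
  let χ : A → (E →* ℤ) := fun a =>
    { toFun := fun e => if (e : Y) * a = a * e then 1 else -1
      map_one' := by simp
      map_mul' := by
        intro e e'
        rcases hc e e.2 a (hA a.2) with h1 | h1 <;> rcases hc e' e'.2 a (hA a.2) with h2 | h2
        · rw [if_pos h1, if_pos h2, if_pos, one_mul]
          show (e * e' : Y) * a = a * (e * e' : Y)
          rw [mul_assoc, h2, ← mul_assoc, h1, mul_assoc]
        · rw [if_pos h1, if_neg (fun h => hne e' e'.2 a (hA a.2) h h2), if_neg, one_mul]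
          intro h3
          change (e * e' : Y) * a = a * (e * e' : Y) at h3
          have h4 : (e * e' : Y) * a = a * (e * e' : Y) * z := by
            calc (e * e' : Y) * a = e * (e' * a) := by group
              _ = e * (a * e' * z) := by rw [h2]
              _ = (e * a) * e' * z := by group
              _ = _ := by rw [h1]; group
          exact hne _ (mul_mem e.2 e'.2) a (hA a.2) h3 h4
        · rw [if_neg (fun h => hne e e.2 a (hA a.2) h h1), if_pos h2, if_neg, mul_one]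
          intro h3
          change (e * e' : Y) * a = a * (e * e' : Y) at h3
          have h4 : (e * e' : Y) * a = a * (e * e' : Y) * z := by
            calc (e * e' : Y) * a = e * (e' * a) := by group
              _ = (e * a) * e' := by rw [h2]; group
              _ = a * e * (z * e') := by rw [h1]; group
              _ = _ := by rw [hzE e' e'.2]; group
          exact hne _ (mul_mem e.2 e'.2) a (hA a.2) h3 h4
        · rw [if_neg (fun h => hne e e.2 a (hA a.2) h h1), if_neg (fun h => hne e' e'.2 a (hA a.2) h h2), if_pos,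
            neg_mul_neg, one_mul]
          show (e * e' : Y) * a = a * (e * e' : Y)
          calc (e * e' : Y) * a = e * (e' * a) := by group
              _ = (e * a) * e' * z := by rw [h2]; group
              _ = a * e * (z * e') * z := by rw [h1]; group
              _ = a * e * e' * (z * z) := by rw [hzE e' e'.2]; group
              _ = _ := by rw [hz2]; group }
  have hχ : ∀ (a : A) (e : E), χ a e = if (e : Y) * a = a * e then 1 else -1 := fun _ _ => rfl
  have hsum : ∀ a : A, ((a : Y) ≠ 1 ∧ (a : Y) ≠ z) → ∑ e : E, χ a e = 0 := by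
    intro a ha
    refine sum_hom_units_eq_zero (χ a) fun h => ?_
    rcases hcen a (hA a.2) (fun e' he' => by
      have h1 : χ a ⟨e', he'⟩ = 1 := by rw [h]; rfl
      rw [hχ] at h1
      by_contra hcon
      rw [if_neg (fun h2 => hcon h2.symm)] at h1
      exact absurd h1 (by decide)) with h1 | h1
    · exact ha.1 h1
    · exact ha.2 h1
  have hbig : ∀ a : A, ∑ e : E, χ a e ≤ Nat.card E := by
    intro a
    calc ∑ e : E, χ a e ≤ ∑ _e : E, (1 : ℤ) := by
          refine Finset.sum_le_sum fun e _ => ?_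
          rw [hχ]; split_ifs <;> norm_num
      _ = Nat.card E := by simp only [_root_.Finset.sum_const, _root_.Finset.card_univ, _root_.Int.nsmul_eq_mul, _root_.mul_one, _root_.Nat.card_eq_fintype_card]
  -- upper bound
  have hup : ∑ a : A, ∑ e : E, χ a e ≤ 2 * Nat.card E := by
    have h1 : ∀ a : A, ∑ e : E, χ a e ≤ if ((a : Y) = 1 ∨ (a : Y) = z) then (Nat.card E : ℤ) else 0 := by
      intro a
      split_ifs with h
      · exact hbig a
      · push Not at h
        exact le_of_eq (hsum a h)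
    refine (Finset.sum_le_sum fun a _ => h1 a).trans ?_
    rw [← Finset.sum_filter, Finset.sum_const, nsmul_eq_mul]
    refine mul_le_mul_of_nonneg_right ?_ (by positivity)
    have h2 : (Finset.univ.filter fun a : A => (a : Y) = 1 ∨ (a : Y) = z).card ≤ ({1, z} : Finset Y).card := by
      refine Finset.card_le_card_of_injOn (fun a => (a : Y)) ?_ (fun _ _ _ _ h => Subtype.ext h)
      intro a ha
      simpa only [_root_.Finset.coe_insert, _root_.Finset.coe_singleton, _root_.Set.mem_insert_iff, _root_.OneMemClass.coe_eq_one, _root_.Set.mem_singleton_iff, _root_.Finset.coe_filter, _root_.Finset.mem_univ, _root_.true_and, _root_.Set.mem_ofPred_eq] using ha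
    have h3 : ({1, z} : Finset Y).card ≤ 2 := Finset.card_le_two
    exact_mod_cast h2.trans h3
  -- lower bound
  have hlow : (Nat.card A : ℤ) * Nat.card A ≤ ∑ a : A, ∑ e : E, χ a e := by
    rw [Finset.sum_comm]
    -- for fixed `e` the sum over `a` is nonnegative, and `|A|` for `e ∈ A`
    have h1 : ∀ e : E, 0 ≤ ∑ a : A, χ a e := by
      intro e
      let ψ : A →* ℤ :=
        { toFun := fun a => χ a e
          map_one' := by rw [hχ]; simp
          map_mul' := by
            intro a a'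
            rw [hχ, hχ, hχ]
            rcases hc e e.2 a (hA a.2) with h1 | h1 <;> rcases hc e e.2 a' (hA a'.2) with h2 | h2
            · rw [if_pos h1, if_pos h2, if_pos, one_mul]
              show (e : Y) * (a * a' : Y) = (a * a' : Y) * e
              rw [← mul_assoc, h1, mul_assoc, h2, mul_assoc]
            · rw [if_pos h1, if_neg (fun h => hne e e.2 a' (hA a'.2) h h2), if_neg, one_mul]
              intro h3
              change (e : Y) * (a * a' : Y) = (a * a' : Y) * e at h3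
              refine hne _ e.2 _ (mul_mem (hA a.2) (hA a'.2)) h3 ?_
              calc (e : Y) * (a * a') = (e * a) * a' := by group
                _ = a * (e * a') := by rw [h1]; group
                _ = _ := by rw [h2]; group
            · rw [if_neg (fun h => hne e e.2 a (hA a.2) h h1), if_pos h2, if_neg, mul_one]
              intro h3
              change (e : Y) * (a * a' : Y) = (a * a' : Y) * e at h3
              refine hne _ e.2 _ (mul_mem (hA a.2) (hA a'.2)) h3 ?_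
              calc (e : Y) * (a * a') = (e * a) * a' := by group
                _ = a * e * (z * a') := by rw [h1]; group
                _ = a * (e * a') * z := by rw [hzE a' (hA a'.2)]; group
                _ = _ := by rw [h2]; group
            · rw [if_neg (fun h => hne e e.2 a (hA a.2) h h1), if_neg (fun h => hne e e.2 a' (hA a'.2) h h2),
                if_pos, neg_mul_neg, one_mul]
              show (e : Y) * (a * a' : Y) = (a * a' : Y) * e
              calc (e : Y) * (a * a') = (e * a) * a' := by group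
                _ = a * e * (z * a') := by rw [h1]; group
                _ = a * (e * a') * z := by rw [hzE a' (hA a'.2)]; group
                _ = a * a' * e * (z * z) := by rw [h2]; group
                _ = _ := by rw [hz2]; group }
      have h2 : ∑ a : A, χ a e = ∑ a : A, ψ a := rfl
      by_cases h3 : ψ = 1
      · rw [h2, h3]
        exact Finset.sum_nonneg fun a _ => by rw [MonoidHom.one_apply]; norm_num
      · rw [h2, sum_hom_units_eq_zero ψ h3]
    have h2 : ∑ e : E, (if (e : Y) ∈ A then (Nat.card A : ℤ) else 0) ≤ ∑ e : E, ∑ a : A, χ a e := by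
      refine Finset.sum_le_sum fun e _ => ?_
      split_ifs with h
      · refine le_of_eq ?_
        have h3 : ∀ a : A, χ a e = 1 := fun a => by rw [hχ, if_pos (hab e h a a.2)]
        rw [Finset.sum_congr rfl fun a _ => h3 a]
        simp only [_root_.Nat.card_eq_fintype_card, _root_.Finset.sum_const, _root_.Finset.card_univ, _root_.Int.nsmul_eq_mul, _root_.mul_one]
      · exact h1 e
    refine le_trans (le_of_eq ?_) h2
    rw [← Finset.sum_filter, Finset.sum_const, nsmul_eq_mul]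
    congr 1
    have h3 : (Finset.univ.filter fun e : E => (e : Y) ∈ A).card = Nat.card A := by
      rw [Nat.card_eq_fintype_card, ← Finset.card_univ]
      refine Finset.card_bij' (fun e he => ⟨(e : Y), by simpa only [_root_.Finset.mem_filter, _root_.Finset.mem_univ, _root_.true_and] using he⟩) (fun a _ => ⟨(a : Y), hA a.2⟩)
        (by simp only [_root_.Finset.mem_filter, _root_.Finset.mem_univ, _root_.true_and, _root_.implies_true]) (by intro a _; simp only [_root_.Finset.mem_filter, _root_.Finset.mem_univ, _root_.SetLike.coe_mem, _root_.and_self]) (by intro e _; rfl) (by intro a _; rfl)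
    exact_mod_cast h3.symm
  have := hlow.trans hup
  exact_mod_cast this

/-- **The main argument.** -/
theorem main_abs [Finite Y] {U E F UJ Γ β θ N : Subgroup Y} (hU2 : IsPGroup 2 U) (hEU : E ≤ U) (hUJU : UJ ≤ U)
    (hFUJ : F ≤ UJ) (hE : ∀ u ∈ U, ∀ e ∈ E, u * e * u⁻¹ ∈ E) (hU : ∀ g ∈ U, ∃ u ∈ UJ, ∃ e ∈ E, g = u * e)
    (hF : ∀ u ∈ UJ, ∀ f ∈ F, u * f * u⁻¹ ∈ F) (hUJ : ∀ u ∈ UJ, ∃ v ∈ Γ, ∃ f ∈ F, u = v * f)
    (ZE : ∀ e ∈ E, (∀ e' ∈ E, e * e' = e' * e) → e ∈ θ) (ZF : ∀ f ∈ F, (∀ f' ∈ F, f * f' = f' * f) → f ∈ β)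
    (cE : ∀ x ∈ E, ∀ y ∈ E, x * y * x⁻¹ * y⁻¹ ∈ θ) (cF : ∀ x ∈ F, ∀ y ∈ F, x * y * x⁻¹ * y⁻¹ ∈ β)
    (hγ : ∀ v ∈ Γ, v ≠ 1 → ∃ u ∈ F, v * u * v⁻¹ * u⁻¹ ∉ β) (hβ : ∀ x ∈ β, x ≠ 1 → ∃ u ∈ E, x * u * x⁻¹ * u⁻¹ ∉ θ)
    (hNU : N ≤ U) (hN : ∀ u ∈ U, ∀ x ∈ N, u * x * u⁻¹ ∈ N) (hNE : ¬ N ≤ E) :
    ∃ x ∈ β, x ≠ 1 ∧ ∃ y ∈ E, x * y ∈ N ∧ ∃ z ∈ θ, z ≠ 1 ∧ z ∈ N := by
  have hE' : ∀ u ∈ UJ, ∀ e ∈ E, u⁻¹ * e * u ∈ E := by
    intro u hu e he
    have := hE u⁻¹ (inv_mem (hUJU hu)) e he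
    rwa [inv_inv] at this
  let N' : Subgroup Y :=
    { carrier := {u | u ∈ UJ ∧ ∃ e ∈ E, u * e ∈ N}
      one_mem' := ⟨one_mem _, 1, one_mem _, by rw [mul_one]; exact one_mem _⟩
      mul_mem' := by
        rintro u u' ⟨hu, e, he, h1⟩ ⟨hu', e', he', h2⟩
        refine ⟨mul_mem hu hu', u'⁻¹ * e * u' * e', mul_mem (hE' u' hu' e he) he', ?_⟩
        have : u * u' * (u'⁻¹ * e * u' * e') = (u * e) * (u' * e') := by group
        rw [this]; exact mul_mem h1 h2
      inv_mem' := by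
        rintro u ⟨hu, e, he, h1⟩
        refine ⟨inv_mem hu, u * e⁻¹ * u⁻¹, hE u (hUJU hu) _ (inv_mem he), ?_⟩
        have : u⁻¹ * (u * e⁻¹ * u⁻¹) = (u * e)⁻¹ := by group
        rw [this]; exact inv_mem h1 }
  have hN' : ∀ w ∈ UJ, ∀ u ∈ N', w * u * w⁻¹ ∈ N' := by
    rintro w hw u ⟨hu, e, he, h1⟩
    refine ⟨mul_mem (mul_mem hw hu) (inv_mem hw), w * e * w⁻¹, hE w (hUJU hw) e he, ?_⟩
    have : w * u * w⁻¹ * (w * e * w⁻¹) = w * (u * e) * w⁻¹ := by group
    rw [this]; exact hN w (hUJU hw) _ h1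
  have hF2 : IsPGroup 2 F := hU2.to_le (hFUJ.trans hUJU)
  have hE2 : IsPGroup 2 E := hU2.to_le hEU
  -- a nontrivial element of `β` in `N'`
  obtain ⟨x, hxβ, hx1, hxN⟩ : ∃ x ∈ β, x ≠ 1 ∧ x ∈ N' := by
    by_cases hK : N' ⊓ F = ⊥
    · exfalso
      obtain ⟨g, hg, hgE⟩ := SetLike.not_le_iff_exists.1 hNE
      obtain ⟨u, hu, e, he, rfl⟩ := hU g (hNU hg)
      have huN : u ∈ N' := ⟨hu, e, he, hg⟩
      have hu1 : u ≠ 1 := by
        rintro rfl
        rw [one_mul] at hgE
        exact hgE he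
      have hcom : ∀ f ∈ F, u * f = f * u := by
        intro f hf
        have h1 : u * f * u⁻¹ * f⁻¹ ∈ N' ⊓ F := by
          refine Subgroup.mem_inf.2 ⟨?_, mul_mem (hF u hu f hf) (inv_mem hf)⟩
          have : u * f * u⁻¹ * f⁻¹ = u * (f * u⁻¹ * f⁻¹) := by group
          rw [this]
          exact mul_mem huN (hN' f (hFUJ hf) _ (inv_mem huN))
        rw [hK, mem_bot] at h1
        calc u * f = (u * f * u⁻¹ * f⁻¹) * (f * u) := by group
          _ = f * u := by rw [h1, one_mul]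
      obtain ⟨v, hv, f, hf, rfl⟩ := hUJ u hu
      have hv1 : v ≠ 1 := by
        rintro rfl
        rw [one_mul] at huN hu1
        have : f ∈ N' ⊓ F := ⟨huN, hf⟩
        rw [hK, mem_bot] at this
        exact hu1 this
      obtain ⟨w, hw, hwn⟩ := hγ v hv hv1
      apply hwn
      have h2 := hcom (f⁻¹ * w * f) (mul_mem (mul_mem (inv_mem hf) hw) hf)
      have h3 : v * w * v⁻¹ = f⁻¹ * w * f := by
        calc v * w * v⁻¹ = (v * f) * (f⁻¹ * w * f) * (v * f)⁻¹ := by group
          _ = (f⁻¹ * w * f) * (v * f) * (v * f)⁻¹ := by rw [h2]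
          _ = _ := by group
      rw [h3]
      have h4 := cF f⁻¹ (inv_mem hf) w hw
      rwa [inv_inv] at h4
    · obtain ⟨k, hk, hk1, hk2⟩ := exists_cent hF2 (hF2.to_le inf_le_right) (K := N' ⊓ F) (by
        rintro f hf k ⟨hk, hkF⟩
        exact Subgroup.mem_inf.2 ⟨hN' f (hFUJ hf) k hk, mul_mem (mul_mem hf hkF) (inv_mem hf)⟩) hK
      exact ⟨k, ZF k hk.2 fun f hf => (hk2 f hf).symm, hk1, hk.1⟩
  obtain ⟨-, y, hy, hxy⟩ := hxN
  refine ⟨x, hxβ, hx1, y, hy, hxy, ?_⟩
  by_cases hK : N ⊓ E = ⊥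
  · exfalso
    obtain ⟨u, hu, hun⟩ := hβ x hxβ hx1
    apply hun
    have hcom : ∀ e ∈ E, x * y * e = e * (x * y) := by
      intro e he
      have h1 : (x * y) * e * (x * y)⁻¹ * e⁻¹ ∈ N ⊓ E := by
        refine Subgroup.mem_inf.2 ⟨?_, mul_mem (hE _ (hNU hxy) e he) (inv_mem he)⟩
        have : (x * y) * e * (x * y)⁻¹ * e⁻¹ = (x * y) * (e * (x * y)⁻¹ * e⁻¹) := by group
        rw [this]
        exact mul_mem hxy (hN e (hEU he) _ (inv_mem hxy))
      rw [hK, mem_bot] at h1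
      calc x * y * e = ((x * y) * e * (x * y)⁻¹ * e⁻¹) * (e * (x * y)) := by group
        _ = _ := by rw [h1, one_mul]
    have h2 := hcom (y⁻¹ * u * y) (mul_mem (mul_mem (inv_mem hy) hu) hy)
    have h3 : x * u * x⁻¹ = y⁻¹ * u * y := by
      calc x * u * x⁻¹ = (x * y * (y⁻¹ * u * y)) * (x * y)⁻¹ := by group
        _ = ((y⁻¹ * u * y) * (x * y)) * (x * y)⁻¹ := by rw [h2]
        _ = _ := by group
    rw [h3]
    have h4 := cE y⁻¹ (inv_mem hy) u hu
    rwa [inv_inv] at h4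
  · obtain ⟨k, hk, hk1, hk2⟩ := exists_cent hE2 (hE2.to_le inf_le_right) (K := N ⊓ E) (by
      rintro e he k ⟨hk, hkE⟩
      exact Subgroup.mem_inf.2 ⟨hN e (hEU he) k hk, mul_mem (mul_mem he hkE) (inv_mem he)⟩) hK
    exact ⟨k, ZE k hk.2 fun e he => (hk2 e he).symm, hk1, hk.1⟩

end Cfsg.Agent.Omega.EH3Close.CThree

end

private theorem dce_1dc3113b39a2 : _root_.True := by
  try have : _root_.True := by simp only [_root_.Cfsg.Agent.Nodes.Reps.Btwn.congr_simp]
  exact _root_.True.intro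
end

-- part: Mrg/Omega/EH3/RowTwF4
section
prune_inst 0x10001100040000000000000000003e02660001900028880140000a400680a9000000012084801000000022000000004811000000000000000000000000000000002000020000a000000000000004000000000000000000000000000000000000000000000
set_option linter.all false
open scoped Cfsg.Agent.FastGrp

-- merged: Cfsg.Agent.Mrg.Omega.EH3.RowLTwo
section

/-!
# The rows `L₂(q)`, `q = 2^n ≥ 8`, of EH3 (helper796)

* `Cfg.eq_bot_of_fix` : a normal subgroup fixing `a` is trivial;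
* `false_of_gen` : a nontrivial normal subgroup generated by subgroups fixing `a`;
* `OddCover.injective_sl` : an odd cover of `SL(2, 2^n)` is injective (`S0102`, `S0262`);
* `row_sl` : `RowEH3 K` for `K ≅ SL(2, F)`, `F` finite of characteristic 2, `|F| ≥ 8`; `row_psl` : `K ≅ PSL(2, F)`.
-/

set_option autoImplicit false

namespace Cfsg.Agent.Omega.EH3

open Subgroup TwoF

universe u v w

/-- a normal subgroup fixing `a` is trivial -/
theorem Cfg.eq_bot_of_fix {H V : Type*} [Group H] [AddCommGroup V] [Module (ZMod 2) V]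
    {ρ : H →* (V ≃ₗ[ZMod 2] V)} {b : LinearMap.BilinForm (ZMod 2) V} {q : V → ZMod 2}
    {a : V} {D : Submodule (ZMod 2) V} {X : Subgroup H} {w : ℕ} (C : Cfg ρ b q a D X w)
    {N : Subgroup H} (hN : N.Normal) (hfix : ∀ n ∈ N, ρ n a = a) : N = ⊥ := by
  have hinv : ∀ h, ∀ u ∈ C.fixV N, ρ h u ∈ C.fixV N := by
    intro h u hu n hn
    have h1 := hu _ (hN.conj_mem n hn h⁻¹)
    have h2 : ρ (h * (h⁻¹ * n * h⁻¹⁻¹)) u = ρ (n * h) u := by congr 2; group
    rw [← C.ρ_mul, ← h2, C.ρ_mul, h1]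
  rcases C.irr _ hinv with h | h
  · exfalso
    apply C.a_ne
    have : a ∈ C.fixV N := hfix
    rw [h] at this
    exact this
  · rw [eq_bot_iff]
    intro n hn
    rw [Subgroup.mem_bot]
    apply C.ext
    intro u
    have : u ∈ C.fixV N := by rw [h]; trivial
    rw [this n hn, C.ρ_one]

section

variable {F : Type*} [Field F]

/-- a perfect group cannot be an odd cover of `SL(2, 2^n)` with nontrivial kernel -/
theorem injective_of_oddCover_sl [Finite F] [CharP F 2] {L : Type*} [Group L] [Finite L]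
    {π : L →* Matrix.SpecialLinearGroup (Fin 2) F} (hπ : OddCover π) : Function.Injective π := by
  have : Fintype F := Fintype.ofFinite F
  have : Fact (Nat.Prime 2) := ⟨Nat.prime_two⟩
  rw [← MonoidHom.ker_eq_bot_iff]
  by_contra hne
  have h1 : Nat.card π.ker ≠ 1 := by rwa [Ne, Subgroup.card_eq_one]
  obtain ⟨p, hp, hdvd⟩ := Nat.exists_prime_and_dvd h1
  have : Fact p.Prime := ⟨hp⟩
  have hp2 : p ≠ 2 := by
    rintro rfl
    exact (Nat.not_even_iff_odd.2 hπ.odd) (even_iff_two_dvd.2 hdvd)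
  have hG : commutator (Matrix.SpecialLinearGroup (Fin 2) F) = ⊤ := by
    rw [eq_top_iff]
    intro g _
    obtain ⟨x, rfl⟩ := hπ.surj g
    have hx : x ∈ commutator L := by rw [hπ.perf]; trivial
    rw [commutator_def] at hx ⊢
    have h2 := Subgroup.mem_map_of_mem π hx
    rw [Subgroup.map_commutator] at h2
    exact Subgroup.commutator_mono le_top le_top h2
  exact Cfsg.Agent.S0102.result hG (p := p)
    (fun P => Cfsg.Agent.S0262.result 2 p hp2 hp2 P) π hπ.surj hπ.cent hπ.perf hdvd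

/-- **The row `L₂(q)`, `q = 2^n ≥ 8`.** -/
theorem row_sl [Finite F] [CharP F 2] (h8 : 8 ≤ Nat.card F) {K : Type v} [Group K]
    (e : K ≃* Matrix.SpecialLinearGroup (Fin 2) F) : RowEH3.{u} K := by
  intro H V _ _ _ ρ b q a D X w L π hL hπ hX C
  have := C.finite_H
  have hπ' : OddCover (e.toMonoidHom.comp π) := hπ.comp e
  have hinj := injective_of_oddCover_sl hπ'
  obtain ⟨S, -, hS⟩ := C.exists_syl
  have hfix := fix_of_syl C (E := L) S hS (fun s _ l hl => hL.conj_mem l hl s) _ hπ'.surj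
    (by
      have : (e.toMonoidHom.comp π).ker = ⊥ := (MonoidHom.ker_eq_bot_iff _).2 hinj
      rw [this]
      exact IsPGroup.of_bot) h8
  have hbot := C.eq_bot_of_fix hL hfix
  -- `SL(2, F)` would be trivial
  obtain ⟨x, hx⟩ := hπ'.surj (uni (1 : F))
  have hx1 : x = 1 := by
    have h1 : (x : H) ∈ (⊥ : Subgroup H) := hbot.le x.2
    exact Subtype.ext (mem_bot.1 h1)
  rw [hx1, map_one] at hx
  have := congrArg (fun m : Matrix.SpecialLinearGroup (Fin 2) F => m.1 0 1) hx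
  simp only [uni_01, one_01] at this
  exact one_ne_zero this.symm

/-- in characteristic 2 the centre of `SL(2, F)` is trivial -/
theorem center_sl [CharP F 2] : center (Matrix.SpecialLinearGroup (Fin 2) F) = ⊥ := by
  rw [eq_bot_iff]
  intro g hg
  rw [mem_center_iff] at hg
  rw [mem_bot]
  have h1 := hg (uni 1)
  let v : Matrix.SpecialLinearGroup (Fin 2) F := ⟨!![1, 0; 1, 1], by simp [Matrix.det_fin_two]⟩
  have h2 := hg v
  have a1 := congrArg (fun m : Matrix.SpecialLinearGroup (Fin 2) F => m.1 0 0) h1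
  have a2 := congrArg (fun m : Matrix.SpecialLinearGroup (Fin 2) F => m.1 0 1) h1
  have b1 := congrArg (fun m : Matrix.SpecialLinearGroup (Fin 2) F => m.1 0 0) h2
  simp only [sl_mul, uni_00, uni_01, uni_10, uni_11] at a1 a2
  simp only [sl_mul, show v.1 0 0 = 1 from rfl, show v.1 0 1 = 0 from rfl, show v.1 1 0 = 1 from rfl,
    show v.1 1 1 = 1 from rfl] at b1
  have h10 : g.1 1 0 = 0 := by linear_combination a1
  have h01 : g.1 0 1 = 0 := by linear_combination -b1
  have h00 : g.1 0 0 = g.1 1 1 := by linear_combination -a2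
  have hdet := sl_det g
  rw [h10, h00, mul_zero, sub_zero] at hdet
  have h4 : g.1 1 1 = 1 := by
    have h5 : (g.1 1 1 - 1) * (g.1 1 1 - 1) = 0 := by
      have h2 : (2 : F) = 0 := CharTwo.two_eq_zero
      linear_combination hdet + (1 - g.1 1 1) * h2
    have h6 := mul_self_eq_zero.1 h5
    linear_combination h6
  exact sl_ext (by rw [h00, h4]; rfl) (by rw [h01]; rfl) (by rw [h10]; rfl) (by rw [h4]; rfl)

/-- `SL(2, F) ≅ PSL(2, F)` in characteristic 2 -/
noncomputable def slEquivPsl (F : Type*) [Field F] [CharP F 2] :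
    Matrix.SpecialLinearGroup (Fin 2) F ≃* Matrix.ProjectiveSpecialLinearGroup (Fin 2) F :=
  MulEquiv.ofBijective (QuotientGroup.mk' _) ⟨by
    rw [← MonoidHom.ker_eq_bot_iff, QuotientGroup.ker_mk']
    exact center_sl, QuotientGroup.mk'_surjective _⟩

theorem row_psl [Finite F] [CharP F 2] (h8 : 8 ≤ Nat.card F) {K : Type v} [Group K]
    (e : K ≃* Matrix.ProjectiveSpecialLinearGroup (Fin 2) F) : RowEH3.{u} K :=
  row_sl h8 (e.trans (slEquivPsl F).symm)

end

end Cfsg.Agent.Omega.EH3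

end

-- merged: Cfsg.Agent.Mrg.Omega.EH3.RowInner
section

/-!
# Rows of EH3 whose automorphisms of 2-power order are inner (helper796)

* `Tr E T` : `T` a 2-group, transitive on `E / N_E(T)` minus the base point; `Tr.fix` : if `N_E(T) / T` is abelian of
  order prime to 6 and `|E : N_E(T)| > 5` then `E` fixes `a` (the Suzuki version of LEMMA NODE without the kernel);
* `row_inner` : `K` centreless with all automorphisms of 2-power order inner, `P` a Sylow 2-subgroup, `N_K(P) / P` abelian of order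
  prime to 6, `K = ⟨E₁, E₂⟩` with two such nodes over `P`: then `RowEH3 K`.
-/

set_option autoImplicit false

namespace Cfsg.Agent.Omega.EH3

open Subgroup TwoF

universe u v w

/-- `T` a 2-subgroup of `E`, transitive on the points `≠ N_E(T)`. -/
structure Tr {H : Type*} [Group H] (E T : Subgroup H) : Prop where
  T_le : T ≤ E
  two : IsPGroup 2 T
  trans : ∀ g ∈ E, g ∉ normalizer (T : Set H) → ∀ h ∈ E, h ∉ normalizer (T : Set H) →
    ∃ t ∈ T, (t * g)⁻¹ * h ∈ normalizer (T : Set H)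

namespace Tr

variable {H V : Type*} [Group H] [AddCommGroup V] [Module (ZMod 2) V]
  {ρ : H →* (V ≃ₗ[ZMod 2] V)} {b : LinearMap.BilinForm (ZMod 2) V} {q : V → ZMod 2}
  {a : V} {D : Submodule (ZMod 2) V} {X : Subgroup H} {w : ℕ} {E T : Subgroup H}

/-- one element `e ∈ E ∖ B` fixing `a` suffices if `B` fixes `a` -/
theorem fix_all (C : Cfg ρ b q a D X w) (h : Tr E T) (hx : XCond ρ a X E T)
    (hB : ∀ g ∈ E, g ∈ normalizer (T : Set H) → ρ g a = a) {e : H} (he : e ∈ E)
    (heN : e ∉ normalizer (T : Set H)) (hea : ρ e a = a) : ∀ g ∈ E, ρ g a = a := by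
  intro g hg
  by_cases hgN : g ∈ normalizer (T : Set H)
  · exact hB g hg hgN
  obtain ⟨t, ht, hn⟩ := h.trans e he heN g hg hgN
  have h1 : g = t * e * ((t * e)⁻¹ * g) := by group
  have h2 := hB _ (E.mul_mem (E.inv_mem (E.mul_mem (h.T_le ht) he)) hg) hn
  rw [h1, C.ρ_mul, h2, C.ρ_mul, hea, hx.Ta t ht]

/-- **fixE.** -/
theorem fixE (C : Cfg ρ b q a D X w) (h : Tr E T) (hx : XCond ρ a X E T)
    (hB : ∀ g ∈ E, g ∈ normalizer (T : Set H) → ρ g a = a)
    (hcard : 5 < (normalizer (T : Set H)).relIndex E) : ∀ g ∈ E, ρ g a = a := by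
  classical
  have := C.finite_V
  have := C.finite_H
  by_contra hcon
  push Not at hcon
  obtain ⟨g0, hg0, hga0⟩ := hcon
  -- `C_E(a) = B`
  have hstab : ∀ g ∈ E, ρ g a = a → g ∈ normalizer (T : Set H) := by
    intro g hg hga
    by_contra hgN
    exact hga0 (fix_all C h hx hB hg hgN hga g0 hg0)
  have h4 := C.perm_four hx.XE h.two h.T_le hx.Ta (by
    intro g hg k hk hga hka
    obtain ⟨t, ht, hn⟩ := h.trans g hg (fun hgN => hga (hB g hg hgN)) k hk
      (fun hkN => hka (hB k hk hkN))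
    refine ⟨t, ht, ?_⟩
    have h1 : t * g * ((t * g)⁻¹ * k) = k := by group
    have h2 := hB _ (E.mul_mem (E.inv_mem (E.mul_mem (h.T_le ht) hg)) hk) hn
    calc ρ (t * g) a = ρ (t * g) (ρ ((t * g)⁻¹ * k) a) := by rw [h2]
      _ = ρ k a := by rw [← C.ρ_mul, h1])
  -- the number of points
  let Ω : Set V := {v | ∃ g ∈ E, ρ g a = v}
  have hΩ : Ω = insert a (Cfg.PtsE ρ a E) := by
    ext v
    constructor
    · rintro ⟨g, hg, rfl⟩
      by_cases hga : ρ g a = a
      · exact Or.inl hga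
      · exact Or.inr ⟨⟨g, hg, rfl⟩, hga⟩
    · rintro (rfl | ⟨⟨g, hg, hgv⟩, -⟩)
      · exact ⟨1, E.one_mem, C.ρ_one _⟩
      · exact ⟨g, hg, hgv⟩
  have hle : Ω.ncard ≤ 5 := by
    rw [hΩ]
    exact (Set.ncard_insert_le _ _).trans (by omega)
  have hge : (normalizer (T : Set H)).relIndex E ≤ Ω.ncard := by
    rw [Subgroup.relIndex, Subgroup.index, ← Nat.card_coe_set_eq]
    refine Nat.card_le_card_of_injective
      (fun x : E ⧸ (normalizer (T : Set H)).subgroupOf E =>
        (⟨ρ ((Quotient.out x : E) : H) a, ((Quotient.out x : E) : H), (Quotient.out x).2, rfl⟩ : Ω)) ?_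
    intro x y hxy
    have h1 : ρ ((Quotient.out x : E) : H) a = ρ ((Quotient.out y : E) : H) a := congrArg Subtype.val hxy
    have h2 : ρ (((Quotient.out x : E) : H)⁻¹ * ((Quotient.out y : E) : H)) a = a := by
      rw [C.ρ_mul, ← h1, C.ρ_inv_apply]
    have h3 := hstab _ (E.mul_mem (E.inv_mem (Quotient.out x).2) (Quotient.out y).2) h2
    have h4 : (QuotientGroup.mk (Quotient.out x) : E ⧸ (normalizer (T : Set H)).subgroupOf E)
        = QuotientGroup.mk (Quotient.out y) := by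
      rw [QuotientGroup.eq]
      exact h3
    have h5 : ∀ z : E ⧸ (normalizer (T : Set H)).subgroupOf E,
        (QuotientGroup.mk (Quotient.out z) : E ⧸ (normalizer (T : Set H)).subgroupOf E) = z :=
      fun z => Quotient.out_eq z
    rw [h5, h5] at h4
    exact h4
  omega

/-- The Suzuki version of LEMMA NODE, without the kernel. -/
theorem fix (C : Cfg ρ b q a D X w) (h : Tr E T) (hx : XCond ρ a X E T)
    (hcomm : ∀ g ∈ E, g ∈ normalizer (T : Set H) → ∀ k ∈ E, k ∈ normalizer (T : Set H) →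
      g * k * g⁻¹ * k⁻¹ ∈ T)
    (hord : ∀ g ∈ E, g ∈ normalizer (T : Set H) → ∃ m : ℕ, Odd m ∧ Nat.Coprime m 3 ∧ g ^ m ∈ T)
    (hcard : 5 < (normalizer (T : Set H)).relIndex E) : ∀ g ∈ E, ρ g a = a :=
  h.fixE C hx (Pre.fixB_of_coprime C hx hcomm hord) hcard

end Tr

/-! ### Transport to a subgroup isomorphic to `K` -/

section pull

variable {H : Type*} [Group H] {K : Type*} [Group K] {L : Subgroup H} (e : L ≃* K)

theorem pull_relIndex (ψ : L →* K) (hψ : Function.Surjective ψ) (T E : Subgroup K) :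
    (normalizer ((pull ψ T : Subgroup H) : Set H)).relIndex (pull ψ E)
      = (normalizer (T : Set K)).relIndex E := by
  have h1 : (normalizer ((pull ψ T : Subgroup H) : Set H)).relIndex (pull ψ E)
      = ((normalizer ((pull ψ T : Subgroup H) : Set H)).comap L.subtype).relIndex (E.comap ψ) := by
    rw [Subgroup.relIndex_comap]
    rfl
  have h2 : (normalizer ((pull ψ T : Subgroup H) : Set H)).comap L.subtype
      = (normalizer (T : Set K)).comap ψ := by
    ext g
    exact mem_normalizer_pull ψ hψ T g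
  rw [h1, h2, Subgroup.relIndex_comap, Subgroup.map_comap_eq_self_of_surjective hψ]

theorem Tr.pull {ψ : L →* K} (hψ : Function.Bijective ψ) {T E : Subgroup K} (h : Tr E T) :
    Tr (EH3.pull ψ E) (EH3.pull ψ T) where
  T_le := by
    intro g hg
    obtain ⟨hg, h1⟩ := (mem_pull ψ T).1 hg
    exact (mem_pull ψ E).2 ⟨hg, h.T_le h1⟩
  two := by
    have h1 : IsPGroup 2 (T.comap ψ) := h.two.comap_of_injective ψ hψ.1
    exact h1.map _
  trans := by
    intro g hg hgN k hk hkN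
    obtain ⟨hgL, hg⟩ := (mem_pull ψ E).1 hg
    obtain ⟨hkL, hk⟩ := (mem_pull ψ E).1 hk
    have h1 := mem_normalizer_pull ψ hψ.2 T ⟨g, hgL⟩
    have h2 := mem_normalizer_pull ψ hψ.2 T ⟨k, hkL⟩
    obtain ⟨t, ht, htn⟩ := h.trans _ hg (fun h => hgN (h1.2 h)) _ hk (fun h => hkN (h2.2 h))
    obtain ⟨s, rfl⟩ := hψ.2 t
    refine ⟨s, (mem_pull_coe ψ T s).2 ht, ?_⟩
    rw [← map_mul, ← map_inv, ← map_mul, ← mem_normalizer_pull ψ hψ.2] at htn
    exact htn

end pull

/-- **Rows with inner automorphisms.** -/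
theorem row_inner {K : Type v} [Group K] (hcK : center K = ⊥)
    (hin : ∀ (α : MulAut K) (n : ℕ), α ^ 2 ^ n = 1 → ∃ x, α = MulAut.conj x) (P : Sylow 2 K)
    (hcomm : ∀ g ∈ normalizer ((P : Subgroup K) : Set K), ∀ k ∈ normalizer ((P : Subgroup K) : Set K),
      g * k * g⁻¹ * k⁻¹ ∈ P)
    (hord : ∀ g ∈ normalizer ((P : Subgroup K) : Set K), ∃ m : ℕ, Odd m ∧ Nat.Coprime m 3 ∧ g ^ m ∈ P)
    {E₁ E₂ : Subgroup K} (h₁ : Tr E₁ P) (h₂ : Tr E₂ P)
    (c₁ : 5 < (normalizer ((P : Subgroup K) : Set K)).relIndex E₁)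
    (c₂ : 5 < (normalizer ((P : Subgroup K) : Set K)).relIndex E₂)
    (hgen : E₁ ⊔ E₂ = ⊤) (hne : ∃ k : K, k ≠ 1) : RowEH3.{u} K := by
  intro H V _ _ _ ρ b q a D X w L π hL hπ hX C
  have := C.finite_H
  have hp2 : Fact (Nat.Prime 2) := ⟨Nat.prime_two⟩
  have : Finite K := Finite.of_surjective π hπ.surj
  obtain ⟨f, hf⟩ := hπ.exists_hom hcK
  -- the elements of `X` act as inner automorphisms
  have hxl : ∀ x ∈ X, ∃ l : L, ∀ y : L, x * (y : H) * x⁻¹ = (l : H) * y * (l : H)⁻¹ := by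
    intro x hx
    have h2 : f x ^ 2 ^ 1 = 1 := by
      rw [pow_one, ← map_pow, pow_two, C.X_sq x hx, map_one]
    obtain ⟨k, hk⟩ := hin _ _ h2
    obtain ⟨l, rfl⟩ := hπ.surj k
    refine ⟨l, ?_⟩
    have h3 : f ((l : H)⁻¹ * x) = 1 := by
      rw [map_mul, map_inv, hk, Count.rho_coe hπ hf l, inv_mul_cancel]
    have h4 := Count.mem_centralizer_of_rho hπ hcK hf h3
    rw [mem_centralizer_iff] at h4
    intro y
    have h5 := h4 y y.2
    have h6 : x = l * ((l : H)⁻¹ * x) := by group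
    calc x * y * x⁻¹ = (l * ((l : H)⁻¹ * x)) * y * (l * ((l : H)⁻¹ * x))⁻¹ := by rw [← h6]
      _ = l * (((l : H)⁻¹ * x) * y) * ((l : H)⁻¹ * x)⁻¹ * (l : H)⁻¹ := by group
      _ = l * (y * ((l : H)⁻¹ * x)) * ((l : H)⁻¹ * x)⁻¹ * (l : H)⁻¹ := by rw [h5]
      _ = _ := by group
  -- the centre of `L` fixes `a`
  have hZ : π.ker = ⊥ := by
    have hZn : (π.ker.map L.subtype).Normal := by
      rw [hπ.ker_eq hcK]
      exact ConjAct.normal_of_characteristic_of_normal
    have h1 := C.eq_bot_of_fix hZn (by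
      rintro _ ⟨z, hz, rfl⟩
      have hz' := hπ.cent hz
      apply C.fix_of_cent
      intro x hx
      obtain ⟨l, hl⟩ := hxl x hx
      have h2 : (l : H) * z * (l : H)⁻¹ = z := by
        have := mem_center_iff.1 hz' l
        have h3 : (l : H) * z = z * l := congrArg Subtype.val this
        rw [h3, mul_inv_cancel_right]
      show ρ (x * (z : H) * x⁻¹) a = ρ (z : H) a
      rw [hl, h2])
    rw [eq_bot_iff]
    intro z hz
    have h2 : (z : H) ∈ π.ker.map L.subtype := ⟨z, hz, rfl⟩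
    rw [h1, mem_bot] at h2
    exact Subtype.ext h2
  have hinj : Function.Injective π := (MonoidHom.ker_eq_bot_iff _).1 hZ
  -- the Sylow 2-subgroup
  obtain ⟨S, hXS, hS⟩ := C.exists_syl
  have hSn : ∀ s ∈ S, ∀ y ∈ L, s * y * s⁻¹ ∈ L := fun s _ y hy => hL.conj_mem y hy s
  let T : Subgroup H := (S : Subgroup H) ⊓ L
  have hTmax : ∀ Q : Subgroup H, Q ≤ L → IsPGroup 2 Q → T ≤ Q → Q = T :=
    fun Q hQL hQ hle => syl_inf_maximal S hSn hQL hQ hle
  have hT2 : IsPGroup 2 T := S.isPGroup'.to_le inf_le_left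
  -- the image of `T` in `K` is a Sylow 2-subgroup
  let TK : Subgroup K := (T.subgroupOf L).map π
  have hTK : IsPGroup 2 TK := (hT2.comap_subtype (K := L)).map π
  obtain ⟨Q, hQ⟩ := hTK.exists_le_sylow
  have hQT : (Q : Subgroup K) = TK := by
    refine le_antisymm ?_ hQ
    have h1 : IsPGroup 2 (pull π (Q : Subgroup K)) :=
      (Q.isPGroup'.comap_of_injective π hinj).map _
    have h2 := hTmax _ (pull_le π _) h1 (by
      intro t ht
      exact (mem_pull π _).2 ⟨ht.2, hQ ⟨⟨t, ht.2⟩, ht, rfl⟩⟩)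
    intro k hk
    obtain ⟨l, rfl⟩ := hπ.surj k
    have h3 : (l : H) ∈ pull π (Q : Subgroup K) := (mem_pull_coe π _ l).2 hk
    rw [h2] at h3
    exact ⟨l, h3, rfl⟩
  obtain ⟨k, hk⟩ := MulAction.exists_smul_eq K Q P
  -- the new isomorphism
  let ψ : L →* K := (MulAut.conj k).toMonoidHom.comp π
  have hψ : Function.Bijective ψ := ⟨(MulAut.conj k).injective.comp hinj, (MulAut.conj k).surjective.comp hπ.surj⟩
  have hψT : pull ψ (P : Subgroup K) = T := by
    have hmem : ∀ l : L, ψ l ∈ (P : Subgroup K) ↔ (l : H) ∈ T := by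
      intro l
      rw [← hk, Sylow.coe_subgroup_smul, Subgroup.mem_pointwise_smul_iff_inv_smul_mem, ← map_inv,
        MulAut.smul_def, MulAut.conj_apply, inv_inv, hQT]
      have h1 : k⁻¹ * ψ l * k = π l := by
        show k⁻¹ * (k * π l * k⁻¹) * k = π l
        group
      rw [h1]
      constructor
      · rintro ⟨l', hl', h2⟩
        rw [hinj h2] at hl'
        exact hl'
      · intro hl
        exact ⟨l, hl, rfl⟩
    ext g
    rw [mem_pull]
    constructor
    · rintro ⟨hg, h1⟩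
      exact (hmem ⟨g, hg⟩).1 h1
    · intro hg
      exact ⟨hg.2, (hmem ⟨g, hg.2⟩).2 hg⟩
  -- `X` acts on `L` as elements of `T`
  have hxT : ∀ x ∈ X, ∃ t ∈ T, ∀ y ∈ L, x * y * x⁻¹ = t * y * t⁻¹ := by
    intro x hx
    obtain ⟨l, hl⟩ := hxl x hx
    have hxx : ∀ y : L, (l * l) * y = y * (l * l) := by
      intro y
      have h1 : x * (x * y * x⁻¹) * x⁻¹ = y := by
        calc x * (x * y * x⁻¹) * x⁻¹ = (x * x) * y * (x * x)⁻¹ := by group
          _ = y := by rw [C.X_sq x hx]; group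
      have h2 : x * (x * y * x⁻¹) * x⁻¹ = (l : H) * (l * y * (l : H)⁻¹) * (l : H)⁻¹ := by
        have h3 := hl ⟨x * y * x⁻¹, hL.conj_mem y y.2 x⟩
        have h4 : x * (x * y * x⁻¹) * x⁻¹ = l * (x * y * x⁻¹) * (l : H)⁻¹ := h3
        rw [h4, hl y]
      apply Subtype.ext
      push_cast
      rw [h1] at h2
      calc (l : H) * l * y = ((l : H) * (l * y * (l : H)⁻¹) * (l : H)⁻¹) * (l * l) := by group
        _ = y * (l * l) := by rw [← h2]
    have hll : l * l = 1 := by
      have h1 : l * l ∈ center L := mem_center_iff.2 fun y => (hxx y).symm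
      rw [← hπ.ker_eq hcK, hZ, mem_bot] at h1
      exact h1
    refine ⟨l, ?_, fun y hy => hl ⟨y, hy⟩⟩
    -- `l` normalises `T`
    have hlT : ∀ t ∈ T, (l : H) * t * (l : H)⁻¹ ∈ T := by
      intro t ht
      have h1 := hl ⟨t, ht.2⟩
      have h2 : x * t * x⁻¹ = l * t * (l : H)⁻¹ := h1
      rw [← h2]
      exact ⟨S.mul_mem (S.mul_mem (hXS hx) ht.1) (S.inv_mem (hXS hx)), hL.conj_mem t ht.2 x⟩
    have hl1 : (l : H)⁻¹ = l := by
      rw [inv_eq_iff_mul_eq_one]
      exact congrArg Subtype.val hll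
    have hln : zpowers (l : H) ≤ normalizer (T : Set H) := by
      rw [zpowers_le, mem_normalizer_iff]
      intro t
      refine ⟨hlT t, fun ht => ?_⟩
      have h1 := hlT _ ht
      have h2 : (l : H) * (l * t * (l : H)⁻¹) * (l : H)⁻¹ = (l * l : L) * t * ((l * l : L) : H)⁻¹ := by
        push_cast; group
      rw [h2, hll] at h1
      simpa using h1
    have hz2 : IsPGroup 2 (zpowers (l : H)) := by
      rintro ⟨y, hy⟩
      obtain ⟨i, rfl⟩ := Subgroup.mem_zpowers_iff.1 hy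
      refine ⟨1, Subtype.ext ?_⟩
      have h1 : (l : H) * l = 1 := congrArg Subtype.val hll
      show ((l : H) ^ i) ^ 2 ^ 1 = 1
      rw [← zpow_natCast, ← zpow_mul, mul_comm, zpow_mul]
      have h2 : (l : H) ^ ((2 ^ 1 : ℕ) : ℤ) = 1 := by
        rw [zpow_natCast, pow_one, pow_two, h1]
      rw [h2, one_zpow]
    have h3 : IsPGroup 2 (zpowers (l : H) ⊔ T : Subgroup H) := IsPGroup.to_sup_of_normal_right' hz2 hT2 hln
    have h4 := hTmax _ (sup_le ((zpowers_le).2 l.2) inf_le_right) h3 le_sup_right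
    rw [← h4]
    exact (le_sup_left : zpowers (l : H) ≤ _) (mem_zpowers _)
  have hfix : ∀ E : Subgroup K, Tr E (P : Subgroup K) →
      5 < (normalizer ((P : Subgroup K) : Set K)).relIndex E → ∀ l : L, ψ l ∈ E → ρ (l : H) a = a := by
    intro E hE hc l hl
    have h1 : XCond ρ a X (pull ψ E) T := by
      refine ⟨?_, ?_, fun t ht => hS ht.1⟩
      · intro x hx y hy
        obtain ⟨t, ht, h2⟩ := hxT x hx
        rw [h2 y (pull_le ψ E hy)]
        have ht' : t ∈ pull ψ E := by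
          have : pull ψ (P : Subgroup K) ≤ pull ψ E := by
            intro g hg
            obtain ⟨hg, h3⟩ := (mem_pull ψ _).1 hg
            exact (mem_pull ψ E).2 ⟨hg, hE.T_le h3⟩
          exact this (by rw [hψT]; exact ht)
        exact mul_mem (mul_mem ht' hy) (inv_mem ht')
      · intro x hx t ht
        exact ⟨S.mul_mem (S.mul_mem (hXS hx) ht.1) (S.inv_mem (hXS hx)), hL.conj_mem t ht.2 x⟩
    have h2 : Tr (pull ψ E) T := by
      have := hE.pull hψ
      rwa [hψT] at this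
    have hN : ∀ g, g ∈ pull ψ E → g ∈ normalizer (T : Set H) →
        ∃ l : L, (l : H) = g ∧ ψ l ∈ normalizer ((P : Subgroup K) : Set K) := by
      intro g hg hgN
      obtain ⟨hgL, -⟩ := (mem_pull ψ E).1 hg
      refine ⟨⟨g, hgL⟩, rfl, ?_⟩
      rw [← hψT] at hgN
      exact (mem_normalizer_pull ψ hψ.2 _ ⟨g, hgL⟩).1 hgN
    refine h2.fix C h1 ?_ ?_ ?_ l ((mem_pull_coe ψ E l).2 hl)
    · intro g hg hgN k hk hkN
      obtain ⟨g, rfl, hg'⟩ := hN g hg hgN
      obtain ⟨k, rfl, hk'⟩ := hN k hk hkN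
      have h3 := hcomm _ hg' _ hk'
      rw [← hψT]
      have h4 := mem_pull_coe ψ (P : Subgroup K) (g * k * g⁻¹ * k⁻¹)
      push_cast at h4
      rw [h4, map_mul, map_mul, map_mul, map_inv, map_inv]
      exact h3
    · intro g hg hgN
      obtain ⟨g, rfl, hg'⟩ := hN g hg hgN
      obtain ⟨m, hm, hm3, h3⟩ := hord _ hg'
      refine ⟨m, hm, hm3, ?_⟩
      rw [← hψT]
      have h4 := mem_pull_coe ψ (P : Subgroup K) (g ^ m)
      push_cast at h4
      rw [h4, map_pow]
      exact h3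
    · have h3 := pull_relIndex (H := H) ψ hψ.2 (P : Subgroup K) E
      rw [hψT] at h3
      rw [h3]
      exact hc
  -- `L` fixes `a`
  have hLa : ∀ l ∈ L, ρ l a = a := by
    have h1 : (⊤ : Subgroup K) ≤ ((stab ρ a).comap L.subtype).map ψ := by
      rw [← hgen]
      refine sup_le ?_ ?_
      · intro k hk
        obtain ⟨l, rfl⟩ := hψ.2 k
        exact ⟨l, hfix E₁ h₁ c₁ l hk, rfl⟩
      · intro k hk
        obtain ⟨l, rfl⟩ := hψ.2 k
        exact ⟨l, hfix E₂ h₂ c₂ l hk, rfl⟩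
    intro l hl
    obtain ⟨l', hl', h2⟩ := h1 (mem_top (ψ ⟨l, hl⟩))
    have h3 := hψ.1 h2
    rw [h3] at hl'
    exact hl'
  have hbot := C.eq_bot_of_fix hL hLa
  obtain ⟨k, hk⟩ := hne
  obtain ⟨l, rfl⟩ := hπ.surj k
  apply hk
  have h1 : (l : H) ∈ (⊥ : Subgroup H) := hbot.le l.2
  have h2 : l = 1 := Subtype.ext (mem_bot.1 h1)
  rw [h2, map_one]

end Cfsg.Agent.Omega.EH3

end

-- merged: Cfsg.Agent.Mrg.Omega.EH3.RowTwF4
section

/-!
# The row `²F₄(q)`, `q ≥ 8`, of EH3 (helper796)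

The nodes `⟨X_1, …, X_9⟩` and `⟨X_0, …, X_8⟩` over `U = ⟨X_1, …, X_8⟩`; `N(U) / U` is the torus, abelian of exponent
`q - 1`, prime to 6; all automorphisms of 2-power order are inner: `row_inner` applies.
-/

set_option autoImplicit false
set_option linter.unusedSectionVars false

namespace Cfsg.Agent.Omega.EH3.TwF4Row

open Cfsg.Agent.SplitTwo Cfsg.Agent.SplitTwo.ZS Cfsg.Agent.TitsThree.RankTwoZ Cfsg.Agent.SplitTwo.RootSysZ
open Cfsg.Agent.KFacts.TwF4 Cfsg.Agent.KFacts.TwF4.Arc Cfsg.Agent.KFacts.TwF4.Inv Cfsg.Agent.KFacts.TwF4.SylU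
open Cfsg.Agent.KFacts.TwF4.Perf Cfsg.Agent.KFacts.TwF4.OutTwo
open Cfsg.Lie
open scoped commutatorElement

universe u v

section coord

variable {F : Type*} [Field F] {σ : F →+* F} {G : Type v} [Group G] (S : Full σ G)

/-- `X_9 ∩ U = 1` -/
theorem X9_inf_U {x : G} (h9 : x ∈ S.XZ 9) (hU : x ∈ J S.XZ 1 8) : x = 1 := by
  have Z := S.zsys8
  by_contra hx1
  obtain ⟨v, hv, v', hv', hn⟩ := Z.mu 9 x h9 hx1
  rw [show (9 : ℤ) - 8 = 1 by norm_num] at hv hv'
  have hnU : v * x * v' ∈ J S.XZ 1 8 :=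
    mul_mem (mul_mem (mem_J hv le_rfl (by norm_num)) hU) (mem_J hv' le_rfl (by norm_num))
  have h1 : S.o 3 1 ∈ S.XZ 7 := S.mX7 1
  have h2 := S.comm_seven hnU h1
  have h3 := hn.mem h1
  rw [show (2 : ℤ) * 9 - 8 - 7 = 3 by norm_num] at h3
  rw [commutatorElement_def] at h2
  have h4 : S.o 3 1 ∈ J S.XZ 2 6 := by
    have e : S.o 3 1 = (v * x * v' * S.o 3 1 * (v * x * v')⁻¹ * (S.o 3 1)⁻¹)⁻¹ *
        (v * x * v' * S.o 3 1 * (v * x * v')⁻¹) := by group
    rw [e]
    exact mul_mem (inv_mem h2) (mem_J h3 (by norm_num) (by norm_num))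
  exact one_ne_zero (S.o_eq_one (Z.inter_one 1 (X_le_J (le_refl (7 : ℤ)) (le_refl (7 : ℤ)) h1) h4 (by norm_num)
    (by norm_num) (by norm_num) (by norm_num) (Or.inr (by norm_num))))

variable [Finite F] [Finite G]

theorem U_le_N {b : G} (hb : b ∈ J S.XZ 1 8) : b ∈ Subgroup.normalizer ((J S.XZ 1 8 : Subgroup G) : Set G) :=
  Subgroup.le_normalizer hb

theorem T_le_N {t : G} (ht : t ∈ S.T) : t ∈ Subgroup.normalizer ((J S.XZ 1 8 : Subgroup G) : Set G) := by
  rw [Subgroup.mem_normalizer_iff]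
  intro x
  refine ⟨fun hx => S.T_conj_J ht hx, fun hx => ?_⟩
  have h1 := S.T_conj_J (inv_mem ht) hx
  have e : t⁻¹ * (t * x * t⁻¹) * t⁻¹⁻¹ = x := by group
  rwa [e] at h1

/-- the normaliser of `U` -/
theorem mem_N (hF : ∃ c : Fˣ, c ≠ 1) (hR : S.R.p = 2) {g : G} :
    g ∈ Subgroup.normalizer ((J S.XZ 1 8 : Subgroup G) : Set G) ↔ ∃ b ∈ J S.XZ 1 8, ∃ t ∈ S.T, g = b * t := by
  constructor
  · intro hg
    exact norm_U S hF hR (Subgroup.mem_normalizer_iff.1 hg)
  · rintro ⟨b, hb, t, ht, rfl⟩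
    exact mul_mem (U_le_N S hb) (T_le_N S ht)

/-- an involution normalising `U` lies in `U` -/
theorem mem_U_of_sq (hF : ∃ c : Fˣ, c ≠ 1) (hR : S.R.p = 2) {g : G}
    (hg : g ∈ Subgroup.normalizer ((J S.XZ 1 8 : Subgroup G) : Set G)) (hgg : g * g = 1) : g ∈ J S.XZ 1 8 := by
  obtain ⟨b, hb, t, ht, rfl⟩ := (mem_N S hF hR).1 hg
  obtain ⟨c, d, rfl⟩ := S.mem_T.1 ht
  have h1 : S.h c d * S.h c d ∈ J S.XZ 1 8 := by
    have e : S.h c d * S.h c d = (S.h c d * b * (S.h c d)⁻¹)⁻¹ * b⁻¹ * ((b * S.h c d) * (b * S.h c d)) := by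
      have : (b * S.h c d) * (b * S.h c d) = b * (S.h c d * b * (S.h c d)⁻¹) * (S.h c d * S.h c d) := by group
      rw [this]; group
    rw [e, hgg, mul_one]
    exact mul_mem (inv_mem (S.T_conj_J ht hb)) (inv_mem hb)
  rw [S.h_mul] at h1
  obtain ⟨h2, h3⟩ := torus_mem_two S (two_J S hR (a := 1) (b := 8) (by norm_num)) h1
  have hc : c = 1 := unit_sq S h2
  have hd : d = 1 := unit_sq S h3
  rw [hc, hd, S.h_one, mul_one]
  exact hb

theorem comm_N (hF : ∃ c : Fˣ, c ≠ 1) (hR : S.R.p = 2) {g k : G}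
    (hg : g ∈ Subgroup.normalizer ((J S.XZ 1 8 : Subgroup G) : Set G))
    (hk : k ∈ Subgroup.normalizer ((J S.XZ 1 8 : Subgroup G) : Set G)) : g * k * g⁻¹ * k⁻¹ ∈ J S.XZ 1 8 := by
  obtain ⟨b, hb, t, ht, rfl⟩ := (mem_N S hF hR).1 hg
  obtain ⟨c, hc, s, hs, rfl⟩ := (mem_N S hF hR).1 hk
  have hts := T_comm S ht hs
  have e : b * t * (c * s) * (b * t)⁻¹ * (c * s)⁻¹ =
      b * (t * c * t⁻¹) * (((t * s) * t⁻¹) * b⁻¹ * ((t * s) * t⁻¹)⁻¹) * (((t * s) * t⁻¹) * s⁻¹) * c⁻¹ := by group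
  have e2 : t * s * t⁻¹ = s := by rw [hts]; group
  rw [e, e2, mul_inv_cancel, mul_one]
  exact mul_mem (mul_mem (mul_mem hb (S.T_conj_J ht hc)) (S.T_conj_J hs (inv_mem hb))) (inv_mem hc)

theorem pow_N (hF : ∃ c : Fˣ, c ≠ 1) (hR : S.R.p = 2) {g : G}
    (hg : g ∈ Subgroup.normalizer ((J S.XZ 1 8 : Subgroup G) : Set G)) :
    g ^ (Nat.card F - 1) ∈ J S.XZ 1 8 := by
  obtain ⟨b, hb, t, ht, rfl⟩ := (mem_N S hF hR).1 hg
  have key : ∀ n : ℕ, ∃ u ∈ J S.XZ 1 8, (b * t) ^ n = u * t ^ n := by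
    intro n
    induction n with
    | zero => exact ⟨1, one_mem _, by simp⟩
    | succ n ih =>
      obtain ⟨u, hu, e⟩ := ih
      refine ⟨u * (t ^ n * b * (t ^ n)⁻¹), mul_mem hu (S.T_conj_J (pow_mem ht n) hb), ?_⟩
      rw [pow_succ, e, pow_succ]
      group
  obtain ⟨u, hu, e⟩ := key (Nat.card F - 1)
  obtain ⟨c, d, rfl⟩ := S.mem_T.1 ht
  have h1 : ∀ x : Fˣ, x ^ (Nat.card F - 1) = 1 := by
    intro x
    let _ := Fintype.ofFinite F
    have h2 : Nat.card Fˣ = Nat.card F - 1 := Nat.card_units F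
    rw [← h2]
    exact pow_card_eq_one'
  rw [e, h_pow, h1, h1, S.h_one, mul_one]
  exact hu

theorem cop_three (m : ℕ) : Nat.Coprime (2 ^ (2 * m + 1) - 1) 3 := by
  rw [Nat.coprime_comm, Nat.Prime.coprime_iff_not_dvd Nat.prime_three]
  intro h
  have h1 : 2 ^ (2 * m + 1) % 3 = 2 := by
    rw [pow_succ, pow_mul, Nat.mul_mod, Nat.pow_mod]
    norm_num
  have h2 := Nat.one_le_two_pow (n := 2 * m + 1)
  omega

/-- the abstract transitivity -/
theorem tr_of_form (hF : ∃ c : Fˣ, c ≠ 1) (hR : S.R.p = 2) {E : Subgroup G} (hUE : J S.XZ 1 8 ≤ E) {n : G}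
    (hn : ∀ t ∈ S.T, n⁻¹ * t * n ∈ S.T)
    (hform : ∀ g ∈ E, ∃ b ∈ J S.XZ 1 8, ∃ t ∈ S.T, g = b * t ∨ ∃ b' ∈ J S.XZ 1 8, g = b * (t * n) * b') :
    Tr E (J S.XZ 1 8) where
  T_le := hUE
  two := two_J S hR (by norm_num)
  trans := by
    intro g hg hgN k hk hkN
    obtain ⟨b, hb, t, ht, h | ⟨b', hb', h⟩⟩ := hform g hg
    · exact absurd ((mem_N S hF hR).2 ⟨b, hb, t, ht, h⟩) hgN
    obtain ⟨c, hc, s, hs, h' | ⟨c', hc', h'⟩⟩ := hform k hk
    · exact absurd ((mem_N S hF hR).2 ⟨c, hc, s, hs, h'⟩) hkN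
    refine ⟨c * b⁻¹, mul_mem hc (inv_mem hb), ?_⟩
    have e : (c * b⁻¹ * g)⁻¹ * k = b'⁻¹ * (n⁻¹ * (t⁻¹ * s) * n) * c' := by
      rw [h, h']; group
    rw [e]
    exact mul_mem (mul_mem (inv_mem (U_le_N S hb')) (T_le_N S (hn _ (mul_mem (inv_mem ht) hs)))) (U_le_N S hc')

/-- a lower bound for the number of points -/
theorem card_le_relIndex {E : Subgroup G} (f : F → G) (hf : ∀ t, f t ∈ E)
    (hinj : ∀ s t, (f s)⁻¹ * f t ∈ Subgroup.normalizer ((J S.XZ 1 8 : Subgroup G) : Set G) → s = t) :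
    Nat.card F ≤ (Subgroup.normalizer ((J S.XZ 1 8 : Subgroup G) : Set G)).relIndex E := by
  rw [Subgroup.relIndex, Subgroup.index]
  refine Nat.card_le_card_of_injective
    (fun t : F => (QuotientGroup.mk (⟨f t, hf t⟩ : E) :
      E ⧸ (Subgroup.normalizer ((J S.XZ 1 8 : Subgroup G) : Set G)).subgroupOf E)) ?_
  intro s t hst
  have h1 : (QuotientGroup.mk (⟨f s, hf s⟩ : E) :
      E ⧸ (Subgroup.normalizer ((J S.XZ 1 8 : Subgroup G) : Set G)).subgroupOf E)
      = QuotientGroup.mk (⟨f t, hf t⟩ : E) := hst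
  have h2 := QuotientGroup.eq.1 h1
  exact hinj s t h2

theorem tr_one (hF : ∃ c : Fˣ, c ≠ 1) (hR : S.R.p = 2) : Tr (J S.XZ 1 9) (J S.XZ 1 8) := by
  refine tr_of_form S hF hR (J_mono le_rfl (by norm_num)) (n := S.n1) ?_ ?_
  · intro t ht
    have := S.n1_T ht
    rw [n1_inv] at this ⊢
    exact this
  · intro g hg
    obtain ⟨l, hl, q, hq, rfl⟩ := S.J19_split hg
    have hq' : q ∈ J S.XZ 1 8 := J_mono (by norm_num) le_rfl hq
    obtain ⟨b, hb, t, ht, h | ⟨b', hb', h⟩⟩ := HO_form S (g := l) (Subgroup.mem_sup_left hl)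
    · refine ⟨b * (t * q * t⁻¹), mul_mem hb (S.T_conj_J ht hq'), t, ht, Or.inl ?_⟩
      rw [h]; group
    · refine ⟨b, hb, t, ht, Or.inr ⟨b' * q, mul_mem hb' hq', ?_⟩⟩
      rw [h]; group

theorem tr_two (hF : ∃ c : Fˣ, c ≠ 1) (hR : S.R.p = 2) : Tr (J S.XZ 0 8) (J S.XZ 1 8) := by
  refine tr_of_form S hF hR (J_mono (by norm_num) le_rfl) (n := S.n2) ?_ ?_
  · intro t ht
    obtain ⟨c, d, rfl⟩ := S.mem_T.1 ht
    have := S.n2_h c d
    rw [n2_inv] at this ⊢
    rw [this]
    exact S.mem_T.2 ⟨_, _, rfl⟩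
  · intro g hg
    have hz : S.e 2 0 1 ∈ S.Zc 2 := S.mem_Zc.2 ⟨1, rfl⟩
    have hz1 : S.e 2 0 1 ≠ 1 := fun h => one_ne_zero (S.e_eq_one h).2
    have hgP : g ∈ S.PL := hg
    exact S.form_of_conj hz hz1 (by rw [S.comm_PL hgP hz, mul_inv_cancel_right]; exact hz)

theorem card_one (hF : ∃ c : Fˣ, c ≠ 1) (hR : S.R.p = 2) :
    Nat.card F ≤ (Subgroup.normalizer ((J S.XZ 1 8 : Subgroup G) : Set G)).relIndex (J S.XZ 1 9) := by
  refine card_le_relIndex S (fun t => S.o 0 t * S.n1) (fun t => mul_mem (mem_J (S.mX1 t) le_rfl (by norm_num))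
    (S.LO_le_J S.n1_mem_LO)) ?_
  intro s t h
  have e : (S.o 0 s * S.n1)⁻¹ * (S.o 0 t * S.n1) = S.o 4 (s + t) := by
    have h1 : (S.o 0 s * S.n1)⁻¹ * (S.o 0 t * S.n1) = S.n1 * (S.o 0 s * S.o 0 t) * S.n1⁻¹ := by
      rw [mul_inv_rev, o_inv, n1_inv]; group
    rw [h1, S.o_add, S.n1_o, sub_zero]
  have h' : S.o 4 (s + t) ∈ Subgroup.normalizer ((J S.XZ 1 8 : Subgroup G) : Set G) := by
    rw [← e]; exact h
  have h2 := mem_U_of_sq S hF hR h' (o_sq S 4 _)
  have h3 := X9_inf_U S (S.mX9 _) h2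
  have h4 := S.o_eq_one h3
  have h5 : t + t = 0 := char2 S t
  calc s = s + t + t := by rw [add_assoc, h5, add_zero]
    _ = t := by rw [h4, zero_add]

theorem card_two (hF : ∃ c : Fˣ, c ≠ 1) (hR : S.R.p = 2) :
    Nat.card F ≤ (Subgroup.normalizer ((J S.XZ 1 8 : Subgroup G) : Set G)).relIndex (J S.XZ 0 8) := by
  refine card_le_relIndex S (fun t => S.e 4 0 t * S.n2) (fun t => mul_mem (mem_J (S.mX8 0 t) (by norm_num) le_rfl)
    S.n2_mem) ?_
  intro s t h
  have e : (S.e 4 0 s * S.n2)⁻¹ * (S.e 4 0 t * S.n2) = S.e 0 0 (s + t) := by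
    have h1 : (S.e 4 0 s * S.n2)⁻¹ * (S.e 4 0 t * S.n2) = S.n2 * (S.e 4 0 s * S.e 4 0 t) * S.n2⁻¹ := by
      rw [mul_inv_rev, z_inv, n2_inv]; group
    rw [h1, S.e_mul, S.n2_e, sub_self]
    simp
  have h' : S.e 0 0 (s + t) ∈ Subgroup.normalizer ((J S.XZ 1 8 : Subgroup G) : Set G) := by
    rw [← e]; exact h
  have h2 := mem_U_of_sq S hF hR h' (z_sq S 0 _)
  have h3 := X0_inf_U S ((mem_X0 S).2 ⟨0, _, rfl⟩) h2
  have h4 := (S.e_eq_one h3).2
  have h5 : t + t = 0 := char2 S t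
  calc s = s + t + t := by rw [add_assoc, h5, add_zero]
    _ = t := by rw [h4, zero_add]

/-- **The row.** -/
theorem row_full {m : ℕ} (hm : 1 ≤ m) (hcard : Nat.card F = 2 ^ (2 * m + 1)) (hR : S.R.p = 2) :
    RowEH3.{u} G := by
  have h8 : 8 ≤ Nat.card F := by
    rw [hcard]
    calc 8 = 2 ^ 3 := by norm_num
      _ ≤ 2 ^ (2 * m + 1) := Nat.pow_le_pow_right (by norm_num) (by omega)
  have hF : ∃ c : Fˣ, c ≠ 1 := by
    by_contra hcon
    push Not at hcon
    let _ := Fintype.ofFinite F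
    have h2 : Nat.card Fˣ = Nat.card F - 1 := Nat.card_units F
    have h3 : Nat.card Fˣ ≤ 1 := by
      have : Subsingleton Fˣ := ⟨fun x y => by rw [hcon x, hcon y]⟩
      exact Finite.card_le_one_iff_subsingleton.2 this
    omega
  obtain ⟨P, hP⟩ := exists_sylow S hF hR
  have hone : (1 : ℕ) ≤ Nat.card F := by omega
  refine row_inner (K := G) ?_ ?_ P ?_ ?_ (E₁ := J S.XZ 1 9) (E₂ := J S.XZ 0 8) ?_ ?_ ?_ ?_ ?_ ?_
  · rw [eq_bot_iff]
    intro z hz
    rw [Subgroup.mem_bot]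
    exact center_eq_bot S hF fun g => Subgroup.mem_center_iff.1 hz g
  · intro α n hα
    exact inner S hcard hF hR hα
  · intro g hg k hk
    rw [hP] at hg hk
    show _ ∈ (P : Subgroup G)
    rw [hP]
    exact comm_N S hF hR hg hk
  · intro g hg
    rw [hP] at hg
    refine ⟨Nat.card F - 1, ?_, ?_, ?_⟩
    · rw [hcard, pow_succ]
      exact ⟨2 ^ (2 * m) - 1, by have := Nat.one_le_two_pow (n := 2 * m); omega⟩
    · rw [hcard]
      exact cop_three m
    · show _ ∈ (P : Subgroup G)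
      rw [hP]
      exact pow_N S hF hR hg
  · rw [hP]; exact tr_one S hF hR
  · rw [hP]; exact tr_two S hF hR
  · rw [hP]; exact lt_of_lt_of_le (by omega) (card_one S hF hR)
  · rw [hP]; exact lt_of_lt_of_le (by omega) (card_two S hF hR)
  · exact eq_top_of S (le_sup_of_le_right (X_le_J le_rfl (by norm_num)))
      (le_sup_of_le_left (X_le_J le_rfl (by norm_num))) (le_sup_of_le_left (X_le_J (by norm_num) (by norm_num)))
      (le_sup_of_le_left (X_le_J (by norm_num) le_rfl))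
  · exact ⟨S.o 0 1, fun h => one_ne_zero (S.o_eq_one h)⟩

end coord

/-- **The row `²F₄(q)`, `q ≥ 8`, of EH3.** -/
theorem row_twF4 {K : Type v} [Group K] (h : Iso2F4 K) : RowEH3.{u} K := by
  obtain ⟨F, _, _, m, hm, hK, ⟨e⟩⟩ := h
  obtain ⟨φ, hφ⟩ := Cfsg.Agent.ChevalleyStructure.TwF4.TwistedFix.exists_rln hK
  have := Cfsg.Agent.ChevalleyStructure.TwF4.Twisted.charP_two hK
  have : Finite ↥(twistedF4 F (2 ^ m)) := inferInstance
  exact RowEH3.equiv e (row_full (Cfsg.Agent.KFacts.TwF4.Inst.full hK hφ) hm (by rw [Nat.card_eq_fintype_card, hK]) rfl)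

end Cfsg.Agent.Omega.EH3.TwF4Row

end
end
end
end
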